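import Mathlib
import Cfsg.Agent.H883.Bridge
import Mathlib.GroupTheory.SpecificGroups.Alternating
import Cfsg.Agent.Lib.AltCarmichael
import Mathlib.GroupTheory.Perm.ViaEmbedding
import Cfsg.Agent.H906.Cover_m3
import Cfsg.Agent.S0892
import Cfsg.Agent.S2653
import Cfsg.Agent.FastGrp
import Cfsg.Agent.Prune
set_option linter.all false

section
prune_inst 0x7fbeacfba8fcb9dfdfff7e77a79ecdfdfdbcbfffe6dfa9cbffe029efab9f6b82cdc1638d0be012fc1f83c01410e87b43fdffeeffe06bd87ffffd1ff41ffbff9fedf73508519c88b40fbc2ff603f0778e7f3fffffffffffffffffffffffffffbeffbdffffffff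

-- part: H614/AMod/Disp
section
set_option linter.all false
open scoped Cfsg.Agent.FastGrp

/-!
# Commutator spaces `[V, g]` in a representation

* `U ρ g = [V, g]`, `triv ρ W = {g | [V, g] ≤ W}`, `pst ρ W` the pointwise stabilizer;
* `U_conj`, `finrank_U_conj`, `U_inv`;
* `fixV_eq_bot` : no fixed vectors in a non-trivial irreducible representation.
-/

set_option autoImplicit false
set_option linter.unusedSectionVars false

namespace Cfsg.Agent.H614.AMod

variable {K V G : Type*} [Field K] [AddCommGroup V] [Module K V] [Group G] (ρ : Representation K G V)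

theorem rho_mul (g h : G) (v : V) : ρ (g * h) v = ρ g (ρ h v) := by rw [map_mul]; rfl
theorem rho_one (v : V) : ρ 1 v = v := by rw [map_one]; rfl
theorem rho_inv_self (g : G) (v : V) : ρ g⁻¹ (ρ g v) = v := by rw [← rho_mul, inv_mul_cancel, rho_one]
theorem rho_self_inv (g : G) (v : V) : ρ g (ρ g⁻¹ v) = v := by rw [← rho_mul, mul_inv_cancel, rho_one]

/-- the commutator space `[V, g]` -/
def U (g : G) : Submodule K V := LinearMap.range (ρ g - 1)

theorem mem_U {g : G} {v : V} : v ∈ U ρ g ↔ ∃ u, ρ g u - u = v := by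
  unfold U
  rw [LinearMap.mem_range]
  rfl

theorem sub_mem_U (g : G) (v : V) : ρ g v - v ∈ U ρ g := (mem_U ρ).mpr ⟨v, rfl⟩

/-- the elements acting trivially on `V / W` -/
def triv (W : Submodule K V) : Subgroup G where
  carrier := {g | ∀ v, ρ g v - v ∈ W}
  one_mem' := fun v => by rw [rho_one, sub_self]; exact W.zero_mem
  mul_mem' := fun {a b} ha hb v => by
    have h1 : ρ (a * b) v - v = (ρ a (ρ b v) - ρ b v) + (ρ b v - v) := by rw [rho_mul]; abel
    rw [h1]
    exact W.add_mem (ha _) (hb _)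
  inv_mem' := fun {a} ha v => by
    have h1 := ha (ρ a⁻¹ v)
    rw [rho_self_inv] at h1
    have h2 := W.neg_mem h1
    rwa [neg_sub] at h2

theorem mem_triv {W : Submodule K V} {g : G} : g ∈ triv ρ W ↔ ∀ v, ρ g v - v ∈ W := Iff.rfl

theorem U_le_iff {W : Submodule K V} {g : G} : U ρ g ≤ W ↔ g ∈ triv ρ W := by
  rw [mem_triv]
  constructor
  · intro h v
    exact h (sub_mem_U ρ g v)
  · intro h v hv
    obtain ⟨u, rfl⟩ := (mem_U ρ).mp hv
    exact h u

/-- the pointwise stabilizer of `W` -/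
def pst (W : Submodule K V) : Subgroup G where
  carrier := {g | ∀ w ∈ W, ρ g w = w}
  one_mem' := fun w _ => rho_one ρ w
  mul_mem' := fun {a b} ha hb w hw => by rw [rho_mul, hb w hw, ha w hw]
  inv_mem' := fun {a} ha w hw => by
    have h1 := rho_inv_self ρ a w
    rwa [ha w hw] at h1

theorem mem_pst {W : Submodule K V} {g : G} : g ∈ pst ρ W ↔ ∀ w ∈ W, ρ g w = w := Iff.rfl

theorem pst_anti {W W' : Submodule K V} (h : W ≤ W') : pst ρ W' ≤ pst ρ W := fun _ hg w hw => hg w (h hw)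

theorem mem_pst_sup {W W' : Submodule K V} {g : G} (h : g ∈ pst ρ W) (h' : g ∈ pst ρ W') : g ∈ pst ρ (W ⊔ W') := by
  intro w hw
  obtain ⟨a, ha, b, hb, rfl⟩ := Submodule.mem_sup.mp hw
  rw [map_add, h a ha, h' b hb]

theorem U_inv (g : G) : U ρ g⁻¹ = U ρ g := by
  apply le_antisymm
  · rw [U_le_iff]
    exact Subgroup.inv_mem _ ((U_le_iff ρ).mp le_rfl)
  · rw [U_le_iff]
    have h := Subgroup.inv_mem _ ((U_le_iff ρ (W := U ρ g⁻¹) (g := g⁻¹)).mp le_rfl)
    rwa [inv_inv] at h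

theorem U_mul_le (g h : G) : U ρ (g * h) ≤ U ρ g ⊔ U ρ h := by
  rw [U_le_iff]
  exact Subgroup.mul_mem _ ((U_le_iff ρ).mp le_sup_left) ((U_le_iff ρ).mp le_sup_right)

theorem mem_U_conj {g h : G} {v : V} (hv : v ∈ U ρ g) : ρ h v ∈ U ρ (h * g * h⁻¹) := by
  obtain ⟨u, rfl⟩ := (mem_U ρ).mp hv
  refine (mem_U ρ).mpr ⟨ρ h u, ?_⟩
  rw [rho_mul, rho_mul, rho_inv_self, map_sub]

/-- the linear automorphism of `V` belonging to `g` -/
noncomputable def aut (g : G) : V ≃ₗ[K] V :=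
  LinearEquiv.ofLinear (ρ g) (ρ g⁻¹) (by ext v; exact rho_self_inv ρ g v) (by ext v; exact rho_inv_self ρ g v)

theorem U_conj (g h : G) : (U ρ g).map (aut ρ h : V →ₗ[K] V) = U ρ (h * g * h⁻¹) := by
  apply le_antisymm
  · rw [Submodule.map_le_iff_le_comap]
    intro v hv
    exact mem_U_conj ρ hv
  · intro v hv
    refine ⟨ρ h⁻¹ v, ?_, rho_self_inv ρ h v⟩
    have h1 := mem_U_conj ρ (h := h⁻¹) hv
    have h2 : h⁻¹ * (h * g * h⁻¹) * h⁻¹⁻¹ = g := by group
    rwa [h2] at h1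

theorem finrank_U_conj (g h : G) : Module.finrank K (U ρ (h * g * h⁻¹)) = Module.finrank K (U ρ g) := by
  rw [← U_conj]
  exact LinearEquiv.finrank_map_eq (aut ρ h) _

theorem map_inf_conj (g g' h : G) (hb : U ρ g ⊓ U ρ g' = ⊥) : U ρ (h * g * h⁻¹) ⊓ U ρ (h * g' * h⁻¹) = ⊥ := by
  rw [← U_conj, ← U_conj, ← Submodule.map_inf _ (aut ρ h).injective, hb, Submodule.map_bot]

theorem pst_conj {g h k : G} (hk : k ∈ pst ρ (U ρ g)) : h * k * h⁻¹ ∈ pst ρ (U ρ (h * g * h⁻¹)) := by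
  intro w hw
  have h1 := mem_U_conj ρ (h := h⁻¹) hw
  have h2 : h⁻¹ * (h * g * h⁻¹) * h⁻¹⁻¹ = g := by group
  rw [h2] at h1
  rw [rho_mul, rho_mul, hk _ h1, rho_self_inv]

/-- the fixed space -/
def fixV : Submodule K V where
  carrier := {v | ∀ g : G, ρ g v = v}
  zero_mem' := fun g => map_zero _
  add_mem' := fun {a b} ha hb g => by rw [map_add, ha g, hb g]
  smul_mem' := fun c {a} ha g => by rw [map_smul, ha g]

/-- irreducible in the elementary sense -/
def Irr : Prop := ∀ W : Submodule K V, (∀ g : G, ∀ w ∈ W, ρ g w ∈ W) → W = ⊥ ∨ W = ⊤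

theorem fixV_eq_bot (hirr : Irr ρ) {g : G} {v : V} (h : ρ g v ≠ v) : fixV ρ = ⊥ := by
  rcases hirr (fixV ρ) (fun g w hw h' => by rw [hw g, hw h']) with h1 | h1
  · exact h1
  · exfalso
    have h2 : v ∈ fixV ρ := by rw [h1]; trivial
    exact h (h2 g)

theorem pst_ne_top (hirr : Irr ρ) {g : G} {v : V} (h : ρ g v ≠ v) {W : Submodule K V} (hW : W ≠ ⊥) :
    pst ρ W ≠ ⊤ := by
  intro h1
  apply hW
  rw [eq_bot_iff, ← fixV_eq_bot ρ hirr h]
  intro w hw g
  have h2 : g ∈ pst ρ W := by rw [h1]; trivial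
  exact h2 w hw

end Cfsg.Agent.H614.AMod
end

-- part: H614/AMod/Wt
section
set_option linter.all false
open scoped Cfsg.Agent.FastGrp

/-!
# Weight spaces of commuting involutions in odd or zero characteristic

* `eg ρ g c` : the eigenspace of `g`;
* `split` : `dim W = dim (W ∩ {g = 1}) + dim (W ∩ {g = -1})`;
* `finrank_conj` : conjugate weight spaces have the same dimension;
* `four` : the three non-trivial weights of a four-group permuted by an element of order 3.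
-/

set_option autoImplicit false
set_option linter.unusedSectionVars false

namespace Cfsg.Agent.H614.AMod

variable {K V G : Type*} [Field K] [AddCommGroup V] [Module K V] [Group G] (ρ : Representation K G V)

/-- eigenspace -/
def eg (g : G) (c : K) : Submodule K V where
  carrier := {v | ρ g v = c • v}
  zero_mem' := by simp
  add_mem' := fun {a b} ha hb => by
    have ha' : ρ g a = c • a := ha
    have hb' : ρ g b = c • b := hb
    show ρ g (a + b) = c • (a + b)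
    rw [map_add, ha', hb', smul_add]
  smul_mem' := fun d {a} ha => by
    have ha' : ρ g a = c • a := ha
    show ρ g (d • a) = c • (d • a)
    rw [map_smul, ha', smul_comm]

theorem mem_eg {g : G} {c : K} {v : V} : v ∈ eg ρ g c ↔ ρ g v = c • v := Iff.rfl

theorem mem_eg_one {g : G} {v : V} : v ∈ eg ρ g 1 ↔ ρ g v = v := by rw [mem_eg, one_smul]

theorem mem_eg_neg {g : G} {v : V} : v ∈ eg ρ g (-1) ↔ ρ g v = -v := by rw [mem_eg, neg_one_smul]

/-- invariance -/
def Inv (W : Submodule K V) (g : G) : Prop := ∀ w ∈ W, ρ g w ∈ W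

theorem Inv.inf {W W' : Submodule K V} {g : G} (h : Inv ρ W g) (h' : Inv ρ W' g) : Inv ρ (W ⊓ W') g :=
  fun w hw => ⟨h w hw.1, h' w hw.2⟩

theorem inv_top (g : G) : Inv ρ (⊤ : Submodule K V) g := fun _ _ => trivial

theorem inv_eg {g h : G} (hc : g * h = h * g) (c : K) : Inv ρ (eg ρ g c) h := by
  intro w hw
  rw [mem_eg] at hw ⊢
  rw [← rho_mul, hc, rho_mul, hw, map_smul]

variable [FiniteDimensional K V]

theorem finrank_map_aut (W : Submodule K V) (h : G) :
    Module.finrank K (W.map (aut ρ h : V →ₗ[K] V)) = Module.finrank K W := LinearEquiv.finrank_map_eq (aut ρ h) _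

theorem split (h2 : (2 : K) ≠ 0) {g : G} (hg : g * g = 1) {W : Submodule K V} (hW : Inv ρ W g) :
    Module.finrank K W = Module.finrank K (W ⊓ eg ρ g 1 : Submodule K V) +
      Module.finrank K (W ⊓ eg ρ g (-1) : Submodule K V) := by
  have hdis : (W ⊓ eg ρ g 1) ⊓ (W ⊓ eg ρ g (-1)) = ⊥ := by
    rw [eq_bot_iff]
    intro v hv
    obtain ⟨⟨-, h3⟩, ⟨-, h4⟩⟩ := hv
    rw [SetLike.mem_coe, mem_eg_one] at h3
    rw [SetLike.mem_coe, mem_eg_neg, h3] at h4
    rw [Submodule.mem_bot]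
    have h5 : (2 : K) • v = 0 := by
      rw [two_smul]
      nth_rw 1 [h4]
      exact neg_add_cancel v
    rcases smul_eq_zero.mp h5 with h | h
    · exact absurd h h2
    · exact h
  have hsup : (W ⊓ eg ρ g 1) ⊔ (W ⊓ eg ρ g (-1)) = W := by
    apply le_antisymm (sup_le inf_le_left inf_le_left)
    intro v hv
    have hgg : ρ g (ρ g v) = v := by rw [← rho_mul, hg, rho_one]
    have e1 : v = (2 : K)⁻¹ • (v + ρ g v) + (2 : K)⁻¹ • (v - ρ g v) := by
      rw [← smul_add]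
      have : (v + ρ g v) + (v - ρ g v) = (2 : K) • v := by rw [two_smul]; abel
      rw [this, smul_smul, inv_mul_cancel₀ h2, one_smul]
    rw [e1]
    apply Submodule.add_mem_sup
    · refine ⟨W.smul_mem _ (W.add_mem hv (hW v hv)), ?_⟩
      rw [SetLike.mem_coe, mem_eg_one, map_smul, map_add, hgg, add_comm (ρ g v) v]
    · refine ⟨W.smul_mem _ (W.sub_mem hv (hW v hv)), ?_⟩
      rw [SetLike.mem_coe, mem_eg_neg, map_smul, map_sub, hgg, ← smul_neg, neg_sub]
  have h3 := Submodule.finrank_sup_add_finrank_inf_eq (W ⊓ eg ρ g 1) (W ⊓ eg ρ g (-1))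
  rw [hdis, hsup, finrank_bot, add_zero] at h3
  exact h3

/-- transport of a dimension by an element of the group -/
theorem finrank_le_of_map {W W' : Submodule K V} (h : G) (hm : ∀ w ∈ W, ρ h w ∈ W') :
    Module.finrank K W ≤ Module.finrank K W' := by
  rw [← finrank_map_aut ρ W h]
  apply Submodule.finrank_mono
  rintro _ ⟨w, hw, rfl⟩
  exact hm w hw

theorem finrank_eq_of_map {W W' : Submodule K V} (h : G) (hm : ∀ w ∈ W, ρ h w ∈ W')
    (hm' : ∀ w ∈ W', ρ h⁻¹ w ∈ W) : Module.finrank K W = Module.finrank K W' :=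
  le_antisymm (finrank_le_of_map ρ h hm) (finrank_le_of_map ρ h⁻¹ hm')

/-- moving an eigenvector -/
theorem eg_move {g h g' : G} (hh : h * g = g' * h) {c : K} {v : V} (hv : v ∈ eg ρ g c) : ρ h v ∈ eg ρ g' c := by
  rw [mem_eg] at hv ⊢
  rw [← rho_mul, ← hh, rho_mul, hv, map_smul]

theorem eg_mul {g h : G} {c d : K} {v : V} (hg : v ∈ eg ρ g c) (hh : v ∈ eg ρ h d) : v ∈ eg ρ (g * h) (c * d) := by
  rw [mem_eg] at hg hh ⊢
  rw [rho_mul, hh, map_smul, hg, smul_smul, mul_comm]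

/-- a four-group `⟨x, y⟩` and an element `c` with `c x c⁻¹ = x y`, `c y c⁻¹ = x` -/
structure Four (x y c : G) : Prop where
  xx : x * x = 1
  yy : y * y = 1
  xy : x * y = y * x
  cx : c * x = (x * y) * c
  cy : c * y = x * c

theorem Four.conj {x y c : G} (h : Four x y c) {Z : Submodule K V} (hc : Inv ρ Z c) (hc' : Inv ρ Z c⁻¹) :
    Module.finrank K (Z ⊓ eg ρ x 1 ⊓ eg ρ y (-1) : Submodule K V) =
      Module.finrank K (Z ⊓ eg ρ x (-1) ⊓ eg ρ y (-1) : Submodule K V) ∧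
    Module.finrank K (Z ⊓ eg ρ x (-1) ⊓ eg ρ y (-1) : Submodule K V) =
      Module.finrank K (Z ⊓ eg ρ x (-1) ⊓ eg ρ y 1 : Submodule K V) := by
  have e1 : ∀ w ∈ Z ⊓ eg ρ x 1 ⊓ eg ρ y (-1), ρ c w ∈ Z ⊓ eg ρ x (-1) ⊓ eg ρ y (-1) := by
    rintro w ⟨⟨hZ, hx⟩, hy⟩
    have h1 := eg_move ρ h.cx hx
    have h2 := eg_move ρ h.cy hy
    refine ⟨⟨hc w hZ, h2⟩, ?_⟩
    have h3 := eg_mul ρ h2 h1
    rwa [← mul_assoc, h.xx, one_mul, mul_one] at h3
  have e2 : ∀ w ∈ Z ⊓ eg ρ x (-1) ⊓ eg ρ y (-1), ρ c w ∈ Z ⊓ eg ρ x (-1) ⊓ eg ρ y 1 := by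
    rintro w ⟨⟨hZ, hx⟩, hy⟩
    have h1 := eg_move ρ h.cx hx
    have h2 := eg_move ρ h.cy hy
    refine ⟨⟨hc w hZ, h2⟩, ?_⟩
    have h3 := eg_mul ρ h2 h1
    rwa [← mul_assoc, h.xx, one_mul, neg_mul_neg, one_mul] at h3
  have e3 : ∀ w ∈ Z ⊓ eg ρ x (-1) ⊓ eg ρ y 1, ρ c w ∈ Z ⊓ eg ρ x 1 ⊓ eg ρ y (-1) := by
    rintro w ⟨⟨hZ, hx⟩, hy⟩
    have h1 := eg_move ρ h.cx hx
    have h2 := eg_move ρ h.cy hy
    refine ⟨⟨hc w hZ, h2⟩, ?_⟩
    have h3 := eg_mul ρ h2 h1
    rwa [← mul_assoc, h.xx, one_mul, one_mul] at h3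
  have l1 := finrank_le_of_map ρ c e1
  have l2 := finrank_le_of_map ρ c e2
  have l3 := finrank_le_of_map ρ c e3
  constructor <;> omega

theorem Four.sum (h2 : (2 : K) ≠ 0) {x y c : G} (h : Four x y c) {Z : Submodule K V} (hx : Inv ρ Z x) (hy : Inv ρ Z y)
    (hc : Inv ρ Z c) (hc' : Inv ρ Z c⁻¹) :
    Module.finrank K Z = Module.finrank K (Z ⊓ eg ρ x 1 ⊓ eg ρ y 1 : Submodule K V) +
      3 * Module.finrank K (Z ⊓ eg ρ x 1 ⊓ eg ρ y (-1) : Submodule K V) := by
  have s1 := split ρ h2 h.xx hx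
  have s2 := split ρ h2 h.yy (hy.inf ρ (inv_eg ρ h.xy 1))
  have s3 := split ρ h2 h.yy (hy.inf ρ (inv_eg ρ h.xy (-1)))
  obtain ⟨c1, c2⟩ := h.conj ρ hc hc'
  omega

end Cfsg.Agent.H614.AMod
end

-- part: H614/AMod/Eight
section
set_option linter.all false
open scoped Cfsg.Agent.FastGrp

/-!
# Representations of `Alt (Fin 8)` of degree at most 12, odd or zero characteristic: weights of `2^4`

* `nW s t u v` : the dimensions of the weight spaces of `V₄ × V₄`;
* `weights` : if `(a₁ - 1)(b₁ - 1) ≠ 0` then the nine weights non-trivial on both factors have multiplicity one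
  and the six others have multiplicity zero.
-/

set_option autoImplicit false
set_option linter.unusedSectionVars false

namespace Cfsg.Agent.H614.AMod

open Equiv Equiv.Perm

abbrev A8 : Type := alternatingGroup (Fin 8)

namespace E8

def a1 : A8 := ⟨swap (0 : Fin 8) 1 * swap (2 : Fin 8) 3, by rw [mem_alternatingGroup]; decide⟩
def a2 : A8 := ⟨swap (0 : Fin 8) 2 * swap (1 : Fin 8) 3, by rw [mem_alternatingGroup]; decide⟩
def b1 : A8 := ⟨swap (4 : Fin 8) 5 * swap (6 : Fin 8) 7, by rw [mem_alternatingGroup]; decide⟩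
def b2 : A8 := ⟨swap (4 : Fin 8) 6 * swap (5 : Fin 8) 7, by rw [mem_alternatingGroup]; decide⟩
def c : A8 := ⟨swap (0 : Fin 8) 1 * swap (1 : Fin 8) 2, by rw [mem_alternatingGroup]; decide⟩
def c' : A8 := ⟨swap (4 : Fin 8) 5 * swap (5 : Fin 8) 6, by rw [mem_alternatingGroup]; decide⟩
def s : A8 := ⟨swap (0 : Fin 8) 4 * swap (1 : Fin 8) 5 * swap (2 : Fin 8) 6 * swap (3 : Fin 8) 7, by rw [mem_alternatingGroup]; decide⟩
def s' : A8 := ⟨swap (0 : Fin 8) 5 * swap (1 : Fin 8) 4 * swap (2 : Fin 8) 6 * swap (3 : Fin 8) 7, by rw [mem_alternatingGroup]; decide⟩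
def t : A8 := ⟨swap (0 : Fin 8) 1 * swap (4 : Fin 8) 5, by rw [mem_alternatingGroup]; decide⟩

theorem four_a : Four a1 a2 c := ⟨by decide, by decide, by decide, by decide, by decide⟩
theorem four_b : Four b1 b2 c' := ⟨by decide, by decide, by decide, by decide, by decide⟩

end E8

open E8

variable {K V : Type*} [Field K] [AddCommGroup V] [Module K V] [FiniteDimensional K V] (ρ : Representation K A8 V)

/-- weight spaces of `V₄ × V₄` -/
def W (x y z w : K) : Submodule K V := eg ρ a1 x ⊓ eg ρ a2 y ⊓ eg ρ b1 z ⊓ eg ρ b2 w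

/-- their dimensions -/
noncomputable def nW (x y z w : K) : ℕ := Module.finrank K (W ρ x y z w)

theorem W_eq (x y z w : K) : W ρ x y z w = eg ρ b1 z ⊓ eg ρ b2 w ⊓ eg ρ a1 x ⊓ eg ρ a2 y := by
  unfold W
  ext v
  simp only [Submodule.mem_inf]
  tauto

theorem inv_a (x y : K) {g : A8} (h1 : a1 * g = g * a1) (h2 : a2 * g = g * a2) : Inv ρ (eg ρ a1 x ⊓ eg ρ a2 y) g :=
  Inv.inf ρ (inv_eg ρ h1 x) (inv_eg ρ h2 y)

theorem inv_b (x y : K) {g : A8} (h1 : b1 * g = g * b1) (h2 : b2 * g = g * b2) : Inv ρ (eg ρ b1 x ⊓ eg ρ b2 y) g :=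
  Inv.inf ρ (inv_eg ρ h1 x) (inv_eg ρ h2 y)

theorem conj_b (x y : K) : nW ρ x y 1 (-1) = nW ρ x y (-1) (-1) ∧ nW ρ x y (-1) (-1) = nW ρ x y (-1) 1 :=
  four_b.conj ρ (inv_a ρ x y (by decide) (by decide)) (inv_a ρ x y (by decide) (by decide))

theorem conj_a (z w : K) : nW ρ 1 (-1) z w = nW ρ (-1) (-1) z w ∧ nW ρ (-1) (-1) z w = nW ρ (-1) 1 z w := by
  have h := four_a.conj ρ (inv_b ρ z w (g := c) (by decide) (by decide)) (inv_b ρ z w (by decide) (by decide))
  unfold nW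
  rw [W_eq, W_eq, W_eq]
  exact h

/-- the swap of the blocks -/
theorem conj_s (x y z w : K) : nW ρ x y z w = nW ρ z w x y := by
  apply finrank_eq_of_map ρ s
  · rintro v ⟨⟨⟨h1, h2⟩, h3⟩, h4⟩
    exact ⟨⟨⟨eg_move ρ (g := b1) (by decide) h3, eg_move ρ (g := b2) (by decide) h4⟩,
      eg_move ρ (g := a1) (by decide) h1⟩, eg_move ρ (g := a2) (by decide) h2⟩
  · rintro v ⟨⟨⟨h1, h2⟩, h3⟩, h4⟩
    exact ⟨⟨⟨eg_move ρ (g := b1) (by decide) h3, eg_move ρ (g := b2) (by decide) h4⟩,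
      eg_move ρ (g := a1) (by decide) h1⟩, eg_move ρ (g := a2) (by decide) h2⟩

theorem total (h2 : (2 : K) ≠ 0) :
    Module.finrank K V = nW ρ 1 1 1 1 + 6 * nW ρ 1 1 1 (-1) + 9 * nW ρ 1 (-1) 1 (-1) := by
  have e0 := four_a.sum ρ h2 (Z := ⊤) (inv_top ρ _) (inv_top ρ _) (inv_top ρ _) (inv_top ρ _)
  rw [top_inf_eq, finrank_top] at e0
  have e1 : Module.finrank K (eg ρ a1 1 ⊓ eg ρ a2 1 : Submodule K V) = nW ρ 1 1 1 1 + 3 * nW ρ 1 1 1 (-1) :=
    four_b.sum ρ h2 (inv_a ρ 1 1 (by decide) (by decide)) (inv_a ρ 1 1 (by decide) (by decide))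
      (inv_a ρ 1 1 (by decide) (by decide)) (inv_a ρ 1 1 (by decide) (by decide))
  have e2 : Module.finrank K (eg ρ a1 1 ⊓ eg ρ a2 (-1) : Submodule K V) =
      nW ρ 1 (-1) 1 1 + 3 * nW ρ 1 (-1) 1 (-1) :=
    four_b.sum ρ h2 (inv_a ρ 1 (-1) (by decide) (by decide)) (inv_a ρ 1 (-1) (by decide) (by decide))
      (inv_a ρ 1 (-1) (by decide) (by decide)) (inv_a ρ 1 (-1) (by decide) (by decide))
  rw [conj_s ρ 1 (-1) 1 1] at e2
  rw [e0, e1, e2]
  ring

/-- splitting with respect to `a₂, b₂` -/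
theorem split_ab (h2 : (2 : K) ≠ 0) (x z : K) :
    Module.finrank K (eg ρ a1 x ⊓ eg ρ b1 z : Submodule K V) =
      nW ρ x 1 z 1 + nW ρ x 1 z (-1) + nW ρ x (-1) z 1 + nW ρ x (-1) z (-1) := by
  have s1 := split ρ h2 four_a.yy (W := eg ρ a1 x ⊓ eg ρ b1 z)
    (Inv.inf ρ (inv_eg ρ (by decide) x) (inv_eg ρ (by decide) z))
  have s2 := split ρ h2 four_b.yy (W := eg ρ a1 x ⊓ eg ρ b1 z ⊓ eg ρ a2 1)
    (Inv.inf ρ (Inv.inf ρ (inv_eg ρ (by decide) x) (inv_eg ρ (by decide) z)) (inv_eg ρ (by decide) 1))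
  have s3 := split ρ h2 four_b.yy (W := eg ρ a1 x ⊓ eg ρ b1 z ⊓ eg ρ a2 (-1))
    (Inv.inf ρ (Inv.inf ρ (inv_eg ρ (by decide) x) (inv_eg ρ (by decide) z)) (inv_eg ρ (by decide) (-1)))
  have hW : ∀ y w : K, eg ρ a1 x ⊓ eg ρ b1 z ⊓ eg ρ a2 y ⊓ eg ρ b2 w = W ρ x y z w := by
    intro y w
    unfold W
    ext v
    simp only [Submodule.mem_inf]
    tauto
  rw [hW, hW] at s2 s3
  unfold nW
  omega

/-- the non-vanishing condition -/
def NZ : Prop := ∃ v : V, ρ a1 (ρ b1 v - v) - (ρ b1 v - v) ≠ 0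

theorem NZ.pos {ρ : Representation K A8 V} (h2 : (2 : K) ≠ 0) (h : NZ ρ) : 1 ≤ nW ρ 1 (-1) 1 (-1) := by
  obtain ⟨v, hv⟩ := h
  have hb : ρ b1 (ρ b1 v) = v := by rw [← rho_mul, four_b.xx, rho_one]
  have h1 : ρ b1 (ρ b1 v - v) = -(ρ b1 v - v) := by rw [map_sub, hb]; abel
  set y := ρ b1 v - v with hy
  have ha : ρ a1 (ρ a1 y) = y := by rw [← rho_mul, four_a.xx, rho_one]
  have h3 : ρ a1 y - y ∈ eg ρ a1 (-1) ⊓ eg ρ b1 (-1) := by
    refine ⟨?_, ?_⟩
    · rw [SetLike.mem_coe, mem_eg_neg, map_sub, ha]; abel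
    · rw [SetLike.mem_coe, mem_eg_neg, map_sub, ← rho_mul, show b1 * a1 = a1 * b1 by decide, rho_mul, h1, map_neg]
      abel
  have h4 : 1 ≤ Module.finrank K (eg ρ a1 (-1) ⊓ eg ρ b1 (-1) : Submodule K V) := by
    rw [Nat.one_le_iff_ne_zero]
    intro h0
    rw [Submodule.finrank_eq_zero] at h0
    rw [h0, Submodule.mem_bot] at h3
    exact hv h3
  rw [split_ab ρ h2] at h4
  have c1 := conj_a ρ 1 (-1)
  have c2 := conj_a ρ (-1) (-1)
  have c3 := conj_a ρ (-1) 1
  have d1 := conj_b ρ 1 (-1)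
  omega

/-- the multiplicities -/
structure Mult : Prop where
  c_one : nW ρ 1 (-1) 1 (-1) = 1
  b_zero : nW ρ 1 1 1 (-1) = 0

theorem weights {ρ : Representation K A8 V} (h2 : (2 : K) ≠ 0) (h : NZ ρ) (hn : Module.finrank K V ≤ 12) : Mult ρ := by
  have h1 := h.pos h2
  have h3 := total ρ h2
  constructor <;> omega

/-- all nine / six multiplicities -/
theorem Mult.nine {ρ : Representation K A8 V} (h : Mult ρ) :
    nW ρ 1 (-1) 1 (-1) = 1 ∧ nW ρ 1 (-1) (-1) (-1) = 1 ∧ nW ρ 1 (-1) (-1) 1 = 1 ∧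
    nW ρ (-1) (-1) 1 (-1) = 1 ∧ nW ρ (-1) (-1) (-1) (-1) = 1 ∧ nW ρ (-1) (-1) (-1) 1 = 1 ∧
    nW ρ (-1) 1 1 (-1) = 1 ∧ nW ρ (-1) 1 (-1) (-1) = 1 ∧ nW ρ (-1) 1 (-1) 1 = 1 := by
  have h0 := h.c_one
  have c1 := conj_a ρ 1 (-1)
  have c2 := conj_a ρ (-1) (-1)
  have c3 := conj_a ρ (-1) 1
  have d1 := conj_b ρ 1 (-1)
  refine ⟨?_, ?_, ?_, ?_, ?_, ?_, ?_, ?_, ?_⟩ <;> omega

theorem Mult.six {ρ : Representation K A8 V} (h : Mult ρ) :
    nW ρ 1 1 1 (-1) = 0 ∧ nW ρ 1 1 (-1) (-1) = 0 ∧ nW ρ 1 1 (-1) 1 = 0 ∧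
    nW ρ 1 (-1) 1 1 = 0 ∧ nW ρ (-1) (-1) 1 1 = 0 ∧ nW ρ (-1) 1 1 1 = 0 := by
  have h0 := h.b_zero
  have c1 := conj_b ρ 1 1
  have c2 := conj_a ρ 1 1
  have c3 := conj_s ρ 1 (-1) 1 1
  refine ⟨?_, ?_, ?_, ?_, ?_, ?_⟩ <;> omega

theorem finrank_a1_b1_neg {ρ : Representation K A8 V} (h2 : (2 : K) ≠ 0) (h : Mult ρ) :
    Module.finrank K (eg ρ a1 (-1) ⊓ eg ρ b1 (-1) : Submodule K V) = 4 := by
  rw [split_ab ρ h2]
  have := h.nine
  omega

theorem finrank_a1_pos_b1_neg {ρ : Representation K A8 V} (h2 : (2 : K) ≠ 0) (h : Mult ρ) :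
    Module.finrank K (eg ρ a1 1 ⊓ eg ρ b1 (-1) : Submodule K V) = 2 := by
  rw [split_ab ρ h2]
  have := h.nine
  have := h.six
  omega

theorem finrank_a1_neg_b1_pos {ρ : Representation K A8 V} (h2 : (2 : K) ≠ 0) (h : Mult ρ) :
    Module.finrank K (eg ρ a1 (-1) ⊓ eg ρ b1 1 : Submodule K V) = 2 := by
  rw [split_ab ρ h2]
  have := h.nine
  have := h.six
  omega

end Cfsg.Agent.H614.AMod
end

-- part: H614/AMod/EightB
section
set_option linter.all false
open scoped Cfsg.Agent.FastGrp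

/-!
# Representations of `Alt (Fin 8)` of degree at most 12: the fixed space of `2^4`

With `C` the fixed space of `V₄ × V₄` and `s` the swap of the blocks:

* `exists_line` : the common fixed space of `d₁, d₂` meets `{s = -1}` in a line, contained in `C`;
* `exists_t` : `t = (0 1)(4 5)` has a non-zero anti-fixed vector in `C`;
* `finrank_d_b1` : a bound.
-/

set_option autoImplicit false
set_option linter.unusedSectionVars false

namespace Cfsg.Agent.H614.AMod

open Equiv Equiv.Perm E8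

namespace E8

def d1 : A8 := a1 * b1
def d2 : A8 := a2 * b2
def u1 : A8 := c * c'
def g1 : A8 := ⟨swap 1 4 * swap 3 6, by rw [mem_alternatingGroup]; decide⟩
def hh : A8 := ⟨swap 2 3 * swap 6 7, by rw [mem_alternatingGroup]; decide⟩
def gg : A8 := ⟨swap 2 4 * swap 3 5, by rw [mem_alternatingGroup]; decide⟩

end E8

variable {K V : Type*} [Field K] [AddCommGroup V] [Module K V] [FiniteDimensional K V] {ρ : Representation K A8 V}

theorem eg_right {G : Type*} [Group G] {ρ : Representation K G V} {g h : G} {x y : K} {v : V} (hg : g * g = 1)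
    (h1 : v ∈ eg ρ g x) (h2 : v ∈ eg ρ (g * h) y) : v ∈ eg ρ h (x * y) := by
  have h3 := eg_mul ρ h1 h2
  rwa [← mul_assoc, hg, one_mul] at h3

theorem eg_left {G : Type*} [Group G] {ρ : Representation K G V} {g h : G} {x y : K} {v : V} (hh : h * h = 1)
    (h1 : v ∈ eg ρ h x) (h2 : v ∈ eg ρ (g * h) y) : v ∈ eg ρ g (y * x) := by
  have h3 := eg_mul ρ h2 h1
  rwa [mul_assoc, hh, mul_one] at h3

/-- `dim {d₁ = -1} = 4` -/
theorem finrank_d1 (h2 : (2 : K) ≠ 0) (h : Mult ρ) : Module.finrank K (eg ρ d1 (-1) : Submodule K V) = 4 := by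
  have s1 := split ρ h2 four_a.xx (W := eg ρ d1 (-1)) (inv_eg ρ (by decide) _)
  have e1 : eg ρ d1 (-1) ⊓ eg ρ a1 1 = eg ρ a1 1 ⊓ eg ρ b1 (-1) := by
    ext v
    constructor
    · rintro ⟨h3, h4⟩
      refine ⟨h4, ?_⟩
      have h5 := eg_right four_a.xx h4 h3
      rwa [one_mul] at h5
    · rintro ⟨h3, h4⟩
      refine ⟨?_, h3⟩
      have h5 := eg_mul ρ h3 h4
      rwa [one_mul] at h5
  have e2 : eg ρ d1 (-1) ⊓ eg ρ a1 (-1) = eg ρ a1 (-1) ⊓ eg ρ b1 1 := by
    ext v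
    constructor
    · rintro ⟨h3, h4⟩
      refine ⟨h4, ?_⟩
      have h5 := eg_right four_a.xx h4 h3
      rwa [neg_mul_neg, one_mul] at h5
    · rintro ⟨h3, h4⟩
      refine ⟨?_, h3⟩
      have h5 := eg_mul ρ h3 h4
      rwa [mul_one] at h5
  rw [e1, e2, finrank_a1_pos_b1_neg h2 h, finrank_a1_neg_b1_pos h2 h] at s1
  exact s1

/-- dimensions of the weight spaces of the regular `2^3` -/
noncomputable def nA (ρ : Representation K A8 V) (x y z : K) : ℕ :=
  Module.finrank K (eg ρ d1 x ⊓ eg ρ d2 y ⊓ eg ρ s z : Submodule K V)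

theorem nA_line (h2 : (2 : K) ≠ 0) (h : Mult ρ) : nA ρ 1 1 (-1) = 1 := by
  have s0 := finrank_d1 h2 h
  have s1 := split ρ h2 (g := d2) (by decide) (W := eg ρ d1 (-1)) (inv_eg ρ (by decide) _)
  have s2 := split ρ h2 (g := s) (by decide) (W := eg ρ d1 (-1) ⊓ eg ρ d2 1)
    (Inv.inf ρ (inv_eg ρ (by decide) _) (inv_eg ρ (by decide) _))
  have s3 := split ρ h2 (g := s) (by decide) (W := eg ρ d1 (-1) ⊓ eg ρ d2 (-1))
    (Inv.inf ρ (inv_eg ρ (by decide) _) (inv_eg ρ (by decide) _))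
  have k1 : nA ρ (-1) 1 1 = nA ρ 1 1 (-1) := by
    apply finrank_eq_of_map ρ g1
    · rintro v ⟨⟨e1, e2⟩, e3⟩
      exact ⟨⟨eg_move ρ (g := s) (by decide) e3, eg_move ρ (g := d2) (by decide) e2⟩,
        eg_move ρ (g := d1) (by decide) e1⟩
    · rintro v ⟨⟨e1, e2⟩, e3⟩
      exact ⟨⟨eg_move ρ (g := s) (by decide) e3, eg_move ρ (g := d2) (by decide) e2⟩,
        eg_move ρ (g := d1) (by decide) e1⟩
  have k2 : nA ρ (-1) 1 1 = nA ρ (-1) 1 (-1) := by
    apply finrank_eq_of_map ρ b1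
    · rintro v ⟨⟨e1, e2⟩, e3⟩
      have e4 := eg_mul ρ e1 e3
      rw [mul_one] at e4
      exact ⟨⟨eg_move ρ (g := d1) (by decide) e1, eg_move ρ (g := d2) (by decide) e2⟩,
        eg_move ρ (g := d1 * s) (by decide) e4⟩
    · rintro v ⟨⟨e1, e2⟩, e3⟩
      have e4 := eg_mul ρ e1 e3
      rw [neg_mul_neg, mul_one] at e4
      exact ⟨⟨eg_move ρ (g := d1) (by decide) e1, eg_move ρ (g := d2) (by decide) e2⟩,
        eg_move ρ (g := d1 * s) (by decide) e4⟩
  have k3 : ∀ z : K, nA ρ (-1) 1 z = nA ρ (-1) (-1) z := by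
    intro z
    apply finrank_eq_of_map ρ hh
    · rintro v ⟨⟨e1, e2⟩, e3⟩
      have e4 := eg_mul ρ e1 e2
      rw [mul_one] at e4
      exact ⟨⟨eg_move ρ (g := d1) (by decide) e1, eg_move ρ (g := d1 * d2) (by decide) e4⟩,
        eg_move ρ (g := s) (by decide) e3⟩
    · rintro v ⟨⟨e1, e2⟩, e3⟩
      have e4 := eg_mul ρ e1 e2
      rw [neg_mul_neg, mul_one] at e4
      exact ⟨⟨eg_move ρ (g := d1) (by decide) e1, eg_move ρ (g := d1 * d2) (by decide) e4⟩,
        eg_move ρ (g := s) (by decide) e3⟩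
  have k4 := k3 1
  have k5 := k3 (-1)
  unfold nA at *
  omega

/-- a line is spanned by any of its non-zero vectors -/
theorem line_span {W : Submodule K V} (hW : Module.finrank K W ≤ 1) {e v : V} (he : e ∈ W) (he0 : e ≠ 0) (hv : v ∈ W) :
    ∃ x : K, v = x • e := by
  have h1 : Submodule.span K {e} = W := by
    apply Submodule.eq_of_le_of_finrank_le
    · rw [Submodule.span_singleton_le_iff_mem]
      exact he
    · rw [finrank_span_singleton he0]
      exact hW
  rw [← h1] at hv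
  obtain ⟨x, hx⟩ := Submodule.mem_span_singleton.mp hv
  exact ⟨x, hx.symm⟩

theorem exists_ne_zero {W : Submodule K V} (hW : 1 ≤ Module.finrank K W) : ∃ e ∈ W, e ≠ 0 := by
  by_contra hne
  push Not at hne
  have : W = ⊥ := by
    rw [eq_bot_iff]
    intro v hv
    rw [Submodule.mem_bot]
    exact hne v hv
  rw [this, finrank_bot] at hW
  omega

/-- The line `{d₁ = d₂ = 1, s = -1}` lies in the fixed space of `V₄ × V₄`. -/
theorem exists_line (h2 : (2 : K) ≠ 0) (h : Mult ρ) :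
    ∃ e : V, e ≠ 0 ∧ e ∈ W ρ 1 1 1 1 ∧ ρ s e = -e ∧
      ∀ v : V, ρ d1 v = v → ρ d2 v = v → ρ s v = -v → ∃ x : K, v = x • e := by
  have hl := nA_line h2 h
  unfold nA at hl
  obtain ⟨e, he, he0⟩ := exists_ne_zero (K := K) (W := eg ρ d1 1 ⊓ eg ρ d2 1 ⊓ eg ρ s (-1)) (by omega)
  have hall : ∀ v : V, ρ d1 v = v → ρ d2 v = v → ρ s v = -v → ∃ x : K, v = x • e := by
    intro v v1 v2 v3
    exact line_span (by omega) he he0 ⟨⟨(mem_eg_one ρ).mpr v1, (mem_eg_one ρ).mpr v2⟩, (mem_eg_neg ρ).mpr v3⟩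
  obtain ⟨⟨e1, e2⟩, e3⟩ := he
  rw [SetLike.mem_coe, mem_eg_one] at e1 e2
  rw [SetLike.mem_coe, mem_eg_neg] at e3
  -- a₁ and b₁ agree on e, a₂ and b₂ too
  have ab1 : ρ b1 e = ρ a1 e := by
    have h3 : ρ (a1 * d1) e = ρ a1 e := by rw [rho_mul, e1]
    rw [← h3, show a1 * d1 = b1 by decide]
  have ab2 : ρ b2 e = ρ a2 e := by
    have h3 : ρ (a2 * d2) e = ρ a2 e := by rw [rho_mul, e2]
    rw [← h3, show a2 * d2 = b2 by decide]
  obtain ⟨x1, hx1⟩ := hall (ρ a1 e)
    (by rw [← rho_mul, show d1 * a1 = a1 * d1 by decide, rho_mul, e1])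
    (by rw [← rho_mul, show d2 * a1 = a1 * d2 by decide, rho_mul, e2])
    (by rw [← rho_mul, show s * a1 = b1 * s by decide, rho_mul, e3, map_neg, ab1])
  obtain ⟨x2, hx2⟩ := hall (ρ a2 e)
    (by rw [← rho_mul, show d1 * a2 = a2 * d1 by decide, rho_mul, e1])
    (by rw [← rho_mul, show d2 * a2 = a2 * d2 by decide, rho_mul, e2])
    (by rw [← rho_mul, show s * a2 = b2 * s by decide, rho_mul, e3, map_neg, ab2])
  obtain ⟨y, hy⟩ := hall (ρ u1 e)
    (by rw [← rho_mul, show d1 * u1 = u1 * d2 by decide, rho_mul, e2])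
    (by rw [← rho_mul, show d2 * u1 = u1 * (d1 * d2) by decide, rho_mul, rho_mul, e2, e1])
    (by rw [← rho_mul, show s * u1 = u1 * s by decide, rho_mul, e3, map_neg])
  have hy0 : y ≠ 0 := by
    rintro rfl
    rw [zero_smul] at hy
    have := rho_inv_self ρ u1 e
    rw [hy, map_zero] at this
    exact he0 this.symm
  have inj : ∀ {p q : K}, p • e = q • e → p = q := fun {p q} hpq => smul_left_injective K he0 hpq
  have hx12 : x1 = x2 := by
    have h3 : ρ a1 (ρ u1 e) = ρ u1 (ρ a2 e) := by rw [← rho_mul, ← rho_mul, show a1 * u1 = u1 * a2 by decide]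
    rw [hy, map_smul, hx1, hx2, map_smul, hy, smul_smul, smul_smul] at h3
    have h4 := inj h3
    rw [mul_comm] at h4
    exact mul_right_cancel₀ hy0 h4
  have hx22 : x2 = x1 * x2 := by
    have h3 : ρ a2 (ρ u1 e) = ρ u1 (ρ a1 (ρ a2 e)) := by
      rw [← rho_mul, ← rho_mul, ← rho_mul, show a2 * u1 = u1 * a1 * a2 by decide]
    rw [hy, map_smul, hx2, map_smul, map_smul, hx1, map_smul, hy, smul_smul, smul_smul, smul_smul] at h3
    have h4 := inj h3
    have h5 : x2 * y = (x1 * x2) * y := by rw [mul_comm x2 y, h4]; ring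
    exact mul_right_cancel₀ hy0 h5
  have hx0 : x2 ≠ 0 := by
    rintro rfl
    rw [zero_smul] at hx2
    have := rho_inv_self ρ a2 e
    rw [hx2, map_zero] at this
    exact he0 this.symm
  have hxx : x1 = 1 := by
    have h5 : 1 * x2 = x1 * x2 := by rw [one_mul]; exact hx22
    exact (mul_right_cancel₀ hx0 h5).symm
  have hx2' : x2 = 1 := by rw [← hx12, hxx]
  have f1 : ρ a1 e = e := by rw [hx1, hxx, one_smul]
  have f2 : ρ a2 e = e := by rw [hx2, hx2', one_smul]
  refine ⟨e, he0, ⟨⟨⟨?_, ?_⟩, ?_⟩, ?_⟩, e3, hall⟩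
  · exact (mem_eg_one ρ).mpr f1
  · exact (mem_eg_one ρ).mpr f2
  · exact (mem_eg_one ρ).mpr (by rw [ab1, f1])
  · exact (mem_eg_one ρ).mpr (by rw [ab2, f2])

/-- an anti-fixed vector of `t` in `C` -/
theorem exists_t (h2 : (2 : K) ≠ 0) (h : Mult ρ) : ∃ v : V, v ≠ 0 ∧ v ∈ W ρ 1 1 1 1 ∧ ρ t v = -v := by
  have e1 := finrank_a1_b1_neg h2 h
  have s1 := split ρ h2 (g := t) (by decide) (W := eg ρ a1 (-1) ⊓ eg ρ b1 (-1))
    (Inv.inf ρ (inv_eg ρ (by decide) _) (inv_eg ρ (by decide) _))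
  have k1 : Module.finrank K (eg ρ a1 (-1) ⊓ eg ρ b1 (-1) ⊓ eg ρ t 1 : Submodule K V) =
      Module.finrank K (eg ρ a1 (-1) ⊓ eg ρ b1 (-1) ⊓ eg ρ t (-1) : Submodule K V) := by
    apply finrank_eq_of_map ρ a2
    · rintro v ⟨⟨f1, f2⟩, f3⟩
      have f4 := eg_mul ρ f1 f3
      rw [mul_one] at f4
      exact ⟨⟨eg_move ρ (g := a1) (by decide) f1, eg_move ρ (g := b1) (by decide) f2⟩,
        eg_move ρ (g := a1 * t) (by decide) f4⟩
    · rintro v ⟨⟨f1, f2⟩, f3⟩
      have f4 := eg_mul ρ f1 f3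
      rw [neg_mul_neg, mul_one] at f4
      exact ⟨⟨eg_move ρ (g := a1) (by decide) f1, eg_move ρ (g := b1) (by decide) f2⟩,
        eg_move ρ (g := a1 * t) (by decide) f4⟩
  have k2 : Module.finrank K (eg ρ a1 1 ⊓ eg ρ b1 1 ⊓ eg ρ t (-1) : Submodule K V) =
      Module.finrank K (eg ρ a1 (-1) ⊓ eg ρ b1 (-1) ⊓ eg ρ t 1 : Submodule K V) := by
    apply finrank_eq_of_map ρ gg
    · rintro v ⟨⟨f1, f2⟩, f3⟩
      have f4 := eg_mul ρ (eg_mul ρ f1 f3) f2
      rw [one_mul, mul_one] at f4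
      exact ⟨⟨eg_move ρ (g := t) (by decide) f3, eg_move ρ (g := a1 * t * b1) (by decide) f4⟩,
        eg_move ρ (g := a1) (by decide) f1⟩
    · rintro v ⟨⟨f1, f2⟩, f3⟩
      have f4 := eg_mul ρ (eg_mul ρ f1 f3) f2
      rw [mul_one, neg_mul_neg, mul_one] at f4
      exact ⟨⟨eg_move ρ (g := t) (by decide) f3, eg_move ρ (g := a1 * t * b1) (by decide) f4⟩,
        eg_move ρ (g := a1) (by decide) f1⟩
  have hT : Module.finrank K (eg ρ a1 1 ⊓ eg ρ b1 1 ⊓ eg ρ t (-1) : Submodule K V) = 2 := by omega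
  have hinv : Inv ρ (eg ρ a1 1 ⊓ eg ρ b1 1 ⊓ eg ρ t (-1)) a2 := by
    rintro v ⟨⟨f1, f2⟩, f3⟩
    have f4 := eg_mul ρ f1 f3
    rw [one_mul] at f4
    exact ⟨⟨eg_move ρ (g := a1) (by decide) f1, eg_move ρ (g := b1) (by decide) f2⟩,
      eg_move ρ (g := a1 * t) (by decide) f4⟩
  have s2 := split ρ h2 (g := a2) (by decide) hinv
  have le1 : Module.finrank K (eg ρ a1 1 ⊓ eg ρ b1 1 ⊓ eg ρ t (-1) ⊓ eg ρ a2 (-1) : Submodule K V) ≤ 1 := by
    have s3 := split ρ h2 (g := b2) (by decide) (W := eg ρ a1 1 ⊓ eg ρ a2 (-1) ⊓ eg ρ b1 1)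
      (Inv.inf ρ (inv_a ρ 1 (-1) (by decide) (by decide)) (inv_eg ρ (by decide) _))
    have n1 : Module.finrank K (eg ρ a1 1 ⊓ eg ρ a2 (-1) ⊓ eg ρ b1 1 ⊓ eg ρ b2 1 : Submodule K V) = 0 :=
      h.six.2.2.2.1
    have n2 : Module.finrank K (eg ρ a1 1 ⊓ eg ρ a2 (-1) ⊓ eg ρ b1 1 ⊓ eg ρ b2 (-1) : Submodule K V) = 1 :=
      h.nine.1
    have le2 : Module.finrank K (eg ρ a1 1 ⊓ eg ρ b1 1 ⊓ eg ρ t (-1) ⊓ eg ρ a2 (-1) : Submodule K V) ≤
        Module.finrank K (eg ρ a1 1 ⊓ eg ρ a2 (-1) ⊓ eg ρ b1 1 : Submodule K V) := by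
      apply Submodule.finrank_mono
      rintro v ⟨⟨⟨f1, f2⟩, f3⟩, f4⟩
      exact ⟨⟨f1, f4⟩, f2⟩
    omega
  obtain ⟨v, ⟨⟨⟨f1, f2⟩, f3⟩, f4⟩, hv0⟩ := exists_ne_zero (K := K)
    (W := eg ρ a1 1 ⊓ eg ρ b1 1 ⊓ eg ρ t (-1) ⊓ eg ρ a2 1) (by omega)
  refine ⟨v, hv0, ?_, (mem_eg_neg ρ).mp f3⟩
  have s4 := split ρ h2 (g := b2) (by decide) (W := eg ρ a1 1 ⊓ eg ρ a2 1 ⊓ eg ρ b1 1)
    (Inv.inf ρ (inv_a ρ 1 1 (by decide) (by decide)) (inv_eg ρ (by decide) _))
  have n3 : Module.finrank K (eg ρ a1 1 ⊓ eg ρ a2 1 ⊓ eg ρ b1 1 ⊓ eg ρ b2 (-1) : Submodule K V) = 0 :=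
    h.six.1
  have h5 : eg ρ a1 1 ⊓ eg ρ a2 1 ⊓ eg ρ b1 1 ⊓ eg ρ b2 1 = eg ρ a1 1 ⊓ eg ρ a2 1 ⊓ eg ρ b1 1 :=
    Submodule.eq_of_le_of_finrank_le inf_le_left (by omega)
  show v ∈ eg ρ a1 1 ⊓ eg ρ a2 1 ⊓ eg ρ b1 1 ⊓ eg ρ b2 1
  rw [h5]
  exact ⟨⟨f1, f4⟩, f2⟩

/-- a bound used for the multiplicities in the fixed space of the regular `2^3` -/
theorem finrank_d_b1 (h2 : (2 : K) ≠ 0) (h : Mult ρ) :
    Module.finrank K (eg ρ d1 1 ⊓ eg ρ d2 1 ⊓ eg ρ b1 (-1) : Submodule K V) ≤ 2 := by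
  have s1 := split ρ h2 (g := b2) (by decide) (W := eg ρ d1 1 ⊓ eg ρ d2 1 ⊓ eg ρ b1 (-1))
    (Inv.inf ρ (Inv.inf ρ (inv_eg ρ (by decide) _) (inv_eg ρ (by decide) _)) (inv_eg ρ (by decide) _))
  have hle : ∀ z : K, eg ρ d1 1 ⊓ eg ρ d2 1 ⊓ eg ρ b1 (-1) ⊓ eg ρ b2 z ≤ W ρ (-1) z (-1) z := by
    rintro z v ⟨⟨⟨f1, f2⟩, f3⟩, f4⟩
    have f5 := eg_left four_b.xx f3 f1
    have f6 := eg_left four_b.yy f4 f2
    rw [one_mul] at f5 f6
    exact ⟨⟨⟨f5, f6⟩, f3⟩, f4⟩
  have l1 := Submodule.finrank_mono (hle 1)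
  have l2 := Submodule.finrank_mono (hle (-1))
  have n1 : Module.finrank K (W ρ (-1) 1 (-1) 1) = 1 := h.nine.2.2.2.2.2.2.2.2
  have n2 : Module.finrank K (W ρ (-1) (-1) (-1) (-1)) = 1 := h.nine.2.2.2.2.1
  omega

end Cfsg.Agent.H614.AMod
end

-- part: H614/AMod/EightC
section
set_option linter.all false
open scoped Cfsg.Agent.FastGrp

/-!
# Representations of `Alt (Fin 8)` of degree at most 12: no sign vector

`star` : there is no non-zero vector fixed by `V₄ × V₄`, `s`, `u₁` and negated by `t`.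
-/

set_option autoImplicit false
set_option linter.unusedSectionVars false

namespace Cfsg.Agent.H614.AMod

open Equiv Equiv.Perm E8

namespace E8

def k3 : A8 := ⟨swap 2 6 * swap 3 7, by rw [mem_alternatingGroup]; decide⟩

end E8

variable {K V : Type*} [Field K] [AddCommGroup V] [Module K V] [FiniteDimensional K V] {ρ : Representation K A8 V}

theorem eq_zero_of_neg (h2 : (2 : K) ≠ 0) {v : V} (h : v = -v) : v = 0 := by
  have h5 : (2 : K) • v = 0 := by
    rw [two_smul]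
    nth_rw 1 [h]
    exact neg_add_cancel v
  rcases smul_eq_zero.mp h5 with h | h
  · exact absurd h h2
  · exact h

theorem star (h2 : (2 : K) ≠ 0) (hM : Mult ρ) {w : V} (hw0 : w ≠ 0) (hwC : w ∈ W ρ 1 1 1 1) (hs : ρ s w = w)
    (hu : ρ u1 w = w) (ht : ρ t w = -w) : False := by
  obtain ⟨⟨⟨ha1, ha2⟩, hb1⟩, hb2⟩ := hwC
  rw [SetLike.mem_coe, mem_eg_one] at ha1 ha2 hb1 hb2
  have hd1 : ρ d1 w = w := by rw [show d1 = a1 * b1 from rfl, rho_mul, hb1, ha1]
  have hd2 : ρ d2 w = w := by rw [show d2 = a2 * b2 from rfl, rho_mul, hb2, ha2]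
  have hhw : ρ hh w = -w := by rw [show hh = d1 * t by decide, rho_mul, ht, map_neg, hd1]
  have hm1 : ρ (g1 * b2 * g1) w = -w := by
    rw [show g1 * b2 * g1 = d2 * u1 * t by decide, rho_mul, rho_mul, ht, map_neg, map_neg, hu, hd2]
  have hm2 : ρ (g1 * gg * g1) w = -w := by
    rw [show g1 * gg * g1 = t * u1 by decide, rho_mul, hu, ht]
  -- the space X
  set WA : Submodule K V := eg ρ d1 1 ⊓ eg ρ d2 1 ⊓ eg ρ s 1 with hWA
  have mWA : ∀ y : V, y ∈ WA ↔ ρ d1 y = y ∧ ρ d2 y = y ∧ ρ s y = y := by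
    intro y
    rw [hWA]
    simp only [Submodule.mem_inf, mem_eg_one, and_assoc]
  set X : Submodule K V := WA ⊓ eg ρ hh (-1) with hX
  have mX : ∀ y : V, y ∈ X ↔ y ∈ WA ∧ ρ hh y = -y := by
    intro y
    rw [hX, Submodule.mem_inf, mem_eg_neg]
  have hX2 : Module.finrank K X ≤ 2 := by
    refine le_trans ?_ (finrank_d_b1 h2 hM)
    apply finrank_le_of_map ρ gg
    rintro y ⟨⟨⟨f1, f2⟩, f3⟩, f4⟩
    exact ⟨⟨eg_move ρ (g := d1) (by decide) f1, eg_move ρ (g := s) (by decide) f3⟩,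
      eg_move ρ (g := hh) (by decide) f4⟩
  have hwA : w ∈ WA := (mWA w).mpr ⟨hd1, hd2, hs⟩
  have hwX : w ∈ X := (mX w).mpr ⟨hwA, hhw⟩
  -- the vector w₃
  have h3A : ρ k3 w ∈ WA := by
    rw [mWA]
    refine ⟨?_, ?_, ?_⟩
    · rw [← rho_mul, show d1 * k3 = k3 * d1 by decide, rho_mul, hd1]
    · rw [← rho_mul, show d2 * k3 = k3 * (d2 * s) by decide, rho_mul, rho_mul, hs, hd2]
    · rw [← rho_mul, show s * k3 = k3 * s by decide, rho_mul, hs]
  have h3h : ρ hh (ρ k3 w) = -ρ k3 w := by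
    rw [← rho_mul, show hh * k3 = k3 * hh by decide, rho_mul, hhw, map_neg]
  have h3X : ρ k3 w ∈ X := (mX _).mpr ⟨h3A, h3h⟩
  have h3b : ρ b1 (ρ k3 w) = -ρ k3 w := by
    rw [← rho_mul, show b1 * k3 = k3 * (a1 * t) by decide, rho_mul, rho_mul, ht, map_neg, ha1, map_neg]
  have h30 : ρ k3 w ≠ 0 := by
    intro h0
    have := rho_inv_self ρ k3 w
    rw [h0, map_zero] at this
    exact hw0 this.symm
  have h3g : ρ gg (ρ k3 w) = ρ k3 w := by
    rw [← rho_mul, show gg * k3 = k3 * b2 by decide, rho_mul, hb2]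
  -- invariance of WA and X
  have iA : ∀ y ∈ WA, ρ b1 y ∈ WA := by
    intro y hy
    rw [mWA] at hy ⊢
    obtain ⟨y1, y2, y3⟩ := hy
    refine ⟨?_, ?_, ?_⟩
    · rw [← rho_mul, show d1 * b1 = b1 * d1 by decide, rho_mul, y1]
    · rw [← rho_mul, show d2 * b1 = b1 * d2 by decide, rho_mul, y2]
    · rw [← rho_mul, show s * b1 = b1 * (d1 * s) by decide, rho_mul, rho_mul, y3, y1]
  have iH : ∀ y ∈ WA, ρ hh y ∈ WA := by
    intro y hy
    rw [mWA] at hy ⊢
    obtain ⟨y1, y2, y3⟩ := hy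
    refine ⟨?_, ?_, ?_⟩
    · rw [← rho_mul, show d1 * hh = hh * d1 by decide, rho_mul, y1]
    · rw [← rho_mul, show d2 * hh = hh * (d1 * d2) by decide, rho_mul, rho_mul, y2, y1]
    · rw [← rho_mul, show s * hh = hh * s by decide, rho_mul, y3]
  have iX : Inv ρ X b1 := by
    intro y hy
    rw [mX] at hy ⊢
    exact ⟨iA y hy.1, by rw [← rho_mul, show hh * b1 = b1 * hh by decide, rho_mul, hy.2, map_neg]⟩
  have sp := split ρ h2 four_b.xx iX
  have hp1 : 1 ≤ Module.finrank K (X ⊓ eg ρ b1 1 : Submodule K V) := by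
    rw [Nat.one_le_iff_ne_zero]
    intro h0
    rw [Submodule.finrank_eq_zero] at h0
    have : w ∈ X ⊓ eg ρ b1 1 := ⟨hwX, (mem_eg_one ρ).mpr hb1⟩
    rw [h0, Submodule.mem_bot] at this
    exact hw0 this
  have hp2 : 1 ≤ Module.finrank K (X ⊓ eg ρ b1 (-1) : Submodule K V) := by
    rw [Nat.one_le_iff_ne_zero]
    intro h0
    rw [Submodule.finrank_eq_zero] at h0
    have : ρ k3 w ∈ X ⊓ eg ρ b1 (-1) := ⟨h3X, (mem_eg_neg ρ).mpr h3b⟩
    rw [h0, Submodule.mem_bot] at this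
    exact h30 this
  -- the vector v
  set v := ρ g1 w with hv
  have vA : v ∈ WA := by
    rw [mWA, hv]
    refine ⟨?_, ?_, ?_⟩
    · rw [← rho_mul, show d1 * g1 = g1 * s by decide, rho_mul, hs]
    · rw [← rho_mul, show d2 * g1 = g1 * d2 by decide, rho_mul, hd2]
    · rw [← rho_mul, show s * g1 = g1 * d1 by decide, rho_mul, hd1]
  have vb2 : ρ b2 v = -v := by
    rw [hv, ← rho_mul, show b2 * g1 = g1 * (g1 * b2 * g1) by decide, rho_mul, hm1, map_neg]
  have vgg : ρ gg v = -v := by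
    rw [hv, ← rho_mul, show gg * g1 = g1 * (g1 * gg * g1) by decide, rho_mul, hm2, map_neg]
  -- products
  have r1 : ρ b2 (ρ hh v) = -ρ hh (ρ b1 v) := by
    rw [← rho_mul, show b2 * hh = hh * b1 * b2 by decide, rho_mul, rho_mul, vb2, map_neg, map_neg]
  have r2 : ρ b2 (ρ b1 v) = -ρ b1 v := by
    rw [← rho_mul, show b2 * b1 = b1 * b2 by decide, rho_mul, vb2, map_neg]
  have r3 : ρ b2 (ρ hh (ρ b1 v)) = -ρ hh v := by
    rw [← rho_mul, ← rho_mul, show b2 * hh * b1 = hh * b2 by decide, rho_mul, vb2, map_neg]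
  have q1 : ρ gg (ρ hh v) = -ρ b1 v := by
    rw [← rho_mul, show gg * hh = b1 * gg by decide, rho_mul, vgg, map_neg]
  have q2 : ρ gg (ρ b1 v) = -ρ hh v := by
    rw [← rho_mul, show gg * b1 = hh * gg by decide, rho_mul, vgg, map_neg]
  have q3 : ρ gg (ρ hh (ρ b1 v)) = -ρ hh (ρ b1 v) := by
    rw [← rho_mul, ← rho_mul, show gg * hh * b1 = hh * b1 * gg by decide, rho_mul, vgg, map_neg, rho_mul]
  have b11 : ρ b1 (ρ b1 v) = v := by rw [← rho_mul, four_b.xx, rho_one]
  have hhh : ρ hh (ρ hh v) = v := by rw [← rho_mul, show hh * hh = 1 by decide, rho_one]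
  have hbh : ρ b1 (ρ hh v) = ρ hh (ρ b1 v) := by
    rw [← rho_mul, show b1 * hh = hh * b1 by decide, rho_mul]
  have hbhb : ρ b1 (ρ hh (ρ b1 v)) = ρ hh v := by
    rw [← rho_mul, ← rho_mul, show b1 * hh * b1 = hh by decide]
  have hhhb : ρ hh (ρ hh (ρ b1 v)) = ρ b1 v := by
    rw [← rho_mul, ← rho_mul, show hh * hh * b1 = b1 by decide]
  have p1 : v + ρ b1 v - ρ hh v - ρ hh (ρ b1 v) = 0 := by
    set p := v + ρ b1 v - ρ hh v - ρ hh (ρ b1 v) with hp
    have pX : p ∈ X ⊓ eg ρ b1 1 := by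
      refine ⟨(mX _).mpr ⟨?_, ?_⟩, ?_⟩
      · exact WA.sub_mem (WA.sub_mem (WA.add_mem vA (iA _ vA)) (iH _ vA)) (iH _ (iA _ vA))
      · rw [hp, map_sub, map_sub, map_add, hhh, hhhb]; abel
      · rw [SetLike.mem_coe, mem_eg_one, hp, map_sub, map_sub, map_add, b11, hbh, hbhb]; abel
    obtain ⟨x, hx⟩ := line_span (by omega) (⟨hwX, (mem_eg_one ρ).mpr hb1⟩ : w ∈ X ⊓ eg ρ b1 1) hw0 pX
    have e1 : ρ b2 p = p := by rw [hx, map_smul, hb2]
    have e2 : ρ b2 p = -p := by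
      rw [hp, map_sub, map_sub, map_add, vb2, r2, r1, r3]; abel
    exact eq_zero_of_neg h2 (e1.symm.trans e2)
  have p3 : v - ρ b1 v - ρ hh v + ρ hh (ρ b1 v) = 0 := by
    set p := v - ρ b1 v - ρ hh v + ρ hh (ρ b1 v) with hp
    have pX : p ∈ X ⊓ eg ρ b1 (-1) := by
      refine ⟨(mX _).mpr ⟨?_, ?_⟩, ?_⟩
      · exact WA.add_mem (WA.sub_mem (WA.sub_mem vA (iA _ vA)) (iH _ vA)) (iH _ (iA _ vA))
      · rw [hp, map_add, map_sub, map_sub, hhh, hhhb]; abel
      · rw [SetLike.mem_coe, mem_eg_neg, hp, map_add, map_sub, map_sub, b11, hbh, hbhb]; abel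
    obtain ⟨x, hx⟩ := line_span (by omega) (⟨h3X, (mem_eg_neg ρ).mpr h3b⟩ : ρ k3 w ∈ X ⊓ eg ρ b1 (-1)) h30 pX
    have e1 : ρ gg p = p := by rw [hx, map_smul, h3g]
    have e2 : ρ gg p = -p := by
      rw [hp, map_add, map_sub, map_sub, vgg, q2, q1, q3]; abel
    exact eq_zero_of_neg h2 (e1.symm.trans e2)
  have hv2 : ρ hh v = v := by
    have e1 : (2 : K) • (v - ρ hh v) = 0 := by
      have : (2 : K) • (v - ρ hh v) = (v + ρ b1 v - ρ hh v - ρ hh (ρ b1 v)) +
          (v - ρ b1 v - ρ hh v + ρ hh (ρ b1 v)) := by rw [two_smul]; abel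
      rw [this, p1, p3, add_zero]
    rcases smul_eq_zero.mp e1 with h | h
    · exact absurd h h2
    · exact (sub_eq_zero.mp h).symm
  have hk : ρ k3 w = w := by
    have e1 : ρ k3 w = ρ g1 (ρ hh (ρ g1 w)) := by
      rw [← rho_mul, ← rho_mul, show g1 * hh * g1 = k3 by decide]
    rw [e1, hv2, hv, ← rho_mul, show g1 * g1 = 1 by decide, rho_one]
  have hfin : ρ (a1 * t) w = w := by
    rw [show a1 * t = s * (k3 * (a1 * (k3 * s))) by decide, rho_mul, rho_mul, rho_mul, rho_mul, hs, hk, ha1, hk, hs]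
  rw [rho_mul, ht, map_neg, ha1] at hfin
  exact hw0 (eq_zero_of_neg h2 hfin.symm)

end Cfsg.Agent.H614.AMod
end

-- part: H614/AMod/EightD
section
set_option linter.all false
open scoped Cfsg.Agent.FastGrp

/-!
# Representations of `Alt (Fin 8)` of degree at most 12, odd or zero characteristic

`not_nz` : `(a₁ - 1)(b₁ - 1) = 0` for the disjoint double transpositions `a₁, b₁`.
-/

set_option autoImplicit false
set_option linter.unusedSectionVars false

namespace Cfsg.Agent.H614.AMod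

open Equiv Equiv.Perm E8

namespace E8

/-- conjugation by `(4 5)` -/
def tw : A8 →* A8 where
  toFun g := ⟨swap (4 : Fin 8) 5 * g.1 * swap (4 : Fin 8) 5, by
    rw [mem_alternatingGroup, Perm.sign_mul, Perm.sign_mul, mem_alternatingGroup.mp g.2, mul_one, ← Perm.sign_mul,
      swap_mul_self, Perm.sign_one]⟩
  map_one' := by
    apply Subtype.ext
    show swap (4 : Fin 8) 5 * 1 * swap (4 : Fin 8) 5 = 1
    rw [mul_one, swap_mul_self]
  map_mul' g h := by
    apply Subtype.ext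
    show swap (4 : Fin 8) 5 * (g.1 * h.1) * swap (4 : Fin 8) 5 = (swap (4 : Fin 8) 5 * g.1 * swap (4 : Fin 8) 5) * (swap (4 : Fin 8) 5 * h.1 * swap (4 : Fin 8) 5)
    rw [show (swap (4 : Fin 8) 5 * g.1 * swap (4 : Fin 8) 5) * (swap (4 : Fin 8) 5 * h.1 * swap (4 : Fin 8) 5) =
      swap (4 : Fin 8) 5 * g.1 * (swap (4 : Fin 8) 5 * swap (4 : Fin 8) 5) * h.1 * swap (4 : Fin 8) 5 by simp only [mul_assoc], swap_mul_self, mul_one]
    simp only [mul_assoc]

def u2 : A8 := c * c'⁻¹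

end E8

variable {K V : Type*} [Field K] [AddCommGroup V] [Module K V] [FiniteDimensional K V] {ρ : Representation K A8 V}

/-- the twisted representation -/
def twr (ρ : Representation K A8 V) : Representation K A8 V := MonoidHom.comp ρ tw

theorem twr_apply (g : A8) (v : V) : twr ρ g v = ρ (tw g) v := rfl

theorem tw_tw (g : A8) : tw (tw g) = g := by
  apply Subtype.ext
  show swap (4 : Fin 8) 5 * (swap (4 : Fin 8) 5 * g.1 * swap (4 : Fin 8) 5) * swap (4 : Fin 8) 5 = g.1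
  rw [show swap (4 : Fin 8) 5 * (swap (4 : Fin 8) 5 * g.1 * swap (4 : Fin 8) 5) * swap (4 : Fin 8) 5 =
    (swap (4 : Fin 8) 5 * swap (4 : Fin 8) 5) * g.1 * (swap (4 : Fin 8) 5 * swap (4 : Fin 8) 5) by simp only [mul_assoc], swap_mul_self, one_mul, mul_one]

theorem twr_twr : twr (twr ρ) = ρ := by
  apply MonoidHom.ext
  intro g
  apply LinearMap.ext
  intro v
  rw [twr_apply, twr_apply, tw_tw]

/-- the fixed space of `V₄ × V₄` -/
structure InC (ρ : Representation K A8 V) (v : V) : Prop where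
  a1 : ρ a1 v = v
  a2 : ρ a2 v = v
  b1 : ρ b1 v = v
  b2 : ρ b2 v = v

theorem inC_iff {v : V} : v ∈ W ρ 1 1 1 1 ↔ InC ρ v := by
  constructor
  · rintro ⟨⟨⟨h1, h2⟩, h3⟩, h4⟩
    exact ⟨(mem_eg_one ρ).mp h1, (mem_eg_one ρ).mp h2, (mem_eg_one ρ).mp h3, (mem_eg_one ρ).mp h4⟩
  · rintro ⟨h1, h2, h3, h4⟩
    exact ⟨⟨⟨(mem_eg_one ρ).mpr h1, (mem_eg_one ρ).mpr h2⟩, (mem_eg_one ρ).mpr h3⟩, (mem_eg_one ρ).mpr h4⟩

theorem InC.d1 {v : V} (h : InC ρ v) : ρ d1 v = v := by rw [show E8.d1 = E8.a1 * E8.b1 from rfl, rho_mul, h.b1, h.a1]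
theorem InC.d2 {v : V} (h : InC ρ v) : ρ d2 v = v := by rw [show E8.d2 = E8.a2 * E8.b2 from rfl, rho_mul, h.b2, h.a2]

theorem InC.tw {v : V} (h : InC ρ v) : InC (twr ρ) v := by
  refine ⟨?_, ?_, ?_, ?_⟩
  · rw [twr_apply, show E8.tw E8.a1 = E8.a1 by decide, h.a1]
  · rw [twr_apply, show E8.tw E8.a2 = E8.a2 by decide, h.a2]
  · rw [twr_apply, show E8.tw E8.b1 = E8.b1 by decide, h.b1]
  · rw [twr_apply, show E8.tw E8.b2 = E8.b1 * E8.b2 by decide, rho_mul, h.b2, h.b1]

theorem InC.of_tw {v : V} (h : InC (twr ρ) v) : InC ρ v := by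
  have := h.tw
  rwa [twr_twr] at this

theorem InC.add {v w : V} (h : InC ρ v) (h' : InC ρ w) : InC ρ (v + w) := by
  constructor <;> rw [map_add]
  · rw [h.a1, h'.a1]
  · rw [h.a2, h'.a2]
  · rw [h.b1, h'.b1]
  · rw [h.b2, h'.b2]

theorem InC.neg {v : V} (h : InC ρ v) : InC ρ (-v) := by
  constructor <;> rw [map_neg]
  · rw [h.a1]
  · rw [h.a2]
  · rw [h.b1]
  · rw [h.b2]

theorem InC.sub {v w : V} (h : InC ρ v) (h' : InC ρ w) : InC ρ (v - w) := by
  rw [sub_eq_add_neg]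
  exact h.add h'.neg

theorem InC.s {v : V} (h : InC ρ v) : InC ρ (ρ s v) := by
  constructor
  · rw [← rho_mul, show E8.a1 * E8.s = E8.s * E8.b1 by decide, rho_mul, h.b1]
  · rw [← rho_mul, show E8.a2 * E8.s = E8.s * E8.b2 by decide, rho_mul, h.b2]
  · rw [← rho_mul, show E8.b1 * E8.s = E8.s * E8.a1 by decide, rho_mul, h.a1]
  · rw [← rho_mul, show E8.b2 * E8.s = E8.s * E8.a2 by decide, rho_mul, h.a2]

theorem InC.t {v : V} (h : InC ρ v) : InC ρ (ρ t v) := by
  constructor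
  · rw [← rho_mul, show E8.a1 * E8.t = E8.t * E8.a1 by decide, rho_mul, h.a1]
  · rw [← rho_mul, show E8.a2 * E8.t = E8.t * (E8.a1 * E8.a2) by decide, rho_mul, rho_mul, h.a2, h.a1]
  · rw [← rho_mul, show E8.b1 * E8.t = E8.t * E8.b1 by decide, rho_mul, h.b1]
  · rw [← rho_mul, show E8.b2 * E8.t = E8.t * (E8.b1 * E8.b2) by decide, rho_mul, rho_mul, h.b2, h.b1]

theorem s'_eq : E8.s' = E8.s * E8.t := by decide

theorem InC.s' {v : V} (h : InC ρ v) : InC ρ (ρ s' v) := by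
  rw [s'_eq, rho_mul]
  exact h.t.s

theorem InC.c {v : V} (h : InC ρ v) : InC ρ (ρ c v) := by
  constructor
  · rw [← rho_mul, show E8.a1 * E8.c = E8.c * E8.a2 by decide, rho_mul, h.a2]
  · rw [← rho_mul, show E8.a2 * E8.c = E8.c * (E8.a1 * E8.a2) by decide, rho_mul, rho_mul, h.a2, h.a1]
  · rw [← rho_mul, show E8.b1 * E8.c = E8.c * E8.b1 by decide, rho_mul, h.b1]
  · rw [← rho_mul, show E8.b2 * E8.c = E8.c * E8.b2 by decide, rho_mul, h.b2]

theorem InC.c' {v : V} (h : InC ρ v) : InC ρ (ρ c' v) := by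
  constructor
  · rw [← rho_mul, show E8.a1 * E8.c' = E8.c' * E8.a1 by decide, rho_mul, h.a1]
  · rw [← rho_mul, show E8.a2 * E8.c' = E8.c' * E8.a2 by decide, rho_mul, h.a2]
  · rw [← rho_mul, show E8.b1 * E8.c' = E8.c' * E8.b2 by decide, rho_mul, h.b2]
  · rw [← rho_mul, show E8.b2 * E8.c' = E8.c' * (E8.b1 * E8.b2) by decide, rho_mul, rho_mul, h.b2, h.b1]

theorem InC.u1 {v : V} (h : InC ρ v) : InC ρ (ρ u1 v) := by
  rw [show E8.u1 = E8.c * E8.c' from rfl, rho_mul]
  exact h.c'.c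

theorem InC.u2 {v : V} (h : InC ρ v) : InC ρ (ρ u2 v) := by
  rw [show E8.u2 = E8.c * (E8.c' * E8.c') by decide, rho_mul, rho_mul]
  exact h.c'.c'.c

/-- the hypotheses -/
structure Sit (ρ : Representation K A8 V) : Prop where
  two : (2 : K) ≠ 0
  nz : NZ ρ
  le : Module.finrank K V ≤ 12

theorem Sit.mult (h : Sit ρ) : Mult ρ := weights h.two h.nz h.le

theorem Sit.tw (h : Sit ρ) : Sit (twr ρ) := by
  refine ⟨h.two, ?_, h.le⟩
  obtain ⟨v, hv⟩ := h.nz
  refine ⟨v, ?_⟩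
  rw [twr_apply, twr_apply, show E8.tw E8.a1 = E8.a1 by decide, show E8.tw E8.b1 = E8.b1 by decide]
  exact hv

/-- `C ∩ {s = -1}` is a line -/
theorem Sit.line (h : Sit ρ) : ∃ e : V, e ≠ 0 ∧ InC ρ e ∧ ρ s e = -e ∧ ∀ v, InC ρ v → ρ s v = -v → ∃ x : K, v = x • e := by
  obtain ⟨e, he0, heC, hes, hall⟩ := exists_line h.two h.mult
  exact ⟨e, he0, inC_iff.mp heC, hes, fun v hv hs => hall v hv.d1 hv.d2 hs⟩

/-- `C ∩ {s' = -1}` is a line -/
theorem Sit.line' (h : Sit ρ) :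
    ∃ e : V, e ≠ 0 ∧ InC ρ e ∧ ρ s' e = -e ∧ ∀ v, InC ρ v → ρ s' v = -v → ∃ x : K, v = x • e := by
  obtain ⟨e, he0, heC, hes, hall⟩ := h.tw.line
  rw [twr_apply, show E8.tw E8.s = E8.s' by decide] at hes
  refine ⟨e, he0, heC.of_tw, hes, fun v hv hs => hall v hv.tw ?_⟩
  rw [twr_apply, show E8.tw E8.s = E8.s' by decide]
  exact hs

theorem Sit.P1 (h : Sit ρ) {v : V} (hv : InC ρ v) (hs' : ρ s' v = -v) : ρ s v = v := by
  have h2 := h.two
  obtain ⟨e1, e10, e1C, e1s, e1all⟩ := h.line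
  obtain ⟨e2, e20, e2C, e2s, e2all⟩ := h.line'
  obtain ⟨v0, v00, v0C, v0t⟩ := exists_t h.two h.mult
  rw [inC_iff] at v0C
  have ss : ∀ y : V, ρ s (ρ s y) = y := fun y => by rw [← rho_mul, show s * s = 1 by decide, rho_one]
  have hts : ∀ y : V, ρ t (ρ s y) = ρ s (ρ t y) := fun y => by
    rw [← rho_mul, show t * s = s * t by decide, rho_mul]
  have hs's : ∀ y : V, ρ s' y = ρ s (ρ t y) := fun y => by rw [s'_eq, rho_mul]
  have main : ρ s e2 = e2 := by
    obtain ⟨x, hx⟩ := e2all (ρ s e2) e2C.s (by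
      rw [← rho_mul, show s' * s = s * s' by decide, rho_mul, e2s, map_neg])
    have hxx : (x * x) • e2 = (1 : K) • e2 := by
      rw [one_smul, ← smul_smul, ← hx, ← map_smul, ← hx, ss]
    have hx1 := smul_left_injective K e20 hxx
    rcases mul_self_eq_one_iff.mp hx1 with h1 | h1
    · rw [hx, h1, one_smul]
    · exfalso
      rw [h1, neg_one_smul] at hx
      have te2 : ρ t e2 = e2 := by
        have h3 := hs's e2
        rw [e2s] at h3
        have h4 := congrArg (ρ s) h3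
        rw [ss, map_neg, hx, neg_neg] at h4
        exact h4.symm
      have hy : ρ s (v0 + ρ s v0) = v0 + ρ s v0 := by rw [map_add, ss, add_comm]
      have hy2 : ρ t (v0 + ρ s v0) = -(v0 + ρ s v0) := by rw [map_add, hts, v0t, map_neg]; abel
      obtain ⟨z, hz⟩ := e2all (v0 + ρ s v0) (v0C.add v0C.s) (by rw [hs's, hy2, map_neg, hy])
      have h5 : v0 + ρ s v0 = -(v0 + ρ s v0) := by
        nth_rw 1 [← hy]
        rw [hz, map_smul, hx, smul_neg]
      have h6 := eq_zero_of_neg h2 h5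
      obtain ⟨y1, hy1⟩ := e1all v0 v0C (eq_neg_of_add_eq_zero_right h6)
      obtain ⟨y2, hy2⟩ := e1all e2 e2C hx
      have hy20 : y2 ≠ 0 := by
        rintro rfl
        rw [zero_smul] at hy2
        exact e20 hy2
      have h7 : v0 = (y1 * y2⁻¹) • e2 := by
        rw [hy2, smul_smul, mul_assoc, inv_mul_cancel₀ hy20, mul_one, hy1]
      have h8 : ρ t v0 = v0 := by rw [h7, map_smul, te2]
      rw [v0t] at h8
      exact v00 (eq_zero_of_neg h2 h8.symm)
  obtain ⟨x, rfl⟩ := e2all v hv hs'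
  rw [map_smul, main]

/-- a scalar of order dividing 2 and 3 -/
theorem eq_one_of_sq_cube {x : K} (h2 : x * x = 1) (h3 : x * x * x = 1) : x = 1 := by
  rwa [h2, one_mul] at h3

theorem Sit.P2 (h : Sit ρ) {v : V} (hv : InC ρ v) (hs' : ρ s' v = -v) : ρ u2 v = v := by
  obtain ⟨e2, e20, e2C, e2s, e2all⟩ := h.line'
  have se2 := h.P1 e2C e2s
  obtain ⟨x, hx⟩ := e2all (ρ u2 e2) e2C.u2 (by
    rw [← rho_mul, show s' * u2 = u2 * s' by decide, rho_mul, e2s, map_neg])
  have inj : ∀ {p q : K}, p • e2 = q • e2 → p = q := fun {p q} hpq => smul_left_injective K e20 hpq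
  have h1 : ρ u2⁻¹ e2 = x • e2 := by
    have h3 : ρ s (ρ u2 e2) = ρ u2⁻¹ (ρ s e2) := by
      rw [← rho_mul, show s * u2 = u2⁻¹ * s by decide, rho_mul]
    rw [hx, map_smul, se2] at h3
    exact h3.symm
  have h3 : x * x = 1 := by
    apply inj
    rw [one_smul, ← smul_smul, ← hx, ← map_smul, ← h1, rho_self_inv]
  have h4 : x * x * x = 1 := by
    apply inj
    have h5 : ρ u2 (ρ u2 (ρ u2 e2)) = e2 := by
      rw [← rho_mul, ← rho_mul, show u2 * u2 * u2 = 1 by decide, rho_one]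
    rw [hx, map_smul, map_smul, hx, map_smul, hx, smul_smul, smul_smul] at h5
    rw [one_smul]
    exact h5
  have h5 := eq_one_of_sq_cube h3 h4
  obtain ⟨y, rfl⟩ := e2all v hv hs'
  rw [map_smul, hx, h5, one_smul]

theorem Sit.P3 (h : Sit ρ) {v : V} (hv : InC ρ v) (hs' : ρ s' v = -v) (hv0 : v ≠ 0) : ρ u1 v ≠ v := by
  intro hu
  have h1 := h.P1 hv hs'
  apply star h.two h.mult hv0 (inC_iff.mpr hv) h1 hu
  have h3 : ρ t v = ρ s (ρ s' v) := by rw [← rho_mul, show s * s' = t by decide]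
  rw [h3, hs', map_neg, h1]

theorem finrank_C (h : Sit ρ) : Module.finrank K (W ρ 1 1 1 1) ≤ 3 := by
  have h1 := total ρ h.two
  have h3 := h.mult
  have h4 := h.le
  rw [h3.c_one, h3.b_zero] at h1
  have : Module.finrank K (W ρ 1 1 1 1) = nW ρ 1 1 1 1 := rfl
  omega

/-- linear independence of `e` and `u₁ e - e` -/
theorem Sit.indep (h : Sit ρ) {e : V} (he : InC ρ e) (hs' : ρ s' e = -e) (he0 : e ≠ 0) {x y : K}
    (hxy : x • e + y • (ρ u1 e - e) = 0) : x = 0 ∧ y = 0 := by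
  have hu := h.P3 he hs' he0
  by_cases hy : y = 0
  · rw [hy, zero_smul, add_zero] at hxy
    rcases smul_eq_zero.mp hxy with h1 | h1
    · exact ⟨h1, hy⟩
    · exact absurd h1 he0
  · exfalso
    have h1 : ρ u1 e = (1 - y⁻¹ * x) • e := by
      have h3 : y • (ρ u1 e - e) = -(x • e) := eq_neg_of_add_eq_zero_right hxy
      have h4 : ρ u1 e - e = -((y⁻¹ * x) • e) := by
        have h5 := congrArg (fun w => y⁻¹ • w) h3
        simp only [smul_smul, inv_mul_cancel₀ hy, one_smul, smul_neg] at h5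
        exact h5
      rw [sub_smul, one_smul, ← sub_eq_zero]
      have h6 : ρ u1 e - (e - (y⁻¹ * x) • e) = (ρ u1 e - e) + (y⁻¹ * x) • e := by abel
      rw [h6, h4, neg_add_cancel]
    set k := 1 - y⁻¹ * x
    have inj : ∀ {p q : K}, p • e = q • e → p = q := fun {p q} hpq => smul_left_injective K he0 hpq
    have h3 : ρ u1⁻¹ e = k • e := by
      have h4 : ρ s' (ρ u1 e) = ρ u1⁻¹ (ρ s' e) := by
        rw [← rho_mul, show s' * u1 = u1⁻¹ * s' by decide, rho_mul]
      rw [h1, map_smul, hs', map_neg, smul_neg] at h4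
      exact (neg_injective h4).symm
    have h4 : k * k = 1 := by
      apply inj
      rw [one_smul, ← smul_smul, ← h1, ← map_smul, ← h3, rho_self_inv]
    have h5 : k * k * k = 1 := by
      apply inj
      have h6 : ρ u1 (ρ u1 (ρ u1 e)) = e := by
        rw [← rho_mul, ← rho_mul, show u1 * u1 * u1 = 1 by decide, rho_one]
      rw [h1, map_smul, map_smul, h1, map_smul, h1, smul_smul, smul_smul] at h6
      rw [one_smul]
      exact h6
    rw [eq_one_of_sq_cube h4 h5, one_smul] at h1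
    exact hu h1

theorem Sit.P4 (h : Sit ρ) {v : V} (hv : InC ρ v) (hs : ρ s v = v) : ρ u2 v = v := by
  obtain ⟨e1, e10, e1C, e1s, e1all⟩ := h.line
  obtain ⟨e2, e20, e2C, e2s, e2all⟩ := h.line'
  have se2 := h.P1 e2C e2s
  set z := ρ u1 e2 - e2 with hz
  have hsz : ρ s z = z := by
    rw [hz, map_sub, ← rho_mul, show s * u1 = u1 * s by decide, rho_mul, se2]
  have hzC : InC ρ z := e2C.u1.sub e2C
  -- the space C⁺
  have hsp := split ρ h.two (g := s) (by decide) (W := W ρ 1 1 1 1) (fun w hw => inC_iff.mpr (inC_iff.mp hw).s)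
  have h3 := finrank_C h
  have h4 : 1 ≤ Module.finrank K (W ρ 1 1 1 1 ⊓ eg ρ s (-1) : Submodule K V) := by
    rw [Nat.one_le_iff_ne_zero]
    intro h0
    rw [Submodule.finrank_eq_zero] at h0
    have : e1 ∈ W ρ 1 1 1 1 ⊓ eg ρ s (-1) := ⟨inC_iff.mpr e1C, (mem_eg_neg ρ).mpr e1s⟩
    rw [h0, Submodule.mem_bot] at this
    exact e10 this
  have hli : LinearIndependent K ![e2, z] := by
    rw [LinearIndependent.pair_iff]
    intro x y hxy
    exact h.indep e2C e2s e20 hxy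
  have h5 : Submodule.span K (Set.range ![e2, z]) = W ρ 1 1 1 1 ⊓ eg ρ s 1 := by
    apply Submodule.eq_of_le_of_finrank_le
    · rw [Submodule.span_le]
      rintro _ ⟨i, rfl⟩
      fin_cases i
      · exact ⟨inC_iff.mpr e2C, (mem_eg_one ρ).mpr se2⟩
      · exact ⟨inC_iff.mpr hzC, (mem_eg_one ρ).mpr hsz⟩
    · rw [finrank_span_eq_card hli, Fintype.card_fin]
      omega
  have h6 : v ∈ Submodule.span K (Set.range ![e2, z]) := by
    rw [h5]
    exact ⟨inC_iff.mpr hv, (mem_eg_one ρ).mpr hs⟩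
  have u2e : ρ u2 e2 = e2 := h.P2 e2C e2s
  have u2z : ρ u2 z = z := by
    rw [hz, map_sub, ← rho_mul, show u2 * u1 = u1 * u2 by decide, rho_mul, u2e]
  clear hv hs
  induction h6 using Submodule.span_induction with
  | mem x hx =>
    obtain ⟨i, rfl⟩ := hx
    fin_cases i
    · exact u2e
    · exact u2z
  | zero => exact map_zero _
  | add x y _ _ hx hy => rw [map_add, hx, hy]
  | smul a x _ hx => rw [map_smul, hx]

end Cfsg.Agent.H614.AMod
end

-- part: H614/AMod/EightE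
section
prune_inst 0x41430453024220200001880840320002030000102054300002461050601435022e9862e41ae902c07c2a80c4120010020011001b0426800000e000800000401000800100631400100000098000080000000000000000000000000000000041004200000000
set_option linter.all false
open scoped Cfsg.Agent.FastGrp

/-!
# Representations of `Alt (Fin 8)` of degree at most 12, odd or zero characteristic

* `not_nz` : `(a₁ - 1)(b₁ - 1) = 0`;
* `c'_fix` : the 3-cycle `(4 5 6)` acts trivially on `[V, (0 1)(2 3)]`.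
-/

set_option autoImplicit false
set_option linter.unusedSectionVars false

namespace Cfsg.Agent.H614.AMod

open Equiv Equiv.Perm E8

variable {K V : Type*} [Field K] [AddCommGroup V] [Module K V] [FiniteDimensional K V] {ρ : Representation K A8 V}

/-- In the exceptional case the characteristic is 3 and `z = u₁ e - e` is fixed by everything. -/
theorem Sit.three (h : Sit ρ) {e : V} (he : InC ρ e) (hs' : ρ s' e = -e) (he0 : e ≠ 0) :
    ρ s' (ρ u1 e - e) = ρ u1 e - e ∧ ∀ v : V, InC ρ v → ρ s' v = v → ρ u1 v = v := by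
  have h2 := h.two
  -- the twisted statement
  have P4' : ∀ v : V, InC ρ v → ρ s' v = v → ρ u1 v = v := by
    intro v hv hs
    have h1 := h.tw.P4 (v := v) hv.tw (by
      rw [twr_apply, show E8.tw s = s' by decide]
      exact hs)
    rwa [twr_apply, show E8.tw u2 = u1 by decide] at h1
  refine ⟨?_, P4'⟩
  obtain ⟨e2, e20, e2C, e2s, e2all⟩ := h.line'
  have se := h.P1 he hs'
  set z := ρ u1 e - e with hz
  have hzC : InC ρ z := he.u1.sub he
  have ss : ∀ y : V, ρ s' (ρ s' y) = y := fun y => by rw [← rho_mul, show s' * s' = 1 by decide, rho_one]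
  -- z - s' z is a multiple of e
  obtain ⟨y2, hy2⟩ := e2all e he hs'
  have hy20 : y2 ≠ 0 := by
    rintro rfl
    rw [zero_smul] at hy2
    exact he0 hy2
  obtain ⟨x', hx'⟩ := e2all (z - ρ s' z) (hzC.sub hzC.s') (by rw [map_sub, ss]; abel)
  obtain ⟨x, hx⟩ : ∃ x : K, z - ρ s' z = x • e := ⟨x' * y2⁻¹, by
    rw [hy2, smul_smul, mul_assoc, inv_mul_cancel₀ hy20, mul_one, hx']⟩
  have hp : ρ u1 (z + ρ s' z) = z + ρ s' z := by
    apply P4' _ (hzC.add hzC.s')
    rw [map_add, ss, add_comm]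
  have hue : ρ u1 e = e + z := by rw [hz]; abel
  -- relation from the inversion
  have h5 : ρ u1 (ρ u1 e) = e - ρ s' z := by
    have h6 : ρ s' (ρ u1 e) = ρ (u1 * u1) (ρ s' e) := by
      rw [← rho_mul, show s' * u1 = (u1 * u1) * s' by decide +kernel, rho_mul]
    rw [hs', map_neg, rho_mul, hue, map_add, hs'] at h6
    rw [hue]
    have h7 := congrArg Neg.neg h6
    rw [neg_neg] at h7
    rw [← h7]
    abel
  rw [hue, map_add, hue] at h5
  -- 2 z = (z + s' z) + x e
  have h6 : (2 : K) • z = (z + ρ s' z) + x • e := by rw [← hx, two_smul]; abel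
  have h7 : (2 : K) • ρ u1 z = (2 : K) • z + x • z := by
    rw [← map_smul, h6, map_add, hp, map_smul, hue, smul_add]
    abel
  have h8 : z + ρ s' z + ρ u1 z = 0 := by
    have : e + z + ρ u1 z - (e - ρ s' z) = 0 := by rw [h5, sub_self]
    rw [← this]
    abel
  have h9 : (-(2 * x)) • e + (6 + x) • z = 0 := by
    have h10 : (2 : K) • (z + ρ s' z) + ((2 : K) • z + x • z) = 0 := by
      rw [← h7, ← smul_add, h8, smul_zero]
    have h11 : ρ s' z = z - x • e := by rw [← hx]; abel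
    rw [h11] at h10
    rw [← h10]
    module
  obtain ⟨h12, -⟩ := h.indep he hs' he0 h9
  have hx0 : x = 0 := by
    rcases mul_eq_zero.mp (neg_eq_zero.mp h12) with h | h
    · exact absurd h h2
    · exact h
  rw [hx0, zero_smul, sub_eq_zero] at hx
  exact hx.symm

/-- the dual representation satisfies the hypotheses -/
theorem Sit.dual (h : Sit ρ) : Sit (ρ.dual) := by
  refine ⟨h.two, ?_, ?_⟩
  · obtain ⟨v, hv⟩ := h.nz
    have hne : ρ a1 (ρ b1 v - v) - (ρ b1 v - v) ≠ 0 := hv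
    obtain ⟨φ, hφ⟩ : ∃ φ : Module.Dual K V, φ (ρ a1 (ρ b1 v - v) - (ρ b1 v - v)) ≠ 0 := by
      by_contra hall
      push Not at hall
      exact hne ((Module.forall_dual_apply_eq_zero_iff K _).mp hall)
    refine ⟨φ, fun h0 => hφ ?_⟩
    have h1 := congrArg (fun ψ : Module.Dual K V => ψ v) h0
    simp only [Representation.dual_apply, LinearMap.sub_apply, LinearMap.zero_apply, Module.Dual.transpose_apply,
      LinearMap.comp_apply, map_sub] at h1
    rw [show (a1 : A8)⁻¹ = a1 by decide, show (b1 : A8)⁻¹ = b1 by decide] at h1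
    rw [map_sub, map_sub, map_sub, map_sub, ← rho_mul, show a1 * b1 = b1 * a1 by decide, rho_mul]
    rw [← h1]
  · rw [Subspace.dual_finrank_eq]
    exact h.le

/-- the elements of `V₄ × V₄` -/
def E16 : Multiset A8 :=
  {1, b2, b1, b1 * b2, a2, a2 * b2, a2 * b1, a2 * (b1 * b2), a1, a1 * b2, a1 * b1, a1 * (b1 * b2), a1 * a2,
    a1 * (a2 * b2), a1 * (a2 * b1), a1 * (a2 * (b1 * b2))}

/-- sixteen times the projection on the fixed space -/
def avg (ρ : Representation K A8 V) : V →ₗ[K] V := (E16.map fun e => (ρ e : V →ₗ[K] V)).sum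

theorem avg_apply (v : V) : avg ρ v = (E16.map fun e => ρ e v).sum := by
  unfold avg
  have : ∀ S : Multiset A8, (S.map fun e => (ρ e : V →ₗ[K] V)).sum v = (S.map fun e => ρ e v).sum := by
    intro S
    induction S using Multiset.induction with
    | empty => rfl
    | cons a S ih =>
      rw [Multiset.map_cons, Multiset.sum_cons, LinearMap.add_apply, ih, Multiset.map_cons, Multiset.sum_cons]
  exact this E16

theorem avg_left (g : A8) (v : V) : ρ g (avg ρ v) = ((E16.map fun e => g * e).map fun e => ρ e v).sum := by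
  rw [avg_apply, map_multiset_sum, Multiset.map_map, Multiset.map_map]
  congr 1
  apply Multiset.map_congr rfl
  intro e _
  exact (rho_mul ρ g e v).symm

theorem avg_right (g : A8) (v : V) : avg ρ (ρ g v) = ((E16.map fun e => e * g).map fun e => ρ e v).sum := by
  rw [avg_apply, Multiset.map_map]
  congr 1
  apply Multiset.map_congr rfl
  intro e _
  exact (rho_mul ρ e g v).symm

theorem avg_comm {g : A8} (hg : (E16.map fun e => g * e) = E16.map fun e => e * g) (v : V) :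
    avg ρ (ρ g v) = ρ g (avg ρ v) := by rw [avg_left, avg_right, hg]

theorem avg_fix {g : A8} (hg : (E16.map fun e => g * e) = E16) (v : V) : ρ g (avg ρ v) = avg ρ v := by
  rw [avg_left, hg, avg_apply]

theorem avg_fix' {g : A8} (hg : (E16.map fun e => e * g) = E16) (v : V) : avg ρ (ρ g v) = avg ρ v := by
  rw [avg_right, hg, avg_apply]

theorem avg_inC (v : V) : InC ρ (avg ρ v) :=
  ⟨avg_fix (by decide +kernel) v, avg_fix (by decide +kernel) v, avg_fix (by decide +kernel) v, avg_fix (by decide +kernel) v⟩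

theorem avg_of_inC {v : V} (h : InC ρ v) : avg ρ v = (16 : K) • v := by
  have h1 : ∀ e ∈ E16, ρ e v = v := by
    intro e he
    have h2 : e = 1 ∨ e = b2 ∨ e = b1 ∨ e = b1 * b2 ∨ e = a2 ∨ e = a2 * b2 ∨ e = a2 * b1 ∨ e = a2 * (b1 * b2) ∨
        e = a1 ∨ e = a1 * b2 ∨ e = a1 * b1 ∨ e = a1 * (b1 * b2) ∨ e = a1 * a2 ∨
        e = a1 * (a2 * b2) ∨ e = a1 * (a2 * b1) ∨ e = a1 * (a2 * (b1 * b2)) := by
      simpa only [E16, _root_.Multiset.insert_eq_cons, _root_.Multiset.mem_cons, _root_.Multiset.mem_singleton] using he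
    rcases h2 with rfl | rfl | rfl | rfl | rfl | rfl | rfl | rfl | rfl | rfl | rfl | rfl | rfl | rfl | rfl | rfl <;>
      simp only [rho_mul, rho_one, h.a1, h.a2, h.b1, h.b2]
  rw [avg_apply, Multiset.map_congr rfl h1]
  simp only [Multiset.map_const', Multiset.sum_replicate]
  rw [show Multiset.card E16 = 16 from rfl, ← Nat.cast_smul_eq_nsmul K]
  norm_num

theorem not_sit (h : Sit ρ) : False := by
  have h2 := h.two
  obtain ⟨e, e0, eC, es, eall⟩ := h.line'
  obtain ⟨hsz, P4'⟩ := h.three eC es e0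
  have se := h.P1 eC es
  have te : ρ t e = -e := by
    have h3 : ρ t e = ρ s (ρ s' e) := by rw [← rho_mul, show s * s' = t by decide]
    rw [h3, es, map_neg, se]
  set z := ρ u1 e - e with hz
  have hue : ρ u1 e = e + z := by rw [hz]; abel
  have ss : ∀ y : V, ρ s' (ρ s' y) = y := fun y => by rw [← rho_mul, show s' * s' = 1 by decide, rho_one]
  -- the functional
  obtain ⟨η, hη⟩ : ∃ η : Module.Dual K V, η e ≠ 0 := by
    by_contra hall
    push Not at hall
    exact e0 ((Module.forall_dual_apply_eq_zero_iff K _).mp hall)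
  let y : V → V := fun v => avg ρ v - ρ s' (avg ρ v)
  have hy : ∀ v, ∃ x : K, y v = x • e := fun v =>
    eall _ ((avg_inC v).sub (avg_inC v).s') (by
      show ρ s' (avg ρ v - ρ s' (avg ρ v)) = -(avg ρ v - ρ s' (avg ρ v))
      rw [map_sub, ss]; abel)
  let Λ : Module.Dual K V := η ∘ₗ (avg ρ - (ρ s') ∘ₗ avg ρ)
  have hΛ : ∀ v, Λ v = η (y v) := fun v => rfl
  have hΛe : Λ e ≠ 0 := by
    rw [hΛ]
    show η (avg ρ e - ρ s' (avg ρ e)) ≠ 0
    rw [avg_of_inC eC, map_smul, es, smul_neg, sub_neg_eq_add, ← add_smul, map_smul, smul_eq_mul]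
    apply mul_ne_zero _ hη
    have : (16 : K) + 16 = 2 ^ 5 := by norm_num
    rw [this]
    exact pow_ne_zero _ h2
  have hΛ0 : Λ ≠ 0 := by
    intro h0
    rw [h0] at hΛe
    exact hΛe rfl
  -- behaviour under the group
  have inv_of : ∀ {g : A8} (_ : ∀ v, Λ (ρ g v) = Λ v), ρ.dual g Λ = Λ := by
    intro g hg
    apply LinearMap.ext
    intro v
    have h3 := hg (ρ g⁻¹ v)
    rw [rho_self_inv] at h3
    rw [h3]
    rfl
  have fE : ∀ {g : A8}, (E16.map fun e => e * g) = E16 → ρ.dual g Λ = Λ := by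
    intro g hg
    apply inv_of
    intro v
    show η (avg ρ (ρ g v) - ρ s' (avg ρ (ρ g v))) = η (avg ρ v - ρ s' (avg ρ v))
    rw [avg_fix' hg]
  have fs : ρ.dual s Λ = Λ := by
    apply inv_of
    intro v
    rw [hΛ, hΛ]
    obtain ⟨x, hx⟩ := hy v
    have h3 : y (ρ s v) = ρ s (y v) := by
      show avg ρ (ρ s v) - ρ s' (avg ρ (ρ s v)) = ρ s (avg ρ v - ρ s' (avg ρ v))
      rw [avg_comm (by decide +kernel), ← rho_mul, show s' * s = s * s' by decide, rho_mul, map_sub]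
    rw [h3, hx, map_smul, se]
  have ft : ρ.dual t Λ = -Λ := by
    have h4 : ∀ v, Λ (ρ t v) = -Λ v := by
      intro v
      rw [hΛ, hΛ]
      obtain ⟨x, hx⟩ := hy v
      have h3 : y (ρ t v) = ρ t (y v) := by
        show avg ρ (ρ t v) - ρ s' (avg ρ (ρ t v)) = ρ t (avg ρ v - ρ s' (avg ρ v))
        rw [avg_comm (by decide +kernel), ← rho_mul, show s' * t = t * s' by decide, rho_mul, map_sub]
      rw [h3, hx, map_smul, te, smul_neg, map_neg]
    apply LinearMap.ext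
    intro v
    have h3 := h4 (ρ t⁻¹ v)
    rw [rho_self_inv] at h3
    show Λ (ρ t⁻¹ v) = -Λ v
    rw [h3, neg_neg]
  have fu : ρ.dual u1 Λ = Λ := by
    apply inv_of
    intro v
    rw [hΛ, hΛ]
    obtain ⟨x, hx⟩ := hy v
    have h3 : y (ρ u1 v) = ρ u1 (avg ρ v) - ρ s' (ρ u1 (avg ρ v)) := by
      show avg ρ (ρ u1 v) - ρ s' (avg ρ (ρ u1 v)) = _
      rw [avg_comm (by decide +kernel)]
    have hx' : avg ρ v - ρ s' (avg ρ v) = x • e := hx
    have hp : ρ u1 (avg ρ v + ρ s' (avg ρ v)) = avg ρ v + ρ s' (avg ρ v) := by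
      apply P4' _ ((avg_inC v).add (avg_inC v).s')
      rw [map_add, ss, add_comm]
    have h6 : (2 : K) • avg ρ v = (avg ρ v + ρ s' (avg ρ v)) + x • e := by rw [← hx', two_smul]; abel
    have h7 : (2 : K) • ρ u1 (avg ρ v) = (avg ρ v + ρ s' (avg ρ v)) + x • (e + z) := by
      rw [← map_smul, h6, map_add, hp, map_smul, hue]
    have h8 : (2 : K) • y (ρ u1 v) = (2 : K) • y v := by
      have h8' : (2 : K) • y (ρ u1 v) = (2 : K) • ρ u1 (avg ρ v) - ρ s' ((2 : K) • ρ u1 (avg ρ v)) := by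
        rw [h3, smul_sub, map_smul]
      rw [h8', h7, map_add, map_add, ss, map_smul, map_add, es, hsz, hx]
      module
    have h9 : y (ρ u1 v) = y v := smul_right_injective V h2 h8
    rw [h9]
  exact star h.dual.two h.dual.mult hΛ0
    (inC_iff.mpr ⟨fE (by decide +kernel), fE (by decide +kernel), fE (by decide +kernel), fE (by decide +kernel)⟩) fs fu ft

/-- disjoint double transpositions act independently -/
theorem not_nz (h2 : (2 : K) ≠ 0) (hle : Module.finrank K V ≤ 12) (v : V) :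
    ρ a1 (ρ b1 v - v) = ρ b1 v - v := by
  by_contra hne
  exact not_sit (ρ := ρ) ⟨h2, ⟨v, sub_ne_zero.mpr hne⟩, hle⟩

end Cfsg.Agent.H614.AMod

private theorem dce_6689389ab09a : _root_.True := by
  try have : _root_.True := by simp only [_root_.Cfsg.Agent.H614.AMod.E16.eq_1]
  exact _root_.True.intro
end

-- part: H614/AMod/EightF
section
set_option linter.all false
open scoped Cfsg.Agent.FastGrp

/-!
# Representations of `Alt (Fin 8)` of degree at most 12, odd or zero characteristic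

`c'_fix` : the 3-cycle `(4 5 6)` acts trivially on `[V, (0 1)(2 3)]`.
-/

set_option autoImplicit false
set_option linter.unusedSectionVars false

namespace Cfsg.Agent.H614.AMod

open Equiv Equiv.Perm E8

namespace E8

def w12 : A8 := ⟨swap 1 2 * swap 5 6, by rw [mem_alternatingGroup]; decide⟩

end E8

variable {K V : Type*} [Field K] [AddCommGroup V] [Module K V] [FiniteDimensional K V] {ρ : Representation K A8 V}

theorem c_zero (h2 : (2 : K) ≠ 0) (hle : Module.finrank K V ≤ 12) : nW ρ 1 (-1) 1 (-1) = 0 := by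
  have h1 : nW ρ (-1) 1 (-1) 1 = 0 := by
    unfold nW
    rw [Submodule.finrank_eq_zero, eq_bot_iff]
    rintro v ⟨⟨⟨f1, f2⟩, f3⟩, f4⟩
    rw [SetLike.mem_coe, mem_eg_neg] at f1 f3
    have h3 := not_nz (ρ := ρ) h2 hle v
    rw [f3, map_sub, map_neg, f1] at h3
    rw [Submodule.mem_bot]
    have h4 : (2 : K) • ((2 : K) • v) = 0 := by
      rw [two_smul, two_smul]
      have : v + v + (v + v) = (- -v - -v) - (-v - v) := by abel
      rw [this, h3, sub_self]
    rcases smul_eq_zero.mp h4 with h | h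
    · exact absurd h h2
    · rcases smul_eq_zero.mp h with h | h
      · exact absurd h h2
      · exact h
  have c1 := conj_a ρ 1 (-1)
  have c2 := conj_a ρ (-1) (-1)
  have c3 := conj_a ρ (-1) 1
  have d1 := conj_b ρ 1 (-1)
  omega

theorem nA_conj : nA ρ (-1) 1 1 = nA ρ 1 1 (-1) ∧ nA ρ (-1) 1 1 = nA ρ (-1) 1 (-1) ∧
    (∀ z : K, nA ρ (-1) 1 z = nA ρ (-1) (-1) z) ∧ (∀ z : K, nA ρ (-1) 1 z = nA ρ 1 (-1) z) := by
  refine ⟨?_, ?_, ?_, ?_⟩
  · apply finrank_eq_of_map ρ g1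
    · rintro v ⟨⟨e1, e2⟩, e3⟩
      exact ⟨⟨eg_move ρ (g := s) (by decide) e3, eg_move ρ (g := d2) (by decide) e2⟩,
        eg_move ρ (g := d1) (by decide) e1⟩
    · rintro v ⟨⟨e1, e2⟩, e3⟩
      exact ⟨⟨eg_move ρ (g := s) (by decide) e3, eg_move ρ (g := d2) (by decide) e2⟩,
        eg_move ρ (g := d1) (by decide) e1⟩
  · apply finrank_eq_of_map ρ b1
    · rintro v ⟨⟨e1, e2⟩, e3⟩
      have e4 := eg_mul ρ e1 e3
      rw [mul_one] at e4
      exact ⟨⟨eg_move ρ (g := d1) (by decide) e1, eg_move ρ (g := d2) (by decide) e2⟩,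
        eg_move ρ (g := d1 * s) (by decide) e4⟩
    · rintro v ⟨⟨e1, e2⟩, e3⟩
      have e4 := eg_mul ρ e1 e3
      rw [neg_mul_neg, mul_one] at e4
      exact ⟨⟨eg_move ρ (g := d1) (by decide) e1, eg_move ρ (g := d2) (by decide) e2⟩,
        eg_move ρ (g := d1 * s) (by decide) e4⟩
  · intro z
    apply finrank_eq_of_map ρ hh
    · rintro v ⟨⟨e1, e2⟩, e3⟩
      have e4 := eg_mul ρ e1 e2
      rw [mul_one] at e4
      exact ⟨⟨eg_move ρ (g := d1) (by decide) e1, eg_move ρ (g := d1 * d2) (by decide) e4⟩,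
        eg_move ρ (g := s) (by decide) e3⟩
    · rintro v ⟨⟨e1, e2⟩, e3⟩
      have e4 := eg_mul ρ e1 e2
      rw [neg_mul_neg, mul_one] at e4
      exact ⟨⟨eg_move ρ (g := d1) (by decide) e1, eg_move ρ (g := d1 * d2) (by decide) e4⟩,
        eg_move ρ (g := s) (by decide) e3⟩
  · intro z
    apply finrank_eq_of_map ρ w12
    · rintro v ⟨⟨e1, e2⟩, e3⟩
      exact ⟨⟨eg_move ρ (g := d2) (by decide) e2, eg_move ρ (g := d1) (by decide) e1⟩,
        eg_move ρ (g := s) (by decide) e3⟩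
    · rintro v ⟨⟨e1, e2⟩, e3⟩
      exact ⟨⟨eg_move ρ (g := d2) (by decide) e2, eg_move ρ (g := d1) (by decide) e1⟩,
        eg_move ρ (g := s) (by decide) e3⟩

theorem b_le (h2 : (2 : K) ≠ 0) (hle : Module.finrank K V ≤ 12) : nW ρ 1 1 1 (-1) ≤ 1 := by
  have hc0 := c_zero (ρ := ρ) h2 hle
  -- dim {d₁ = -1}
  have s1 := split ρ h2 four_a.xx (W := eg ρ d1 (-1)) (inv_eg ρ (by decide) _)
  have e1 : eg ρ d1 (-1) ⊓ eg ρ a1 1 = eg ρ a1 1 ⊓ eg ρ b1 (-1) := by
    ext v
    constructor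
    · rintro ⟨h3, h4⟩
      refine ⟨h4, ?_⟩
      have h5 := eg_right four_a.xx h4 h3
      rwa [one_mul] at h5
    · rintro ⟨h3, h4⟩
      refine ⟨?_, h3⟩
      have h5 := eg_mul ρ h3 h4
      rwa [one_mul] at h5
  have e2 : eg ρ d1 (-1) ⊓ eg ρ a1 (-1) = eg ρ a1 (-1) ⊓ eg ρ b1 1 := by
    ext v
    constructor
    · rintro ⟨h3, h4⟩
      refine ⟨h4, ?_⟩
      have h5 := eg_right four_a.xx h4 h3
      rwa [neg_mul_neg, one_mul] at h5
    · rintro ⟨h3, h4⟩
      refine ⟨?_, h3⟩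
      have h5 := eg_mul ρ h3 h4
      rwa [mul_one] at h5
  rw [e1, e2, split_ab ρ h2, split_ab ρ h2] at s1
  have c1 := conj_a ρ 1 (-1)
  have c2 := conj_a ρ (-1) (-1)
  have c3 := conj_a ρ (-1) 1
  have c4 := conj_b ρ 1 (-1)
  have c5 := conj_b ρ 1 1
  have c6 := conj_a ρ 1 1
  have c7 := conj_s ρ 1 (-1) 1 1
  have c8 := conj_b ρ (-1) 1
  have c9 := conj_b ρ (-1) (-1)
  have hd : Module.finrank K (eg ρ d1 (-1) : Submodule K V) = 4 * nW ρ 1 1 1 (-1) := by omega
  -- total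
  have t0 := split ρ h2 (g := d1) (by decide) (W := (⊤ : Submodule K V)) (inv_top ρ _)
  rw [top_inf_eq, top_inf_eq, finrank_top] at t0
  have t1 := split ρ h2 (g := d2) (by decide) (W := eg ρ d1 (-1)) (inv_eg ρ (by decide) _)
  have t2 := split ρ h2 (g := s) (by decide) (W := eg ρ d1 (-1) ⊓ eg ρ d2 1)
    (Inv.inf ρ (inv_eg ρ (by decide) _) (inv_eg ρ (by decide) _))
  have t3 := split ρ h2 (g := s) (by decide) (W := eg ρ d1 (-1) ⊓ eg ρ d2 (-1))
    (Inv.inf ρ (inv_eg ρ (by decide) _) (inv_eg ρ (by decide) _))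
  have t4 := split ρ h2 (g := d2) (by decide) (W := eg ρ d1 1) (inv_eg ρ (by decide) _)
  have t5 := split ρ h2 (g := s) (by decide) (W := eg ρ d1 1 ⊓ eg ρ d2 1)
    (Inv.inf ρ (inv_eg ρ (by decide) _) (inv_eg ρ (by decide) _))
  have t6 := split ρ h2 (g := s) (by decide) (W := eg ρ d1 1 ⊓ eg ρ d2 (-1))
    (Inv.inf ρ (inv_eg ρ (by decide) _) (inv_eg ρ (by decide) _))
  obtain ⟨k1, k2, k3, k4⟩ := nA_conj (ρ := ρ)
  have k5 := k3 1
  have k6 := k3 (-1)
  have k7 := k4 1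
  have k8 := k4 (-1)
  unfold nA at k1 k2 k5 k6 k7 k8
  omega

/-- `V₄'` acts trivially on `[V, a₁]` -/
theorem b_fix (h2 : (2 : K) ≠ 0) (hle : Module.finrank K V ≤ 12) {v : V} (hv : ρ a1 v = -v) :
    ρ b1 v = v ∧ ρ b2 v = v := by
  have key : ∀ {w : V}, ρ a1 w = -w → ρ b1 w = w := by
    intro w hw
    have h3 := not_nz (ρ := ρ) h2 hle w
    rw [map_sub, ← rho_mul, show a1 * b1 = b1 * a1 by decide, rho_mul, hw, map_neg] at h3
    have h4 : (2 : K) • (ρ b1 w - w) = 0 := by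
      rw [two_smul]
      have : ρ b1 w - w + (ρ b1 w - w) = (ρ b1 w - w) - (-ρ b1 w - -w) := by abel
      rw [this, h3, sub_self]
    rcases smul_eq_zero.mp h4 with h | h
    · exact absurd h h2
    · exact sub_eq_zero.mp h
  refine ⟨key hv, ?_⟩
  have h3 : ρ b1 (ρ c' v) = ρ c' v := by
    apply key
    rw [← rho_mul, show a1 * c' = c' * a1 by decide, rho_mul, hv, map_neg]
  have h4 : ρ b2 v = ρ c'⁻¹ (ρ b1 (ρ c' v)) := by
    rw [← rho_mul, ← rho_mul, show c'⁻¹ * b1 * c' = b2 by decide]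
  rw [h4, h3, rho_inv_self]

theorem c'_fix_line (h2 : (2 : K) ≠ 0) (hle : Module.finrank K V ≤ 12) {v : V} (hv : v ∈ W ρ 1 (-1) 1 1) :
    ρ c' v = v := by
  by_cases hv0 : v = 0
  · rw [hv0, map_zero]
  have hle1 : Module.finrank K (W ρ 1 (-1) 1 1) ≤ 1 := by
    have h3 := b_le (ρ := ρ) h2 hle
    have h4 := conj_s ρ 1 (-1) 1 1
    unfold nW at h3 h4
    omega
  obtain ⟨⟨⟨f1, f2⟩, f3⟩, f4⟩ := id hv
  obtain ⟨x, hx⟩ := line_span hle1 hv hv0 (v := ρ c' v) ⟨⟨⟨eg_move ρ (g := a1) (by decide) f1,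
    eg_move ρ (g := a2) (by decide) f2⟩, eg_move ρ (g := b2) (by decide) f4⟩, by
      have h5 := eg_mul ρ f3 f4
      rw [one_mul] at h5
      exact eg_move ρ (g := b1 * b2) (by decide) h5⟩
  obtain ⟨y, hy⟩ := line_span hle1 hv hv0 (v := ρ t v) ⟨⟨⟨eg_move ρ (g := a1) (by decide) f1, by
      have h5 := eg_mul ρ f1 f2
      rw [one_mul] at h5
      exact eg_move ρ (g := a1 * a2) (by decide) h5⟩, eg_move ρ (g := b1) (by decide) f3⟩, by
      have h5 := eg_mul ρ f3 f4
      rw [one_mul] at h5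
      exact eg_move ρ (g := b1 * b2) (by decide) h5⟩
  have inj : ∀ {p q : K}, p • v = q • v → p = q := fun {p q} hpq => smul_left_injective K hv0 hpq
  have hy0 : y ≠ 0 := by
    rintro rfl
    rw [zero_smul] at hy
    have := rho_inv_self ρ t v
    rw [hy, map_zero] at this
    exact hv0 this.symm
  have h3 : ρ c' (ρ t (ρ c' v)) = ρ t v := by
    rw [← rho_mul, ← rho_mul, show c' * t * c' = t by decide]
  rw [hx, map_smul, hy, map_smul, map_smul, hx, smul_smul, smul_smul] at h3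
  have h4 : x * x = 1 := by
    have h5 := inj h3
    have h6 : y * (x * x) = y * 1 := by
      rw [mul_one]
      calc y * (x * x) = x * y * x := by ring
        _ = y := h5
    exact mul_left_cancel₀ hy0 h6
  have h5 : x * x * x = 1 := by
    apply inj
    have h6 : ρ c' (ρ c' (ρ c' v)) = v := by
      rw [← rho_mul, ← rho_mul, show c' * c' * c' = 1 by decide, rho_one]
    rw [hx, map_smul, map_smul, hx, map_smul, hx, smul_smul, smul_smul] at h6
    rw [one_smul]
    exact h6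
  rw [hx, eq_one_of_sq_cube h4 h5, one_smul]

/-- the 3-cycle `(4 5 6)` acts trivially on `{a₁ = -1}` -/
theorem c'_fix (h2 : (2 : K) ≠ 0) (hle : Module.finrank K V ≤ 12) {v : V} (hv : ρ a1 v = -v) : ρ c' v = v := by
  obtain ⟨h3, h4⟩ := b_fix h2 hle hv
  have aa : ∀ y : V, ρ a2 (ρ a2 y) = y := fun y => by rw [← rho_mul, show a2 * a2 = 1 by decide, rho_one]
  have hv2 : ρ a1 (ρ a2 v) = -ρ a2 v := by
    rw [← rho_mul, show a1 * a2 = a2 * a1 by decide, rho_mul, hv, map_neg]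
  -- v = v₊ + v₋
  have hp : ρ c' (v + ρ a2 v) = v + ρ a2 v := by
    -- a₁ = -1, a₂ = 1 : conjugate by c
    have h5 : ρ a1 (v + ρ a2 v) = -(v + ρ a2 v) := by rw [map_add, hv, hv2]; abel
    have h6 : ρ a2 (v + ρ a2 v) = v + ρ a2 v := by rw [map_add, aa, add_comm]
    obtain ⟨h7, h8⟩ := b_fix h2 hle h5
    have h9 := c'_fix_line (ρ := ρ) h2 hle (v := ρ c (v + ρ a2 v)) ⟨⟨⟨
      eg_move ρ (g := a2) (by decide) ((mem_eg_one ρ).mpr h6), by
        have h10 := eg_mul ρ ((mem_eg_neg ρ).mpr h5) ((mem_eg_one ρ).mpr h6)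
        rw [mul_one] at h10
        exact eg_move ρ (g := a1 * a2) (by decide) h10⟩,
      eg_move ρ (g := b1) (by decide) ((mem_eg_one ρ).mpr h7)⟩,
      eg_move ρ (g := b2) (by decide) ((mem_eg_one ρ).mpr h8)⟩
    rw [← rho_mul, show c' * c = c * c' by decide, rho_mul] at h9
    have h10 := congrArg (ρ c⁻¹) h9
    rwa [rho_inv_self, rho_inv_self] at h10
  have hm : ρ c' (v - ρ a2 v) = v - ρ a2 v := by
    -- a₁ = -1, a₂ = -1 : conjugate by c⁻¹
    have h5 : ρ a1 (v - ρ a2 v) = -(v - ρ a2 v) := by rw [map_sub, hv, hv2]; abel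
    have h6 : ρ a2 (v - ρ a2 v) = -(v - ρ a2 v) := by rw [map_sub, aa]; abel
    obtain ⟨h7, h8⟩ := b_fix h2 hle h5
    have h9 := c'_fix_line (ρ := ρ) h2 hle (v := ρ c⁻¹ (v - ρ a2 v)) ⟨⟨⟨by
        have h10 := eg_mul ρ ((mem_eg_neg ρ).mpr h5) ((mem_eg_neg ρ).mpr h6)
        rw [neg_mul_neg, one_mul] at h10
        exact eg_move ρ (g := a1 * a2) (by decide) h10,
      eg_move ρ (g := a1) (by decide) ((mem_eg_neg ρ).mpr h5)⟩,
      eg_move ρ (g := b1) (by decide) ((mem_eg_one ρ).mpr h7)⟩,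
      eg_move ρ (g := b2) (by decide) ((mem_eg_one ρ).mpr h8)⟩
    rw [← rho_mul, show c' * c⁻¹ = c⁻¹ * c' by decide, rho_mul] at h9
    have h10 := congrArg (ρ c) h9
    rwa [rho_self_inv, rho_self_inv] at h10
  have h11 : (2 : K) • ρ c' v = (2 : K) • v := by
    have h12 : (2 : K) • v = (v + ρ a2 v) + (v - ρ a2 v) := by rw [two_smul]; abel
    rw [← map_smul, h12, map_add, hp, hm]
  exact smul_right_injective V h2 h11

end Cfsg.Agent.H614.AMod
end

-- part: H614/AMod/Emb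
section
set_option linter.all false
open scoped Cfsg.Agent.FastGrp

/-!
# Even permutations supported on the image of an embedding

* `ex e` : the homomorphism `Alt (Fin k) → Alt α` belonging to an embedding `e : Fin k ↪ α`;
* `ex_conj` : conjugation moves the embedding;
* `mem_of_cyc` : a subgroup that contains the 3-cycles `(x y z)`, `z ∈ S`, contains every even
  permutation supported on `S`;
* `exists_move` : transitivity of `Alt α` on embeddings of `Fin k`, `k + 2 ≤ |α|`.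
-/

set_option autoImplicit false
set_option linter.unusedSectionVars false

namespace Cfsg.Agent.H614.AMod

open Equiv Equiv.Perm

variable {α : Type*} [Fintype α] [DecidableEq α] {k : ℕ}

/-- extension of permutations along an embedding -/
def exP (e : Fin k ↪ α) : Perm (Fin k) →* Perm α := extendDomainHom e.toEquivRange

theorem exP_apply (e : Fin k ↪ α) (σ : Perm (Fin k)) (i : Fin k) : exP e σ (e i) = e (σ i) := by
  have h := Perm.extendDomain_apply_image σ e.toEquivRange i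
  simpa [exP] using h

theorem exP_of_notMem (e : Fin k ↪ α) (σ : Perm (Fin k)) {x : α} (hx : ∀ i, e i ≠ x) : exP e σ x = x := by
  have h : x ∉ Set.range e := by rintro ⟨i, hi⟩; exact hx i hi
  exact Perm.extendDomain_apply_not_subtype σ e.toEquivRange h

theorem sign_exP (e : Fin k ↪ α) (σ : Perm (Fin k)) : sign (exP e σ) = sign σ := by
  exact sign_extendDomain σ e.toEquivRange

/-- extension of even permutations along an embedding -/
def ex (e : Fin k ↪ α) : alternatingGroup (Fin k) →* alternatingGroup α :=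
  ((exP e).comp (alternatingGroup (Fin k)).subtype).codRestrict _ fun σ => by
    rw [mem_alternatingGroup, MonoidHom.comp_apply, sign_exP]
    exact mem_alternatingGroup.mp σ.2

theorem coe_ex (e : Fin k ↪ α) (σ : alternatingGroup (Fin k)) : ((ex e σ : alternatingGroup α) : Perm α) = exP e σ :=
  rfl

theorem ex_apply (e : Fin k ↪ α) (σ : alternatingGroup (Fin k)) (i : Fin k) :
    (ex e σ : Perm α) (e i) = e ((σ : Perm (Fin k)) i) := exP_apply e σ i

theorem ex_of_notMem (e : Fin k ↪ α) (σ : alternatingGroup (Fin k)) {x : α} (hx : ∀ i, e i ≠ x) :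
    (ex e σ : Perm α) x = x := exP_of_notMem e σ hx

theorem ex_conj (e e' : Fin k ↪ α) (σ : alternatingGroup (Fin k)) (g : alternatingGroup α)
    (h : ∀ i, (g : Perm α) (e i) = e' i) : g * ex e σ * g⁻¹ = ex e' σ := by
  apply Subtype.ext
  rw [Subgroup.coe_mul, Subgroup.coe_mul, InvMemClass.coe_inv, mul_inv_eq_iff_eq_mul]
  apply Equiv.ext
  intro x
  rw [Perm.mul_apply, Perm.mul_apply]
  by_cases hx : ∃ i, e i = x
  · obtain ⟨i, rfl⟩ := hx
    rw [ex_apply, h, h, ex_apply]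
  · rw [not_exists] at hx
    rw [ex_of_notMem e σ hx, ex_of_notMem e' σ]
    intro i hi
    rw [← h i] at hi
    exact hx i ((g : Perm α).injective hi)

/-- a permutation of the indices -/
theorem ex_congr {l : ℕ} (e : Fin k ↪ α) (e' : Fin l ↪ α) (f : Fin l ↪ Fin k) (h : ∀ i, e' i = e (f i))
    (σ : alternatingGroup (Fin l)) : ex e' σ = ex e (ex f σ) := by
  apply Subtype.ext
  apply Equiv.ext
  intro x
  by_cases hx : ∃ i, e i = x
  · obtain ⟨i, rfl⟩ := hx
    rw [ex_apply]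
    by_cases hi : ∃ j, f j = i
    · obtain ⟨j, rfl⟩ := hi
      rw [← h, ex_apply, ex_apply, h]
    · rw [not_exists] at hi
      rw [ex_of_notMem f σ hi, ex_of_notMem e' σ]
      intro j hj
      rw [h] at hj
      exact hi j (e.injective hj)
  · rw [not_exists] at hx
    rw [ex_of_notMem e _ hx, ex_of_notMem e' σ]
    intro j hj
    rw [h] at hj
    exact hx _ hj

/-- `Alt α` is transitive on embeddings of `Fin k`, `k + 2 ≤ |α|`. -/
theorem exists_move (hk : k + 2 ≤ Fintype.card α) (e e' : Fin k ↪ α) :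
    ∃ g : alternatingGroup α, ∀ i, (g : Perm α) (e i) = e' i := by
  have h1 : MulAction.IsMultiplyPretransitive (alternatingGroup α) α k := by
    have h2 := alternatingGroup.isMultiplyPretransitive α
    have h3 : k ≤ Nat.card α - 2 := by rw [Nat.card_eq_fintype_card]; omega
    exact MulAction.isMultiplyPretransitive_of_le h3 (Nat.sub_le _ _)
  obtain ⟨g, hg⟩ := h1.exists_smul_eq e e'
  refine ⟨g, fun i => ?_⟩
  have := congrArg (fun f : Fin k ↪ α => f i) hg
  exact this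

/-- the basic 3-cycle -/
def c3 : alternatingGroup (Fin 3) := ⟨swap (0 : Fin 3) 1 * swap (1 : Fin 3) 2, by rw [mem_alternatingGroup]; decide⟩

/-- three different points -/
def emb3 (x y z : α) (hxy : x ≠ y) (hyz : y ≠ z) (hxz : x ≠ z) : Fin 3 ↪ α :=
  ⟨![x, y, z], by
    intro i j h
    fin_cases i <;> fin_cases j <;> simp_all⟩

theorem coe_c3 (e : Fin 3 ↪ α) : ((ex e c3 : alternatingGroup α) : Perm α) = swap (e 0) (e 1) * swap (e 1) (e 2) := by
  apply Equiv.ext
  intro x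
  by_cases hx : ∃ i, e i = x
  · obtain ⟨i, rfl⟩ := hx
    rw [ex_apply, Perm.mul_apply]
    have h01 : e 0 ≠ e 1 := e.injective.ne (by decide)
    have h02 : e 0 ≠ e 2 := e.injective.ne (by decide)
    have h12 : e 1 ≠ e 2 := e.injective.ne (by decide)
    fin_cases i
    · show e (swap (0 : Fin 3) 1 (swap (1 : Fin 3) 2 0)) = _
      rw [show (swap (0 : Fin 3) 1 (swap (1 : Fin 3) 2 0) : Fin 3) = 1 by decide]
      show e 1 = swap (e 0) (e 1) (swap (e 1) (e 2) (e 0))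
      rw [swap_apply_of_ne_of_ne h01 h02, swap_apply_left]
    · show e (swap (0 : Fin 3) 1 (swap (1 : Fin 3) 2 1)) = _
      rw [show (swap (0 : Fin 3) 1 (swap (1 : Fin 3) 2 1) : Fin 3) = 2 by decide]
      show e 2 = swap (e 0) (e 1) (swap (e 1) (e 2) (e 1))
      rw [swap_apply_left, swap_apply_of_ne_of_ne h02.symm h12.symm]
    · show e (swap (0 : Fin 3) 1 (swap (1 : Fin 3) 2 2)) = _
      rw [show (swap (0 : Fin 3) 1 (swap (1 : Fin 3) 2 2) : Fin 3) = 0 by decide]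
      show e 0 = swap (e 0) (e 1) (swap (e 1) (e 2) (e 2))
      rw [swap_apply_right, swap_apply_right]
  · have hx' : ∀ i, x ≠ e i := fun i h => hx ⟨i, h.symm⟩
    rw [ex_of_notMem e _ (fun i => (hx' i).symm), Perm.mul_apply, swap_apply_of_ne_of_ne (hx' 1) (hx' 2),
      swap_apply_of_ne_of_ne (hx' 0) (hx' 1)]

/-- A subgroup containing the 3-cycles `(x y z)`, `z ∈ S`, contains all even permutations supported on `S`. -/
theorem mem_of_cyc (H : Subgroup (alternatingGroup α)) (S : Set α) {x y : α} (hx : x ∈ S) (hy : y ∈ S) (hxy : x ≠ y)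
    (hH : ∀ e : Fin 3 ↪ α, e 0 = x → e 1 = y → e 2 ∈ S → ex e c3 ∈ H) (g : alternatingGroup α)
    (hg : ∀ z, z ∉ S → (g : Perm α) z = z) : g ∈ H := by
  -- the 3-cycles through x
  have hcx : ∀ (z w : α), z ∈ S → w ∈ S → z ≠ x → z ≠ y → w ≠ x → w ≠ y → z ≠ w →
      ∃ h ∈ H, ((h : alternatingGroup α) : Perm α) = swap x z * swap x w := by
    intro z w hz hw hzx hzy hwx hwy hzw
    have h1 := hH (emb3 x y z hxy hzy.symm hzx.symm) rfl rfl hz
    have h2 := hH (emb3 x y w hxy hwy.symm hwx.symm) rfl rfl hw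
    refine ⟨_, H.mul_mem h1 (H.inv_mem h2), ?_⟩
    rw [Subgroup.coe_mul, InvMemClass.coe_inv, coe_c3, coe_c3]
    show (swap x y * swap y z) * (swap x y * swap y w)⁻¹ = _
    rw [mul_inv_rev, swap_inv, swap_inv]
    have e1 : swap x y * swap y z * swap x y = swap x z := by
      have h := Equiv.swap_apply_apply (swap x y) y z
      rw [swap_apply_right, swap_apply_of_ne_of_ne hzx hzy, swap_inv] at h
      exact h.symm
    have e2 : swap x y * swap y w * swap x y = swap x w := by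
      have h := Equiv.swap_apply_apply (swap x y) y w
      rw [swap_apply_right, swap_apply_of_ne_of_ne hwx hwy, swap_inv] at h
      exact h.symm
    calc swap x y * swap y z * (swap y w * swap x y)
        = (swap x y * swap y z * swap x y) * (swap x y * swap y w * swap x y) := by
          simp only [mul_assoc]
          rw [← mul_assoc (swap x y) (swap x y), swap_mul_self, one_mul]
      _ = _ := by rw [e1, e2]
  have hcy : ∀ (z w : α), z ∈ S → w ∈ S → z ≠ x → z ≠ y → w ≠ x → w ≠ y → z ≠ w →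
      ∃ h ∈ H, ((h : alternatingGroup α) : Perm α) = swap y z * swap y w := by
    intro z w hz hw hzx hzy hwx hwy hzw
    have h1 := hH (emb3 x y z hxy hzy.symm hzx.symm) rfl rfl hz
    have h2 := hH (emb3 x y w hxy hwy.symm hwx.symm) rfl rfl hw
    refine ⟨_, H.mul_mem (H.inv_mem h1) h2, ?_⟩
    rw [Subgroup.coe_mul, InvMemClass.coe_inv, coe_c3, coe_c3]
    show (swap x y * swap y z)⁻¹ * (swap x y * swap y w) = _
    rw [mul_inv_rev, swap_inv, swap_inv]
    simp only [mul_assoc]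
    rw [← mul_assoc (swap x y) (swap x y), swap_mul_self, one_mul]
  -- induction on the number of moved points different from x, y
  have key : ∀ (n : ℕ) (g : alternatingGroup α), (∀ z, z ∉ S → (g : Perm α) z = z) →
      (Finset.univ.filter fun z => (g : Perm α) z ≠ z ∧ z ≠ x ∧ z ≠ y).card ≤ n → g ∈ H := by
    intro n
    induction n with
    | zero =>
      intro g hg hn
      have h0 : ∀ z, z ≠ x → z ≠ y → (g : Perm α) z = z := by
        intro z hzx hzy
        by_contra hz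
        have : z ∈ (Finset.univ.filter fun z => (g : Perm α) z ≠ z ∧ z ≠ x ∧ z ≠ y) := by simp [hz, hzx, hzy]
        rw [Finset.card_eq_zero.mp (Nat.le_zero.mp hn)] at this
        simp at this
      have h1 : (g : Perm α) = 1 := by
        by_contra hne
        have h2 : (g : Perm α) x = y := by
          by_contra hxy'
          have hgx : (g : Perm α) x = x := by
            by_contra hgx
            have h3 := h0 ((g : Perm α) x) hgx hxy'
            exact hgx ((g : Perm α).injective h3)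
          apply hne
          apply Equiv.ext
          intro z
          by_cases hzx : z = x
          · rw [hzx, hgx]; rfl
          by_cases hzy : z = y
          · rw [hzy]
            by_contra hgy
            have hgy' : (g : Perm α) y ≠ y := hgy
            have h4 : (g : Perm α) y ≠ x := by
              intro h5
              rw [← hgx] at h5
              exact hxy ((g : Perm α).injective h5).symm
            have h5 := h0 _ h4 hgy'
            exact hgy' ((g : Perm α).injective h5)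
          · rw [h0 z hzx hzy]; rfl
        have h3 : (g : Perm α) = swap x y := by
          apply Equiv.ext
          intro z
          by_cases hzx : z = x
          · rw [hzx, h2, swap_apply_left]
          by_cases hzy : z = y
          · rw [hzy, swap_apply_right]
            by_contra hgy
            have h4 : (g : Perm α) y ≠ y := by
              intro h5
              have h6 : (g : Perm α) x = (g : Perm α) y := by rw [h2, h5]
              exact hxy ((g : Perm α).injective h6)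
            have h5 := h0 _ hgy h4
            exact h4 ((g : Perm α).injective h5)
          · rw [h0 z hzx hzy, swap_apply_of_ne_of_ne hzx hzy]
        have h4 := mem_alternatingGroup.mp g.2
        rw [h3, sign_swap hxy] at h4
        exact absurd h4 (by decide)
      have h2 : g = 1 := Subtype.ext h1
      rw [h2]
      exact H.one_mem
    | succ n ih =>
      intro g hg hn
      by_cases hall : ∀ z, z ≠ x → z ≠ y → (g : Perm α) z = z
      · apply ih g hg
        rw [Finset.filter_false_of_mem]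
        · simp
        · rintro z - ⟨h1, h2, h3⟩
          exact h1 (hall z h2 h3)
      · push Not at hall
        obtain ⟨z, hzx, hzy, hgz⟩ := hall
        have hzS : z ∈ S := by
          by_contra h
          exact hgz (hg z h)
        set w := (g : Perm α) z with hw
        have hwS : w ∈ S := by
          by_contra h
          have := hg w h
          exact hgz ((g : Perm α).injective this)
        -- an element of H moving w to z
        obtain ⟨h, hhH, hhw, hhS, hhf⟩ : ∃ h ∈ H, ((h : alternatingGroup α) : Perm α) w = z ∧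
            (∀ u, u ∉ S → (h : Perm α) u = u) ∧
            (∀ u, u ≠ x → u ≠ y → u ≠ w → u ≠ z → (h : Perm α) u = u) := by
          by_cases hwx : w = x
          · obtain ⟨hb, hbH⟩ : ∃ e : Fin 3 ↪ α, e 0 = x ∧ e 1 = y ∧ e 2 = z :=
              ⟨emb3 x y z hxy hzy.symm hzx.symm, rfl, rfl, rfl⟩
            refine ⟨(ex hb c3)⁻¹, H.inv_mem (hH hb hbH.1 hbH.2.1 (hbH.2.2 ▸ hzS)), ?_, ?_, ?_⟩
            · rw [InvMemClass.coe_inv, coe_c3, hbH.1, hbH.2.1, hbH.2.2, mul_inv_rev, swap_inv, swap_inv, Perm.mul_apply,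
                hwx, swap_apply_left, swap_apply_left]
            · intro u hu
              rw [InvMemClass.coe_inv, coe_c3, hbH.1, hbH.2.1, hbH.2.2, mul_inv_rev, swap_inv, swap_inv, Perm.mul_apply]
              have ux : u ≠ x := fun h => hu (h ▸ hx)
              have uy : u ≠ y := fun h => hu (h ▸ hy)
              have uz : u ≠ z := fun h => hu (h ▸ hzS)
              rw [swap_apply_of_ne_of_ne ux uy, swap_apply_of_ne_of_ne uy uz]
            · intro u ux uy uw uz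
              rw [InvMemClass.coe_inv, coe_c3, hbH.1, hbH.2.1, hbH.2.2, mul_inv_rev, swap_inv, swap_inv, Perm.mul_apply,
                swap_apply_of_ne_of_ne ux uy, swap_apply_of_ne_of_ne uy uz]
          · by_cases hwy : w = y
            · obtain ⟨hb, hbH⟩ : ∃ e : Fin 3 ↪ α, e 0 = x ∧ e 1 = y ∧ e 2 = z :=
                ⟨emb3 x y z hxy hzy.symm hzx.symm, rfl, rfl, rfl⟩
              refine ⟨ex hb c3, hH hb hbH.1 hbH.2.1 (hbH.2.2 ▸ hzS), ?_, ?_, ?_⟩
              · rw [coe_c3, hbH.1, hbH.2.1, hbH.2.2, Perm.mul_apply, hwy, swap_apply_left,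
                  swap_apply_of_ne_of_ne hzx hzy]
              · intro u hu
                rw [coe_c3, hbH.1, hbH.2.1, hbH.2.2, Perm.mul_apply]
                have ux : u ≠ x := fun h => hu (h ▸ hx)
                have uy : u ≠ y := fun h => hu (h ▸ hy)
                have uz : u ≠ z := fun h => hu (h ▸ hzS)
                rw [swap_apply_of_ne_of_ne uy uz, swap_apply_of_ne_of_ne ux uy]
              · intro u ux uy uw uz
                rw [coe_c3, hbH.1, hbH.2.1, hbH.2.2, Perm.mul_apply,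
                  swap_apply_of_ne_of_ne uy uz, swap_apply_of_ne_of_ne ux uy]
            · have hwz : w ≠ z := hgz
              obtain ⟨h, hH', hh⟩ := hcx z w hzS hwS hzx hzy hwx hwy hwz.symm
              refine ⟨h, hH', ?_, ?_, ?_⟩
              · rw [hh, Perm.mul_apply, swap_apply_right, swap_apply_left]
              · intro u hu
                have ux : u ≠ x := fun h => hu (h ▸ hx)
                have uz : u ≠ z := fun h => hu (h ▸ hzS)
                have uw : u ≠ w := fun h => hu (h ▸ hwS)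
                rw [hh, Perm.mul_apply, swap_apply_of_ne_of_ne ux uw, swap_apply_of_ne_of_ne ux uz]
              · intro u ux uy uw uz
                rw [hh, Perm.mul_apply, swap_apply_of_ne_of_ne ux uw, swap_apply_of_ne_of_ne ux uz]
        have h3 : h * g ∈ H := by
          apply ih
          · intro u hu
            rw [Subgroup.coe_mul, Perm.mul_apply, hg u hu, hhS u hu]
          · have hsub : (Finset.univ.filter fun u => ((h * g : alternatingGroup α) : Perm α) u ≠ u ∧ u ≠ x ∧ u ≠ y) ⊂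
                (Finset.univ.filter fun u => (g : Perm α) u ≠ u ∧ u ≠ x ∧ u ≠ y) := by
              rw [Finset.ssubset_iff_of_subset]
              · refine ⟨z, Finset.mem_filter.mpr ⟨Finset.mem_univ _, hgz, hzx, hzy⟩, fun h5 => ?_⟩
                exact (Finset.mem_filter.mp h5).2.1 (by rw [Subgroup.coe_mul, Perm.mul_apply]; exact hhw)
              · intro u h0
                obtain ⟨-, h1, h2, h3⟩ := Finset.mem_filter.mp h0
                refine Finset.mem_filter.mpr ⟨Finset.mem_univ _, fun h4 => h1 ?_, h2, h3⟩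
                rw [Subgroup.coe_mul, Perm.mul_apply, h4]
                apply hhf u h2 h3
                · intro h5
                  rw [h5] at h4
                  exact hgz ((g : Perm α).injective h4)
                · intro h5
                  rw [h5] at h4
                  exact hgz h4
            have := Finset.card_lt_card hsub
            omega
        have h4 : g = h⁻¹ * (h * g) := by group
        rw [h4]
        exact H.mul_mem (H.inv_mem hhH) h3
  exact key _ g hg le_rfl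

end Cfsg.Agent.H614.AMod

private theorem dce_0a2a61f1ac87 : _root_.True := by
  try have : _root_.True := by simp only [_root_.Equiv.Perm.extendDomainHom.congr_simp]
  try have : _root_.True := by simp only [_root_.Cfsg.Agent.H614.AMod.exP.eq_1]
  exact _root_.True.intro
end

-- part: H882/Del/Basic
section
set_option linter.all false
open scoped Cfsg.Agent.FastGrp

/-!
# Deleted permutation modules (helper882)

`v : ι → V` spans `V`, `|ι| = dim V + 1`, `∑ v i = 0`.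
-/

set_option autoImplicit false
set_option linter.unusedSectionVars false

namespace Cfsg.Agent.H882.Del

open QuadraticMap hiding proj
open Cfsg.Agent.LieClassical.OrthCore Cfsg.Agent.LieClassical.OrthTrans

variable {F : Type*} [Field F] {V : Type*} [AddCommGroup V] [Module F V]
variable {ι : Type*} [Fintype ι] [DecidableEq ι] {v : ι → V}

/-- `V` is spanned by `|ι| = dim V + 1` vectors with sum zero. -/
structure Sys (F : Type*) [Field F] {V : Type*} [AddCommGroup V] [Module F V] {ι : Type*} [Fintype ι]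
    (v : ι → V) : Prop where
  span : Submodule.span F (Set.range v) = ⊤
  card : Fintype.card ι = Module.finrank F V + 1
  pos : 0 < Module.finrank F V
  sum : ∑ i, v i = 0

namespace Sys

variable (S : Sys F v)

include S

/-- The relations between the `v i` are the multiples of `∑ v i = 0`. -/
theorem rel {c : ι → F} (h : ∑ i, c i • v i = 0) (i j : ι) : c i = c j := by
  classical
  have hfin : Module.Finite F V := Module.finite_of_finrank_pos S.pos
  let Φ : (ι → F) →ₗ[F] V := Fintype.linearCombination F v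
  have hΦ : ∀ c, Φ c = ∑ i, c i • v i := fun c => rfl
  have hsurj : LinearMap.range Φ = ⊤ := by
    rw [← S.span]
    exact Fintype.range_linearCombination F v
  have h1 := LinearMap.finrank_range_add_finrank_ker Φ
  rw [hsurj, finrank_top, Module.finrank_fintype_fun_eq_card, S.card] at h1
  have h2 : Module.finrank F (LinearMap.ker Φ) = 1 := by omega
  have hne : (fun _ : ι => (1 : F)) ≠ 0 := by
    intro h0
    have hc : 0 < Fintype.card ι := by rw [S.card]; omega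
    obtain ⟨i0⟩ := Fintype.card_pos_iff.1 hc
    exact one_ne_zero (congrFun h0 i0)
  have hmem : (fun _ : ι => (1 : F)) ∈ LinearMap.ker Φ := by
    rw [LinearMap.mem_ker, hΦ]
    simp only [one_smul]
    exact S.sum
  have h3 := (finrank_eq_one_iff_of_nonzero' (⟨_, hmem⟩ : LinearMap.ker Φ)
    (fun h0 => hne (congrArg Subtype.val h0))).1 h2 ⟨c, by rw [LinearMap.mem_ker, hΦ, h]⟩
  obtain ⟨a, ha⟩ := h3
  have h4 := congrArg Subtype.val ha
  have h5 : ∀ i, a = c i := fun i => by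
    have := congrFun h4 i
    simpa using this
  rw [← h5 i, ← h5 j]

/-- A linear map with prescribed values, compatible with the relation. -/
theorem exists_map {X : Type*} [AddCommGroup X] [Module F X] (w : ι → X) (hw : ∑ i, w i = 0) :
    ∃ f : V →ₗ[F] X, ∀ i, f (v i) = w i := by
  let Φ : (ι → F) →ₗ[F] V := Fintype.linearCombination F v
  have hΦ : ∀ c, Φ c = ∑ i, c i • v i := fun c => rfl
  have hsurj : Function.Surjective Φ := by
    rw [← LinearMap.range_eq_top, ← S.span]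
    exact Fintype.range_linearCombination F v
  obtain ⟨g, hg⟩ := Φ.exists_rightInverse_of_surjective (LinearMap.range_eq_top.2 hsurj)
  let Ψ : (ι → F) →ₗ[F] X := Fintype.linearCombination F w
  have hΨ : ∀ c, Ψ c = ∑ i, c i • w i := fun c => rfl
  refine ⟨Ψ ∘ₗ g, fun i => ?_⟩
  have hgv : Φ (g (v i)) = v i := LinearMap.congr_fun hg (v i)
  have h1 : Φ (Pi.single i 1) = v i := by
    rw [hΦ, Finset.sum_eq_single i]
    · simp
    · intro j _ hj; simp [hj]
    · simp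
  have h2 : Φ (g (v i) - Pi.single i 1) = 0 := by rw [map_sub, hgv, h1, sub_self]
  have h3 : Ψ (g (v i) - Pi.single i 1) = 0 := by
    rw [hΨ]
    rw [hΦ] at h2
    have h4 := S.rel h2
    rw [Finset.sum_congr rfl fun j _ => by rw [h4 j i], ← Finset.smul_sum, hw, smul_zero]
  have h5 : Ψ (Pi.single i 1) = w i := by
    rw [hΨ, Finset.sum_eq_single i]
    · simp
    · intro j _ hj; simp [hj]
    · simp
  rw [LinearMap.comp_apply]
  rw [map_sub, sub_eq_zero, h5] at h3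
  exact h3

theorem ext {X : Type*} [AddCommGroup X] [Module F X] {f g : V →ₗ[F] X} (h : ∀ i, f (v i) = g (v i)) : f = g :=
  LinearMap.ext_on_range (hv := S.span) h

theorem ext' {X : Type*} [AddCommGroup X] [Module F X] {f g : V ≃ₗ[F] X} (h : ∀ i, f (v i) = g (v i)) : f = g := by
  have := S.ext (f := (f : V →ₗ[F] X)) (g := (g : V →ₗ[F] X)) h
  ext x
  exact LinearMap.congr_fun this x

theorem exists_equiv (σ : Equiv.Perm ι) : ∃ f : V ≃ₗ[F] V, ∀ i, f (v i) = v (σ i) := by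
  have h1 : ∀ σ : Equiv.Perm ι, ∑ i, v (σ i) = 0 := fun σ => by rw [Equiv.sum_comp σ v, S.sum]
  obtain ⟨f, hf⟩ := S.exists_map (fun i => v (σ i)) (h1 σ)
  obtain ⟨g, hg⟩ := S.exists_map (fun i => v (σ⁻¹ i)) (h1 σ⁻¹)
  refine ⟨LinearEquiv.ofLinearMap f g (S.ext fun i => ?_) (S.ext fun i => ?_), fun i => hf i⟩
  · rw [LinearMap.comp_apply, hg, hf, LinearMap.id_apply]
    exact congrArg v (σ.apply_symm_apply i)
  · rw [LinearMap.comp_apply, hf, hg, LinearMap.id_apply]
    exact congrArg v (σ.symm_apply_apply i)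

theorem exists_two : ∃ i j : ι, i ≠ j := by
  have : 1 < Fintype.card ι := by rw [S.card]; have := S.pos; omega
  obtain ⟨i, j, h⟩ := Fintype.exists_pair_of_one_lt_card this
  exact ⟨i, j, h⟩

theorem ne_zero (i : ι) : v i ≠ 0 := by
  classical
  intro h
  have h1 : ∑ j, (Pi.single i (1 : F) : ι → F) j • v j = 0 := by
    rw [Finset.sum_eq_single i]
    · simp [h]
    · intro j _ hj; simp [hj]
    · simp
  obtain ⟨a, b, hab⟩ := S.exists_two
  have h2 := S.rel h1
  by_cases ha : a = i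
  · subst ha
    have := h2 a b
    simp [hab.symm] at this
  · have := h2 a i
    simp [ha] at this

theorem injective (h3 : 3 ≤ Fintype.card ι) : Function.Injective v := by
  classical
  intro i j hij
  by_contra hne
  have h1 : ∑ k, ((Pi.single i (1 : F) : ι → F) - (Pi.single j (1 : F) : ι → F)) k • v k = 0 := by
    simp only [Pi.sub_apply, sub_smul, Finset.sum_sub_distrib]
    rw [Finset.sum_eq_single i, Finset.sum_eq_single j]
    · simp [hij]
    · intro k _ hk; simp [hk]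
    · simp
    · intro k _ hk; simp [hk]
    · simp
  have h2 := S.rel h1
  have h4 : ∃ k : ι, k ≠ i ∧ k ≠ j := by
    by_contra hcon
    push Not at hcon
    have hsub : (Finset.univ : Finset ι) ⊆ {i, j} := by
      intro k _
      by_cases hk : k = i
      · simp [hk]
      · simp [hcon k hk]
    have := Finset.card_le_card hsub
    rw [Finset.card_univ] at this
    have h5 := Finset.card_le_two (a := i) (b := j)
    omega
  obtain ⟨k, hki, hkj⟩ := h4
  have := h2 i k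
  simp [hne, hki, hkj] at this

/-- The action of the symmetric group. -/
noncomputable def perm : Equiv.Perm ι →* (V ≃ₗ[F] V) where
  toFun σ := Classical.choose (S.exists_equiv σ)
  map_one' := S.ext' fun i => Classical.choose_spec (S.exists_equiv 1) i
  map_mul' σ τ := S.ext' fun i => by
    rw [Classical.choose_spec (S.exists_equiv (σ * τ)) i]
    show _ = (Classical.choose (S.exists_equiv σ)) ((Classical.choose (S.exists_equiv τ)) (v i))
    rw [Classical.choose_spec (S.exists_equiv τ) i, Classical.choose_spec (S.exists_equiv σ) (τ i)]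
    rfl

theorem perm_apply (σ : Equiv.Perm ι) (i : ι) : S.perm σ (v i) = v (σ i) :=
  Classical.choose_spec (S.exists_equiv σ) i

theorem perm_injective (h3 : 3 ≤ Fintype.card ι) : Function.Injective S.perm := by
  intro σ τ h
  ext i
  apply S.injective h3
  rw [← S.perm_apply, ← S.perm_apply, h]

end Sys

/-- The group of all `g` with `g (v i) = ε v (σ i)`, `ε = ± 1`. -/
def SG (F : Type*) [Field F] {V : Type*} [AddCommGroup V] [Module F V] {ι : Type*} (v : ι → V) :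
    Subgroup (V ≃ₗ[F] V) where
  carrier := {g | ∃ (σ : Equiv.Perm ι) (ε : F), (ε = 1 ∨ ε = -1) ∧ ∀ i, g (v i) = ε • v (σ i)}
  one_mem' := ⟨1, 1, Or.inl rfl, fun i => by rw [one_smul]; rfl⟩
  mul_mem' := by
    rintro a b ⟨σ, ε, hε, h⟩ ⟨τ, δ, hδ, h'⟩
    refine ⟨σ * τ, δ * ε, ?_, fun i => ?_⟩
    · rcases hε with rfl | rfl <;> rcases hδ with rfl | rfl <;> simp
    · show a (b (v i)) = _
      rw [h', map_smul, h, smul_smul]
      rfl
  inv_mem' := by
    rintro a ⟨σ, ε, hε, h⟩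
    refine ⟨σ⁻¹, ε, hε, fun i => ?_⟩
    have h1 : ε * ε = 1 := by rcases hε with rfl | rfl <;> simp
    apply a.injective
    have h2 : a (a⁻¹ (v i)) = v i := LinearEquiv.apply_symm_apply a (v i)
    rw [h2, map_smul, h, smul_smul, h1, one_smul]
    exact congrArg v (σ.apply_symm_apply i).symm


end Cfsg.Agent.H882.Del
end

-- part: H825/SpinForm
section
prune_inst 0x200000000000000000000000000001000000000800020000000020000000000020000000800000000000000000000000000000000000000000000000000000000000000000000000000000000000000000000000000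
set_option linter.all false
open scoped Cfsg.Agent.FastGrp

-- part: H825/SpinEven
section
/-!
# Even and odd parts of an algebra generated by anticommuting elements (helper825)
-/

set_option autoImplicit false
set_option linter.unusedSectionVars false

namespace Cfsg.Agent.H825.Spin

universe u v w

variable {F : Type u} [Field F] {R : Type v} [Ring R] [Algebra F R] {K : Subfield F}

/-- sign of a parity -/
def sg (F : Type u) [Field F] : Bool → F
  | false => 1
  | true => -1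

theorem sg_mem (K : Subfield F) (b : Bool) : sg F b ∈ K := by
  cases b
  · exact K.one_mem
  · exact K.neg_mem K.one_mem

/-- the part of parity `b` of the `K`-algebra generated by `c 0, …, c (k-1)` -/
def El (K : Subfield F) (c : ℕ → R) : ℕ → Bool → Set R
  | 0, false => {x | ∃ r ∈ K, x = algebraMap F R r}
  | 0, true => {x | x = 0}
  | k + 1, b => {x | ∃ y ∈ El K c k b, ∃ z ∈ El K c k (!b), x = y + z * c k}

theorem El.zero_mem (c : ℕ → R) (k : ℕ) (b : Bool) : (0 : R) ∈ El K c k b := by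
  induction k generalizing b with
  | zero =>
    cases b
    · exact ⟨0, K.zero_mem, (map_zero _).symm⟩
    · exact rfl
  | succ k ih => exact ⟨0, ih b, 0, ih _, by rw [zero_mul, add_zero]⟩

theorem El.algebraMap_mem (c : ℕ → R) (k : ℕ) {r : F} (hr : r ∈ K) : algebraMap F R r ∈ El K c k false := by
  induction k with
  | zero => exact ⟨r, hr, rfl⟩
  | succ k ih => exact ⟨_, ih, 0, El.zero_mem c k _, by rw [zero_mul, add_zero]⟩

theorem El.one_mem (c : ℕ → R) (k : ℕ) : (1 : R) ∈ El K c k false := by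
  have := El.algebraMap_mem (R := R) c k K.one_mem
  rwa [map_one] at this

theorem El.add_mem {c : ℕ → R} {k : ℕ} {b : Bool} {x y : R} (hx : x ∈ El K c k b) (hy : y ∈ El K c k b) :
    x + y ∈ El K c k b := by
  induction k generalizing b x y with
  | zero =>
    cases b
    · obtain ⟨r, hr, rfl⟩ := hx
      obtain ⟨s, hs, rfl⟩ := hy
      exact ⟨r + s, K.add_mem hr hs, (map_add _ _ _).symm⟩
    · have h1 : x = 0 := hx
      have h2 : y = 0 := hy
      change x + y = 0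
      rw [h1, h2, add_zero]
  | succ k ih =>
    obtain ⟨x1, h1, x2, h2, rfl⟩ := hx
    obtain ⟨y1, h3, y2, h4, rfl⟩ := hy
    exact ⟨x1 + y1, ih h1 h3, x2 + y2, ih h2 h4, by rw [add_mul]; abel⟩

theorem El.smul_mem {c : ℕ → R} {k : ℕ} {b : Bool} {x : R} {r : F} (hr : r ∈ K) (hx : x ∈ El K c k b) :
    r • x ∈ El K c k b := by
  induction k generalizing b x with
  | zero =>
    cases b
    · obtain ⟨s, hs, rfl⟩ := hx
      exact ⟨r * s, K.mul_mem hr hs, by rw [map_mul, Algebra.smul_def]⟩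
    · have h1 : x = 0 := hx
      change r • x = 0
      rw [h1, smul_zero]
  | succ k ih =>
    obtain ⟨x1, h1, x2, h2, rfl⟩ := hx
    exact ⟨r • x1, ih h1, r • x2, ih h2, by rw [smul_add, smul_mul_assoc]⟩

theorem El.mono {c : ℕ → R} {k : ℕ} {b : Bool} {x : R} (hx : x ∈ El K c k b) : x ∈ El K c (k + 1) b :=
  ⟨x, hx, 0, El.zero_mem c k _, by rw [zero_mul, add_zero]⟩

theorem El.gen_mem (c : ℕ → R) {k j : ℕ} (hj : j < k) : c j ∈ El K c k true := by
  induction k with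
  | zero => omega
  | succ k ih =>
    rcases Nat.lt_succ_iff_lt_or_eq.1 hj with h | h
    · exact El.mono (ih h)
    · rw [h]
      exact ⟨0, El.zero_mem c k _, 1, El.one_mem c k, by rw [one_mul, zero_add]⟩

theorem El.comm {c : ℕ → R} {k : ℕ} {d : R} (hd : ∀ j < k, d * c j = -(c j * d)) {b : Bool} {x : R}
    (hx : x ∈ El K c k b) : d * x = sg F b • (x * d) := by
  induction k generalizing b x with
  | zero =>
    cases b
    · obtain ⟨s, hs, rfl⟩ := hx
      rw [← Algebra.commutes s d]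
      exact (one_smul F _).symm
    · have h1 : x = 0 := hx
      rw [h1, mul_zero, zero_mul, smul_zero]
  | succ k ih =>
    obtain ⟨x1, h1, x2, h2, rfl⟩ := hx
    have e1 := ih (fun j hj => hd j (by omega)) h1
    have e2 := ih (fun j hj => hd j (by omega)) h2
    rw [mul_add, e1, ← mul_assoc, e2, smul_mul_assoc, mul_assoc, hd k (by omega), add_mul, smul_add, mul_neg,
      smul_neg, ← neg_smul, mul_assoc]
    congr 2
    cases b
    · change -(-1 : F) = 1; norm_num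
    · change -(1 : F) = -1; rfl

theorem El.mul_mem {c : ℕ → R} {n : ℕ} (hc : ∀ i < n, ∀ j < n, i ≠ j → c i * c j = -(c j * c i))
    (hs : ∀ i < n, ∃ s ∈ K, c i * c i = algebraMap F R s) {k : ℕ} (hk : k ≤ n) {b b' : Bool} {x y : R}
    (hx : x ∈ El K c k b) (hy : y ∈ El K c k b') : x * y ∈ El K c k (b ^^ b') := by
  induction k generalizing b b' x y with
  | zero =>
    cases b
    · obtain ⟨r, hr, rfl⟩ := hx
      rw [← Algebra.smul_def, Bool.false_xor]
      exact El.smul_mem hr hy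
    · have h1 : x = 0 := hx
      rw [h1, zero_mul]
      exact El.zero_mem _ _ _
  | succ k ih =>
    obtain ⟨x1, h1, x2, h2, rfl⟩ := hx
    obtain ⟨y1, h3, y2, h4, rfl⟩ := hy
    obtain ⟨s, hsK, hcc⟩ := hs k (by omega)
    have hd : ∀ j < k, c k * c j = -(c j * c k) := fun j hj => hc k (by omega) j (by omega) (by omega)
    have e1 := El.comm hd h3
    have e2 := El.comm hd h4
    have ih' : ∀ {b b' : Bool} {x y : R}, x ∈ El K c k b → y ∈ El K c k b' → x * y ∈ El K c k (b ^^ b') :=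
      ih (by omega)
    refine ⟨x1 * y1 + (sg F (!b') * s) • (x2 * y2), ?_, x1 * y2 + sg F b' • (x2 * y1), ?_, ?_⟩
    · refine El.add_mem (ih' h1 h3) (El.smul_mem (K.mul_mem (sg_mem K _) hsK) ?_)
      have := ih' h2 h4
      have e : (!b ^^ !b') = (b ^^ b') := by cases b <;> cases b' <;> rfl
      rwa [e] at this
    · refine El.add_mem ?_ (El.smul_mem (sg_mem K _) ?_)
      · have := ih' h1 h4
        have e : (b ^^ !b') = !(b ^^ b') := by cases b <;> cases b' <;> rfl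
        rwa [e] at this
      · have := ih' h2 h3
        have e : (!b ^^ b') = !(b ^^ b') := by cases b <;> cases b' <;> rfl
        rwa [e] at this
    · have e3 : x2 * c k * y1 = sg F b' • (x2 * y1 * c k) := by
        rw [mul_assoc, e1, mul_smul_comm, mul_assoc]
      have e4 : x2 * c k * (y2 * c k) = (sg F (!b') * s) • (x2 * y2) := by
        calc x2 * c k * (y2 * c k) = x2 * (c k * y2) * c k := by simp only [mul_assoc]
          _ = sg F (!b') • (x2 * y2 * (c k * c k)) := by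
            rw [e2, mul_smul_comm, smul_mul_assoc]
            simp only [mul_assoc]
          _ = (sg F (!b') * s) • (x2 * y2) := by
            rw [hcc, ← Algebra.commutes, ← Algebra.smul_def, smul_smul]
      rw [add_mul, mul_add, mul_add, e3, e4, add_mul, smul_mul_assoc, mul_assoc x1 y2]
      abel

section tau

variable {M : Type w} [AddCommGroup M] [Module F M] (τ : R →ₗ[F] M)

theorem eq_zero_of_neg (h2 : (2 : F) ≠ 0) {m : M} (h : m = -m) : m = 0 := by
  have h1 : (2 : F) • m = 0 := by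
    rw [two_smul]
    nth_rewrite 1 [h]
    exact neg_add_cancel m
  exact (smul_eq_zero.1 h1).resolve_left h2

theorem El.tau (hτ : ∀ x y, τ (x * y) = τ (y * x)) (h2 : (2 : F) ≠ 0) {c : ℕ → R} {n : ℕ}
    (hc : ∀ i < n, ∀ j < n, i ≠ j → c i * c j = -(c j * c i)) {k : ℕ} (hk : k ≤ n) {x : R}
    (hx : x ∈ El K c k false) : ∃ r ∈ K, τ x = r • τ 1 := by
  induction k generalizing x with
  | zero =>
    obtain ⟨r, hr, rfl⟩ := hx
    exact ⟨r, hr, by rw [Algebra.algebraMap_eq_smul_one, map_smul]⟩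
  | succ k ih =>
    obtain ⟨x1, h1, x2, h3, rfl⟩ := hx
    obtain ⟨r, hr, h4⟩ := ih (by omega) h1
    refine ⟨r, hr, ?_⟩
    have hd : ∀ j < k, c k * c j = -(c j * c k) := fun j hj => hc k (by omega) j (by omega) (by omega)
    have e1 := El.comm hd h3
    have e2 : τ (x2 * c k) = 0 := by
      apply eq_zero_of_neg h2
      nth_rewrite 1 [hτ]
      rw [e1, map_smul]
      exact neg_one_smul F _
    rw [map_add, e2, add_zero, h4]

theorem El.tau_odd (hτ : ∀ x y, τ (x * y) = τ (y * x)) (h2 : (2 : F) ≠ 0) {c : ℕ → R} {k : ℕ} {ω ω' : R}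
    (hω : ω * ω' = 1) (hω' : ω' * ω = 1) (hd : ∀ j < k, ω * c j = -(c j * ω)) {x : R} (hx : x ∈ El K c k true) :
    τ x = 0 := by
  have e1 := El.comm hd hx
  have e2 : ω * x = -(x * ω) := by rw [e1]; exact neg_one_smul F _
  have e3 : x * ω = -(ω * x) := by rw [e2, neg_neg]
  apply eq_zero_of_neg h2
  calc τ x = τ (x * ω * ω') := by rw [mul_assoc, hω, mul_one]
    _ = -τ (ω * x * ω') := by rw [e3, neg_mul, map_neg]
    _ = -τ x := by rw [hτ, ← mul_assoc, hω', one_mul]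

end tau

end Cfsg.Agent.H825.Spin
end

-- part: H825/SpinClif
section
/-!
# Clifford relations of the lifts of three-cycles (helper825)
-/

set_option autoImplicit false
set_option linter.unusedSectionVars false

namespace Cfsg.Agent.H825.Spin

open Finset

universe u v w

section Rels

variable {F : Type u} [Field F] {R : Type v} [Ring R] [Algebra F R] {K : Subfield F}

/-- `a i² = -3`, `a i a j + a j a i = -2` for `i ≠ j` -/
structure Rels (N : ℕ) (a : ℕ → R) : Prop where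
  sq : ∀ i < N, a i * a i = -3
  ac : ∀ i < N, ∀ j < N, i ≠ j → a i * a j + a j * a i = -2

theorem Rels.mono {N M : ℕ} {a : ℕ → R} (h : Rels N a) (hM : M ≤ N) : Rels M a :=
  ⟨fun i hi => h.sq i (by omega), fun i hi j hj => h.ac i (by omega) j (by omega)⟩

/-- integral combinations -/
def L (N : ℕ) (a : ℕ → R) (v : ℕ → ℤ) : R := ∑ i ∈ range N, v i • a i

/-- the bilinear form -/
def bil (N : ℕ) (v w : ℕ → ℤ) : ℤ :=
  2 * ∑ i ∈ range N, v i * w i + (∑ i ∈ range N, v i) * ∑ i ∈ range N, w i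

theorem L_ac {N : ℕ} {a : ℕ → R} (h : Rels N a) (v w : ℕ → ℤ) :
    L N a v * L N a w + L N a w * L N a v = ((-2 * bil N v w : ℤ) : R) := by
  have h1 : L N a v * L N a w + L N a w * L N a v =
      ∑ i ∈ range N, ∑ j ∈ range N, (v i * w j) • (a i * a j + a j * a i) := by
    unfold L
    rw [sum_mul_sum, sum_mul_sum, sum_comm (s := range N) (t := range N) (f := fun i j => w i • a i * v j • a j),
      ← sum_add_distrib]
    refine sum_congr rfl fun i _ => ?_
    rw [← sum_add_distrib]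
    refine sum_congr rfl fun j _ => ?_
    rw [smul_mul_assoc, mul_smul_comm, smul_mul_assoc, mul_smul_comm, smul_smul, smul_smul, smul_add, mul_comm (w j)]
  have h2 : ∀ i ∈ range N, ∀ j ∈ range N, (v i * w j) • (a i * a j + a j * a i) =
      ((-2 * (v i * w j) - 4 * (if i = j then v i * w j else 0) : ℤ) : R) := by
    intro i hi j hj
    rw [mem_range] at hi hj
    by_cases hij : i = j
    · subst hij
      rw [h.sq i hi, if_pos rfl, zsmul_eq_mul]
      push_cast
      norm_num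
      noncomm_ring
    · rw [h.ac i hi j hj hij, if_neg hij, zsmul_eq_mul]
      push_cast
      noncomm_ring
  rw [h1, sum_congr rfl fun i hi => sum_congr rfl fun j hj => h2 i hi j hj]
  have h3 : ∑ i ∈ range N, ∑ j ∈ range N, (-2 * (v i * w j) - 4 * (if i = j then v i * w j else 0) : ℤ) =
      -2 * bil N v w := by
    have e1 : ∀ i ∈ range N, ∑ j ∈ range N, (-2 * (v i * w j) - 4 * (if i = j then v i * w j else 0) : ℤ) =
        -2 * (v i * ∑ j ∈ range N, w j) - 4 * (v i * w i) := by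
      intro i hi
      rw [sum_sub_distrib, ← mul_sum, ← mul_sum, ← mul_sum, sum_ite_eq, if_pos hi]
    rw [sum_congr rfl e1, sum_sub_distrib, ← mul_sum, ← mul_sum, ← sum_mul, bil]
    ring
  rw [← h3]
  push_cast
  rfl

theorem two_cancel (h2 : (2 : F) ≠ 0) {x y : R} (h : x + x = y + y) : x = y := by
  have h1 : (2 : F) • x = (2 : F) • y := by rw [two_smul, two_smul, h]
  have h3 := congrArg (fun z => (2 : F)⁻¹ • z) h1
  simp only [smul_smul, inv_mul_cancel₀ h2, one_smul] at h3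
  exact h3

theorem L_sq {N : ℕ} {a : ℕ → R} (h : Rels N a) (h2 : (2 : F) ≠ 0) (v : ℕ → ℤ) :
    L N a v * L N a v = ((-bil N v v : ℤ) : R) := by
  apply two_cancel h2
  rw [L_ac h]
  push_cast
  noncomm_ring

theorem L_anti {N : ℕ} {a : ℕ → R} (h : Rels N a) {v w : ℕ → ℤ} (h0 : bil N v w = 0) :
    L N a v * L N a w = -(L N a w * L N a v) := by
  have := L_ac h v w
  rw [h0] at this
  push_cast at this
  exact eq_neg_of_add_eq_zero_left this

/-- the six orthogonal vectors -/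
def vb : ℕ → ℕ → ℤ
  | 0 => fun | 0 => 1 | 1 => -1 | _ => 0
  | 1 => fun | 2 => 1 | 3 => -1 | _ => 0
  | 2 => fun | 4 => 1 | 5 => -1 | _ => 0
  | 3 => fun | 0 => 1 | 1 => 1 | _ => 0
  | 4 => fun | 2 => -1 | 3 => -1 | 4 => 1 | 5 => 1 | _ => 0
  | 5 => fun | 0 => -1 | 1 => -1 | 2 => 1 | 3 => 1 | 4 => 1 | 5 => 1 | _ => 0
  | _ => fun _ => 0

/-- their squares -/
def sb : ℕ → ℤ
  | 0 => -4
  | 1 => -4
  | 2 => -4
  | 3 => -8
  | 4 => -8
  | 5 => -16
  | _ => 0

theorem bil_vb : ∀ i < 6, ∀ j < 6, i ≠ j → bil 6 (vb i) (vb j) = 0 := by decide +kernel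

theorem bil_sb : ∀ i < 6, -bil 6 (vb i) (vb i) = sb i := by decide

/-- the orthogonal basis -/
def bb (a : ℕ → R) (j : ℕ) : R := L 6 a (vb j)

theorem bb_anti {a : ℕ → R} (h : Rels 6 a) : ∀ i < 6, ∀ j < 6, i ≠ j → bb a i * bb a j = -(bb a j * bb a i) :=
  fun i hi j hj hij => L_anti h (bil_vb i hi j hj hij)

theorem bb_sq {a : ℕ → R} (h : Rels 6 a) (h2 : (2 : F) ≠ 0) : ∀ i < 6, bb a i * bb a i = ((sb i : ℤ) : R) :=
  fun i hi => by rw [bb, L_sq h h2, bil_sb i hi]

/-- the six first generators in terms of the basis -/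
theorem bb_gen (a : ℕ → R) :
    2 • a 0 = bb a 0 + bb a 3 ∧ 2 • a 1 = bb a 3 - bb a 0 ∧
    4 • a 2 = bb a 5 + bb a 3 - bb a 4 + 2 • bb a 1 ∧ 4 • a 3 = bb a 5 + bb a 3 - bb a 4 - 2 • bb a 1 ∧
    4 • a 4 = bb a 5 + bb a 3 + bb a 4 + 2 • bb a 2 ∧ 4 • a 5 = bb a 5 + bb a 3 + bb a 4 - 2 • bb a 2 := by
  simp only [bb, L, vb, sum_range_succ, sum_range_zero, zero_add, zero_smul, add_zero, one_smul, neg_smul]
  refine ⟨?_, ?_, ?_, ?_, ?_, ?_⟩ <;> abel

end Rels

section Wp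

variable {F : Type u} [Field F] {R : Type v} [Ring R] [Algebra F R] {K : Subfield F}

/-- products -/
def Wp (c : ℕ → R) : ℕ → R
  | 0 => 1
  | k + 1 => Wp c k * c k

theorem Wp_mem (K : Subfield F) (c : ℕ → R) (k : ℕ) : Wp c k ∈ El K c k (Nat.bodd k) := by
  induction k with
  | zero => exact El.one_mem c 0
  | succ k ih =>
    refine ⟨0, El.zero_mem c k _, Wp c k, ?_, by rw [zero_add]; rfl⟩
    rw [Nat.bodd_succ, Bool.not_not]
    exact ih

theorem sg_not (b : Bool) : sg F (!b) = -sg F b := by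
  cases b
  · rfl
  · exact (neg_neg _).symm

theorem Wp_inner {c : ℕ → R} {n : ℕ} (hc : ∀ i < n, ∀ j < n, i ≠ j → c i * c j = -(c j * c i)) {k : ℕ} (hk : k ≤ n)
    {j : ℕ} (hj : j < k) : c j * Wp c k = sg F (!Nat.bodd k) • (Wp c k * c j) := by
  induction k with
  | zero => omega
  | succ k ih =>
    rcases Nat.lt_succ_iff_lt_or_eq.1 hj with h | h
    · change c j * (Wp c k * c k) = _ • (Wp c k * c k * c j)
      rw [← mul_assoc, ih (by omega) h, smul_mul_assoc, mul_assoc, hc j (by omega) k (by omega) (by omega), mul_neg,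
        smul_neg, ← neg_smul, Nat.bodd_succ, Bool.not_not, sg_not, neg_neg, mul_assoc]
    · rw [h]
      change c k * (Wp c k * c k) = _ • (Wp c k * c k * c k)
      have hd : ∀ i < k, c k * c i = -(c i * c k) := fun i hi => hc k (by omega) i (by omega) (by omega)
      rw [← mul_assoc, El.comm hd (Wp_mem (F := F) ⊥ c k), smul_mul_assoc, Nat.bodd_succ, Bool.not_not]

theorem Wp_outer {c : ℕ → R} {k : ℕ} {d : R} (hd : ∀ j < k, d * c j = -(c j * d)) :
    d * Wp c k = sg F (Nat.bodd k) • (Wp c k * d) := El.comm hd (Wp_mem (F := F) ⊥ c k)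

theorem Wp_sq {c : ℕ → R} {n : ℕ} (hc : ∀ i < n, ∀ j < n, i ≠ j → c i * c j = -(c j * c i)) {s : ℕ → F}
    (hs : ∀ i < n, c i * c i = algebraMap F R (s i)) {k : ℕ} (hk : k < n) {q : F}
    (hq : Wp c k * Wp c k = algebraMap F R q) :
    Wp c (k + 1) * Wp c (k + 1) = algebraMap F R (sg F (Nat.bodd k) * q * s k) := by
  have hd : ∀ i < k, c k * c i = -(c i * c k) := fun i hi => hc k (by omega) i (by omega) (by omega)
  have h1 := Wp_outer (F := F) hd
  calc Wp c (k + 1) * Wp c (k + 1) = Wp c k * (c k * Wp c k) * c k := by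
        change Wp c k * c k * (Wp c k * c k) = _
        simp only [mul_assoc]
    _ = sg F (Nat.bodd k) • (Wp c k * Wp c k * (c k * c k)) := by
        rw [h1, mul_smul_comm, smul_mul_assoc]
        simp only [mul_assoc]
    _ = _ := by
        rw [hq, hs k hk, ← map_mul, Algebra.smul_def, ← map_mul, mul_assoc]

end Wp

end Cfsg.Agent.H825.Spin
end

-- part: H825/SpinPair
section
/-!
# The algebra generated by the pairs `(b, -b)` in `R × Rᵐᵒᵖ` (helper825)
-/

set_option autoImplicit false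
set_option linter.unusedSectionVars false

namespace Cfsg.Agent.H825.Spin

open MulOpposite

universe u v w

variable {F : Type u} [Field F] {R : Type v} [Ring R] [Algebra F R] {K : Subfield F}

/-- pairs -/
def pair (x : R) : R × Rᵐᵒᵖ := (x, op (-x))

theorem pair_anti {x y : R} (h : x * y = -(y * x)) : pair x * pair y = -(pair y * pair x) := by
  refine Prod.ext h ?_
  change op (-x) * op (-y) = -(op (-y) * op (-x))
  rw [← op_mul, ← op_mul, neg_mul_neg, neg_mul_neg, h, op_neg, neg_neg]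

theorem pair_sq {x : R} {s : F} (h : x * x = algebraMap F R s) :
    pair x * pair x = algebraMap F (R × Rᵐᵒᵖ) s := by
  refine Prod.ext h ?_
  change op (-x) * op (-x) = algebraMap F Rᵐᵒᵖ s
  rw [← op_mul, neg_mul_neg, h]
  rfl

theorem pair_add (x y : R) : pair (x + y) = pair x + pair y := by
  refine Prod.ext rfl ?_
  change op (-(x + y)) = op (-x) + op (-y)
  rw [neg_add, op_add]

theorem pair_neg (x : R) : pair (-x) = -pair x := rfl

theorem pair_sub (x y : R) : pair (x - y) = pair x - pair y := by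
  rw [sub_eq_add_neg, pair_add, pair_neg, sub_eq_add_neg]

theorem pair_smul (r : F) (x : R) : pair (r • x) = r • pair x := by
  refine Prod.ext rfl ?_
  change op (-(r • x)) = r • op (-x)
  rw [← smul_neg, op_smul]

/-- signs of the reversed products -/
def ee (F : Type u) [Field F] : ℕ → F
  | 0 => 1
  | k + 1 => -(sg F (Nat.bodd k)) * ee F k

theorem pair_Wp {b : ℕ → R} {n : ℕ} (hc : ∀ i < n, ∀ j < n, i ≠ j → b i * b j = -(b j * b i)) {k : ℕ} (hk : k ≤ n) :
    Wp (fun j => pair (b j)) k = (Wp b k, op (ee F k • Wp b k)) := by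
  induction k with
  | zero =>
    refine Prod.ext rfl ?_
    change (1 : Rᵐᵒᵖ) = op ((1 : F) • (1 : R))
    rw [one_smul, op_one]
  | succ k ih =>
    change Wp (fun j => pair (b j)) k * pair (b k) = _
    rw [ih (by omega)]
    refine Prod.ext rfl ?_
    change op (ee F k • Wp b k) * op (-b k) = op ((-(sg F (Nat.bodd k)) * ee F k) • (Wp b k * b k))
    have hd : ∀ i < k, b k * b i = -(b i * b k) := fun i hi => hc k (by omega) i (by omega) (by omega)
    have e1 : -b k * (ee F k • Wp b k) = (-(sg F (Nat.bodd k)) * ee F k) • (Wp b k * b k) := by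
      rw [mul_smul_comm, neg_mul, Wp_outer (F := F) hd, ← neg_smul, smul_smul, mul_comm]
    rw [← op_mul, e1]

theorem ee_six : ee F 6 = -1 := by
  simp [ee, sg]

theorem pair_Wp_six (F : Type u) [Field F] [Algebra F R] {b : ℕ → R} (hc : ∀ i < 6, ∀ j < 6, i ≠ j → b i * b j = -(b j * b i)) :
    Wp (fun j => pair (b j)) 6 = pair (Wp b 6) := by
  rw [pair_Wp (F := F) hc le_rfl, ee_six, neg_one_smul]
  rfl

/-- even plus odd -/
def Al (K : Subfield F) (c : ℕ → R) (n : ℕ) : Set R := {x | ∃ e ∈ El K c n false, ∃ o ∈ El K c n true, x = e + o}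

theorem Al.of_even {c : ℕ → R} {n : ℕ} {x : R} (h : x ∈ El K c n false) : x ∈ Al K c n :=
  ⟨x, h, 0, El.zero_mem c n _, (add_zero x).symm⟩

theorem Al.of_odd {c : ℕ → R} {n : ℕ} {x : R} (h : x ∈ El K c n true) : x ∈ Al K c n :=
  ⟨0, El.zero_mem c n _, x, h, (zero_add x).symm⟩

theorem Al.add_mem {c : ℕ → R} {n : ℕ} {x y : R} (hx : x ∈ Al K c n) (hy : y ∈ Al K c n) : x + y ∈ Al K c n := by
  obtain ⟨e, he, o, ho, rfl⟩ := hx
  obtain ⟨e', he', o', ho', rfl⟩ := hy
  exact ⟨e + e', El.add_mem he he', o + o', El.add_mem ho ho', by abel⟩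

theorem Al.smul_mem {c : ℕ → R} {n : ℕ} {x : R} {r : F} (hr : r ∈ K) (hx : x ∈ Al K c n) : r • x ∈ Al K c n := by
  obtain ⟨e, he, o, ho, rfl⟩ := hx
  exact ⟨r • e, El.smul_mem hr he, r • o, El.smul_mem hr ho, smul_add _ _ _⟩

theorem Al.neg_mem {c : ℕ → R} {n : ℕ} {x : R} (hx : x ∈ Al K c n) : -x ∈ Al K c n := by
  have := Al.smul_mem (K.neg_mem K.one_mem) hx
  rwa [neg_one_smul] at this

theorem Al.sub_mem {c : ℕ → R} {n : ℕ} {x y : R} (hx : x ∈ Al K c n) (hy : y ∈ Al K c n) : x - y ∈ Al K c n := by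
  rw [sub_eq_add_neg]
  exact Al.add_mem hx (Al.neg_mem hy)

theorem Al.one_mem (c : ℕ → R) (n : ℕ) : (1 : R) ∈ Al K c n := Al.of_even (El.one_mem c n)

theorem Al.mul_mem {c : ℕ → R} {n : ℕ} (hc : ∀ i < n, ∀ j < n, i ≠ j → c i * c j = -(c j * c i))
    (hs : ∀ i < n, ∃ s ∈ K, c i * c i = algebraMap F R s) {x y : R} (hx : x ∈ Al K c n) (hy : y ∈ Al K c n) :
    x * y ∈ Al K c n := by
  obtain ⟨e, he, o, ho, rfl⟩ := hx
  obtain ⟨e', he', o', ho', rfl⟩ := hy
  exact ⟨e * e' + o * o', El.add_mem (El.mul_mem hc hs le_rfl he he') (El.mul_mem hc hs le_rfl ho ho'),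
    e * o' + o * e', El.add_mem (El.mul_mem hc hs le_rfl he ho') (El.mul_mem hc hs le_rfl ho he'), by
    rw [add_mul, mul_add, mul_add]; abel⟩

/-- the square of the product of the six basis vectors -/
theorem omega_sq {a : ℕ → R} (h : Rels 6 a) (h2 : (2 : F) ≠ 0) :
    Wp (bb a) 6 * Wp (bb a) 6 = algebraMap F R (-65536) := by
  have hc := bb_anti h
  have hs : ∀ i < 6, bb a i * bb a i = algebraMap F R ((sb i : ℤ) : F) := fun i hi => by
    rw [bb_sq h h2 i hi, map_intCast]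
  have h0 : Wp (bb a) 0 * Wp (bb a) 0 = algebraMap F R 1 := by
    rw [map_one]; exact one_mul 1
  have h1 := Wp_sq hc hs (k := 0) (by norm_num) h0
  have h3 := Wp_sq hc hs (k := 1) (by norm_num) h1
  have h4 := Wp_sq hc hs (k := 2) (by norm_num) h3
  have h5 := Wp_sq hc hs (k := 3) (by norm_num) h4
  have h6 := Wp_sq hc hs (k := 4) (by norm_num) h5
  have h7 := Wp_sq hc hs (k := 5) (by norm_num) h6
  rw [h7]
  congr 1
  simp only [Nat.bodd, sg, sb]
  norm_num

theorem pow_two_ne (h2 : (2 : F) ≠ 0) : (65536 : F) ≠ 0 := by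
  have : (65536 : F) = 2 ^ 16 := by norm_num
  rw [this]
  exact pow_ne_zero _ h2

/-- the trace functional on pairs -/
def tau (tr : R →ₗ[F] F) : R × Rᵐᵒᵖ →ₗ[F] F × F where
  toFun x := (tr x.1, tr x.2.unop)
  map_add' x y := by simp
  map_smul' r x := by simp

theorem tau_comm {tr : R →ₗ[F] F} (htr : ∀ x y, tr (x * y) = tr (y * x)) (x y : R × Rᵐᵒᵖ) :
    tau tr (x * y) = tau tr (y * x) := by
  refine Prod.ext (htr _ _) ?_
  change tr (x.2 * y.2).unop = tr (y.2 * x.2).unop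
  rw [unop_mul, unop_mul, htr]

/-- the generators of the algebra -/
def cc (a : ℕ → R) (j : ℕ) : R × Rᵐᵒᵖ := pair (bb a j)

theorem cc_anti {a : ℕ → R} (h : Rels 6 a) : ∀ i < 6, ∀ j < 6, i ≠ j → cc a i * cc a j = -(cc a j * cc a i) :=
  fun i hi j hj hij => pair_anti (bb_anti h i hi j hj hij)

theorem cc_sq {a : ℕ → R} (h : Rels 6 a) (h2 : (2 : F) ≠ 0) (K : Subfield F) :
    ∀ i < 6, ∃ s ∈ K, cc a i * cc a i = algebraMap F (R × Rᵐᵒᵖ) s := fun i hi =>
  ⟨((sb i : ℤ) : F), intCast_mem K _, pair_sq (by rw [bb_sq h h2 i hi, map_intCast])⟩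

theorem trace_al {tr : R →ₗ[F] F} (htr : ∀ x y, tr (x * y) = tr (y * x)) (h2 : (2 : F) ≠ 0) {a : ℕ → R}
    (h : Rels 6 a) {x : R × Rᵐᵒᵖ} (hx : x ∈ Al K (cc a) 6) :
    ∃ r ∈ K, tr x.1 = r * tr 1 ∧ tr x.2.unop = r * tr 1 := by
  obtain ⟨e, he, o, ho, rfl⟩ := hx
  obtain ⟨r, hr, h3⟩ := El.tau (tau tr) (tau_comm htr) h2 (cc_anti h) le_rfl he
  have hW : Wp (cc a) 6 = pair (Wp (bb a) 6) := pair_Wp_six F (bb_anti h)
  have h65 := pow_two_ne h2
  have hsq : Wp (cc a) 6 * Wp (cc a) 6 = algebraMap F (R × Rᵐᵒᵖ) (-65536) := by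
    rw [hW]
    exact pair_sq (omega_sq h h2)
  have hne : (-65536 : F) ≠ 0 := neg_ne_zero.2 h65
  have h4 : tau tr o = 0 := by
    refine El.tau_odd (tau tr) (tau_comm htr) h2 (ω := Wp (cc a) 6) (ω' := (-65536 : F)⁻¹ • Wp (cc a) 6) ?_ ?_ ?_ ho
    · rw [mul_smul_comm, hsq, Algebra.algebraMap_eq_smul_one, smul_smul, inv_mul_cancel₀ hne, one_smul]
    · rw [smul_mul_assoc, hsq, Algebra.algebraMap_eq_smul_one, smul_smul, inv_mul_cancel₀ hne, one_smul]
    · intro j hj
      have h5 := Wp_inner (F := F) (cc_anti h) le_rfl hj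
      have h6 : sg F (!Nat.bodd 6) = -1 := rfl
      rw [h6, neg_one_smul] at h5
      rw [h5, neg_neg]
  refine ⟨r, hr, ?_⟩
  have h5 : tau tr (e + o) = r • tau tr 1 := by rw [map_add, h3, h4, add_zero]
  exact ⟨congrArg Prod.fst h5, congrArg Prod.snd h5⟩

theorem gens_al {a : ℕ → R} (h2 : (2 : F) ≠ 0) (K : Subfield F) : ∀ i < 6, pair (a i) ∈ Al K (cc a) 6 := by
  obtain ⟨h0, h1, h3, h4, h5, h6⟩ := bb_gen a
  have hb : ∀ j < 6, pair (bb a j) ∈ Al K (cc a) 6 := fun j hj => Al.of_odd (El.gen_mem (cc a) hj)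
  have h2K : (2 : F)⁻¹ ∈ K := K.inv_mem (by exact_mod_cast natCast_mem K 2)
  have key2 : ∀ {x y : R}, 2 • x = y → pair y ∈ Al K (cc a) 6 → pair x ∈ Al K (cc a) 6 := by
    intro x y hxy hy
    have e : x = (2 : F)⁻¹ • y := by
      rw [← hxy, ← Nat.cast_smul_eq_nsmul F, smul_smul, Nat.cast_ofNat, inv_mul_cancel₀ h2, one_smul]
    rw [e, pair_smul]
    exact Al.smul_mem h2K hy
  have key4 : ∀ {x y : R}, 4 • x = y → pair y ∈ Al K (cc a) 6 → pair x ∈ Al K (cc a) 6 := by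
    intro x y hxy hy
    apply key2 (y := 2 • x) rfl
    apply key2 (y := y) _ hy
    rw [smul_smul]
    exact hxy
  have hb2 : ∀ j < 6, pair (2 • bb a j) ∈ Al K (cc a) 6 := by
    intro j hj
    rw [two_smul, pair_add]
    exact Al.add_mem (hb j hj) (hb j hj)
  intro i hi
  have hi' : i = 0 ∨ i = 1 ∨ i = 2 ∨ i = 3 ∨ i = 4 ∨ i = 5 := by omega
  rcases hi' with rfl | rfl | rfl | rfl | rfl | rfl
  · apply key2 h0
    rw [pair_add]
    exact Al.add_mem (hb 0 (by norm_num)) (hb 3 (by norm_num))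
  · apply key2 h1
    rw [pair_sub]
    exact Al.sub_mem (hb 3 (by norm_num)) (hb 0 (by norm_num))
  · apply key4 h3
    rw [pair_add, pair_sub, pair_add]
    exact Al.add_mem (Al.sub_mem (Al.add_mem (hb 5 (by norm_num)) (hb 3 (by norm_num))) (hb 4 (by norm_num)))
      (hb2 1 (by norm_num))
  · apply key4 h4
    rw [pair_sub, pair_sub, pair_add]
    exact Al.sub_mem (Al.sub_mem (Al.add_mem (hb 5 (by norm_num)) (hb 3 (by norm_num))) (hb 4 (by norm_num)))
      (hb2 1 (by norm_num))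
  · apply key4 h5
    rw [pair_add, pair_add, pair_add]
    exact Al.add_mem (Al.add_mem (Al.add_mem (hb 5 (by norm_num)) (hb 3 (by norm_num))) (hb 4 (by norm_num)))
      (hb2 2 (by norm_num))
  · apply key4 h6
    rw [pair_sub, pair_add, pair_add]
    exact Al.sub_mem (Al.add_mem (Al.add_mem (hb 5 (by norm_num)) (hb 3 (by norm_num))) (hb 4 (by norm_num)))
      (hb2 2 (by norm_num))

/-- a seventh anticommuting vector -/
theorem extra_al [Nontrivial R] {a : ℕ → R} (h : Rels 6 a) (h2 : (2 : F) ≠ 0) (K : Subfield F) {d : R} {t : F} (ht : t ∈ K)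
    (hd : ∀ i < 6, d * bb a i = -(bb a i * d)) (hdd : d * d = algebraMap F R (-(t * t))) {l : F}
    (hl : Wp (bb a) 6 * d = algebraMap F R l) : pair d ∈ Al K (cc a) 6 := by
  have hW : Wp (cc a) 6 = pair (Wp (bb a) 6) := pair_Wp_six F (bb_anti h)
  have h65 := pow_two_ne h2
  have hne : (-65536 : F) ≠ 0 := neg_ne_zero.2 h65
  have hq := omega_sq h h2
  have hdw : d * Wp (bb a) 6 = Wp (bb a) 6 * d := by
    have := Wp_outer (F := F) hd
    have h6 : sg F (Nat.bodd 6) = 1 := rfl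
    rwa [h6, one_smul] at this
  have h3 : algebraMap F R (l * l) = algebraMap F R (256 * t * (256 * t)) := by
    have e1 : Wp (bb a) 6 * d * (Wp (bb a) 6 * d) = Wp (bb a) 6 * Wp (bb a) 6 * (d * d) := by
      calc Wp (bb a) 6 * d * (Wp (bb a) 6 * d) = Wp (bb a) 6 * (d * Wp (bb a) 6) * d := by simp only [mul_assoc]
        _ = _ := by rw [hdw]; simp only [mul_assoc]
    rw [map_mul, ← hl, e1, hq, hdd, ← map_mul]
    congr 1
    ring
  have h4 : l * l = 256 * t * (256 * t) := (algebraMap F R).injective h3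
  have hlK : l ∈ K := by
    have h256 : (256 : F) * t ∈ K := K.mul_mem (by exact_mod_cast natCast_mem K 256) ht
    rcases mul_self_eq_mul_self_iff.1 h4 with h5 | h5
    · rw [h5]; exact h256
    · rw [h5]; exact K.neg_mem h256
  have h5 : d = ((-65536 : F)⁻¹ * l) • Wp (bb a) 6 := by
    have e1 : (-65536 : F) • d = l • Wp (bb a) 6 := by
      calc (-65536 : F) • d = Wp (bb a) 6 * Wp (bb a) 6 * d := by rw [hq, Algebra.smul_def]
        _ = Wp (bb a) 6 * algebraMap F R l := by rw [mul_assoc, hl]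
        _ = l • Wp (bb a) 6 := by rw [← Algebra.commutes, ← Algebra.smul_def]
    rw [mul_smul, ← e1, smul_smul, inv_mul_cancel₀ hne, one_smul]
  rw [h5, pair_smul, ← hW]
  refine Al.smul_mem (K.mul_mem (K.inv_mem (K.neg_mem (by exact_mod_cast natCast_mem K 65536))) hlK) ?_
  exact Al.of_even (Wp_mem K (cc a) 6)

end Cfsg.Agent.H825.Spin
end

-- part: H825/SpinDim
section
/-!
# Dimensions of joint eigenspaces (helper825)

`ρ : P →* End V`, `z ∈ P` central with `ρ z = -1`, characteristic `≠ 2`.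
-/

set_option autoImplicit false

namespace Cfsg.Agent.H825.Spin

open Module

universe u v w

variable {F : Type u} [Field F] {V : Type v} [AddCommGroup V] [Module F V]
variable {P : Type w} [Group P] {ρ : P →* Module.End F V}

/-- eigenspace -/
def E (ρ : P →* Module.End F V) (x : P) (e : F) : Submodule F V := Module.End.eigenspace (ρ x) e

theorem mem_E {x : P} {e : F} {v : V} : v ∈ E ρ x e ↔ ρ x v = e • v := Module.End.mem_eigenspace_iff

theorem rho_mul (x y : P) (v : V) : ρ (x * y) v = ρ x (ρ y v) := by rw [map_mul]; rfl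

theorem rho_inv (x : P) (v : V) : ρ x⁻¹ (ρ x v) = v := by rw [← rho_mul, inv_mul_cancel, map_one]; rfl

theorem rho_inv' (x : P) (v : V) : ρ x (ρ x⁻¹ v) = v := by rw [← rho_mul, mul_inv_cancel, map_one]; rfl

/-- the linear equivalence -/
def eqv (ρ : P →* Module.End F V) (x : P) : V ≃ₗ[F] V :=
  LinearEquiv.ofLinear (ρ x) (ρ x⁻¹) (LinearMap.ext fun v => rho_inv' x v) (LinearMap.ext fun v => rho_inv x v)

theorem mem_conj {u x : P} {e : F} {v : V} : ρ u v ∈ E ρ (u * x * u⁻¹) e ↔ v ∈ E ρ x e := by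
  rw [mem_E, mem_E, rho_mul, rho_mul, rho_inv]
  constructor
  · intro h
    have := congrArg (ρ u⁻¹) h
    rwa [rho_inv, map_smul, rho_inv] at this
  · intro h
    rw [h, map_smul]

theorem finrank_eq_of {U W : Submodule F V} (u : P) (h : ∀ v, v ∈ U ↔ ρ u v ∈ W) : finrank F U = finrank F W := by
  have h1 : U.map (eqv ρ u : V →ₗ[F] V) = W := by
    ext w
    rw [Submodule.mem_map]
    constructor
    · rintro ⟨v, hv, rfl⟩
      exact (h v).1 hv
    · intro hw
      refine ⟨ρ u⁻¹ w, (h _).2 ?_, rho_inv' u w⟩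
      rwa [rho_inv']
  rw [← h1]
  exact (LinearEquiv.finrank_map_eq (eqv ρ u) U).symm

theorem disj (h2 : (2 : F) ≠ 0) (x : P) {v : V} (h1 : v ∈ E ρ x 1) (h3 : v ∈ E ρ x (-1)) : v = 0 := by
  rw [mem_E] at h1 h3
  rw [h1, one_smul, neg_one_smul] at h3
  have : (2 : F) • v = 0 := by rw [two_smul]; nth_rewrite 1 [h3]; exact neg_add_cancel v
  exact (smul_eq_zero.1 this).resolve_left h2

variable [FiniteDimensional F V]

/-- splitting an invariant subspace -/
theorem split (h2 : (2 : F) ≠ 0) {x : P} (hx : x * x = 1) {U : Submodule F V} (hU : ∀ v ∈ U, ρ x v ∈ U) :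
    finrank F U = finrank F (U ⊓ E ρ x 1 : Submodule F V) + finrank F (U ⊓ E ρ x (-1) : Submodule F V) := by
  have hxx : ∀ v, ρ x (ρ x v) = v := by
    intro v
    rw [← rho_mul, hx, map_one]; rfl
  have h1 : (U ⊓ E ρ x 1) ⊔ (U ⊓ E ρ x (-1)) = U := by
    apply le_antisymm
    · exact sup_le inf_le_left inf_le_left
    · intro v hv
      have hv' : v = (2 : F)⁻¹ • (v + ρ x v) + (2 : F)⁻¹ • (v - ρ x v) := by
        rw [← smul_add, add_add_sub_cancel, ← two_smul F v, smul_smul, inv_mul_cancel₀ h2, one_smul]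
      rw [hv']
      refine Submodule.add_mem_sup ⟨U.smul_mem _ (U.add_mem hv (hU v hv)), ?_⟩
        ⟨U.smul_mem _ (U.sub_mem hv (hU v hv)), ?_⟩
      · show _ ∈ E ρ x 1
        rw [mem_E, map_smul, map_add, hxx, one_smul, add_comm]
      · show _ ∈ E ρ x (-1)
        rw [mem_E, map_smul, map_sub, hxx, neg_one_smul, ← smul_neg, neg_sub]
  have h3 : (U ⊓ E ρ x 1) ⊓ (U ⊓ E ρ x (-1)) = ⊥ := by
    rw [eq_bot_iff]
    rintro v ⟨⟨-, ha⟩, -, hb⟩
    exact disj h2 x ha hb
  have h4 := Submodule.finrank_sup_add_finrank_inf_eq (U ⊓ E ρ x 1) (U ⊓ E ρ x (-1))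
  rw [h1, h3, finrank_bot, add_zero] at h4
  exact h4

theorem E_neg {z x : P} (hz : ρ z = -1) (e : F) : E ρ (z * x) e = E ρ x (-e) := by
  ext v
  rw [mem_E, mem_E, rho_mul, hz, LinearMap.neg_apply, neg_eq_iff_eq_neg, ← neg_smul]
  rfl

/-- the pair `x, y` of commuting involutions has four joint eigenspaces of the same dimension -/
structure Uni (z x y : P) : Prop where
  xx : x * x = 1
  yy : y * y = 1
  comm : x * y = y * x
  ex : ∃ u, u * x * u⁻¹ = x ∧ u * y * u⁻¹ = z * y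
  ey : ∃ v, v * x * v⁻¹ = z * x ∧ v * y * v⁻¹ = y

theorem Uni.finrank_eq {z x y : P} (hU : Uni z x y) (hz : ρ z = -1) (h2 : (2 : F) ≠ 0) :
    finrank F V = 2 * finrank F (E ρ x 1) ∧ finrank F (E ρ x 1) = 2 * finrank F (E ρ x 1 ⊓ E ρ y 1 : Submodule F V) ∧
      finrank F (E ρ x 1) = 2 * finrank F (E ρ x 1 ⊓ E ρ y (-1) : Submodule F V) := by
  obtain ⟨v, hv1, hv2⟩ := hU.ey
  obtain ⟨u, hu1, hu2⟩ := hU.ex
  have h1 := split (ρ := ρ) h2 hU.xx (U := ⊤) (fun _ _ => trivial)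
  rw [top_inf_eq, top_inf_eq, finrank_top] at h1
  have h3 : finrank F (E ρ x 1) = finrank F (E ρ x (-1)) := by
    have h4 : ∀ w, w ∈ E ρ x 1 ↔ ρ v w ∈ E ρ x (-1) := by
      intro w
      rw [← mem_conj (u := v), hv1, E_neg hz]
    exact finrank_eq_of v h4
  have h5 := split (ρ := ρ) h2 hU.yy (U := E ρ x 1) (fun w hw => by
    rw [mem_E] at hw ⊢
    rw [← rho_mul, hU.comm, rho_mul, hw, map_smul])
  have h6 : finrank F (E ρ x 1 ⊓ E ρ y 1 : Submodule F V) = finrank F (E ρ x 1 ⊓ E ρ y (-1) : Submodule F V) := by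
    apply finrank_eq_of (ρ := ρ) u
    intro w
    rw [Submodule.mem_inf, Submodule.mem_inf, ← mem_conj (u := u), hu1, ← mem_conj (u := u) (x := y), hu2, E_neg hz]
  exact ⟨by omega, by omega, by omega⟩

/-- the eight joint eigenspaces -/
theorem eight {z x y t : P} (hxy : Uni z x y) (hxt : Uni z x t) (hxyt : Uni z x (y * t)) (hyt : y * t = t * y)
    (hz : ρ z = -1) (h2 : (2 : F) ≠ 0) :
    finrank F V = 8 * finrank F (E ρ x 1 ⊓ E ρ y 1 ⊓ E ρ t 1 : Submodule F V) ∧
    finrank F V = 8 * finrank F (E ρ x 1 ⊓ E ρ y 1 ⊓ E ρ t (-1) : Submodule F V) := by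
  obtain ⟨a1, a2, a3⟩ := hxy.finrank_eq (ρ := ρ) hz h2
  obtain ⟨b1, b2, b3⟩ := hxt.finrank_eq (ρ := ρ) hz h2
  obtain ⟨c1, c2, c3⟩ := hxyt.finrank_eq (ρ := ρ) hz h2
  have hcomm : ∀ {s r : P} (h : s * r = r * s) {e : F} {v : V}, v ∈ E ρ s e → ρ r v ∈ E ρ s e := by
    intro s r h e v hv
    rw [mem_E] at hv ⊢
    rw [← rho_mul, h, rho_mul, hv, map_smul]
  have s1 := split (ρ := ρ) h2 hxt.yy (U := E ρ x 1 ⊓ E ρ y 1) (fun v hv => ⟨hcomm hxt.comm hv.1, hcomm hyt hv.2⟩)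
  have s2 := split (ρ := ρ) h2 hxy.yy (U := E ρ x 1 ⊓ E ρ t 1) (fun v hv => ⟨hcomm hxy.comm hv.1, hcomm hyt.symm hv.2⟩)
  have s3 := split (ρ := ρ) h2 hxy.yy (U := E ρ x 1 ⊓ E ρ (y * t) (-1)) (fun v hv => ⟨hcomm hxy.comm hv.1,
    hcomm (by rw [mul_assoc, hyt]) hv.2⟩)
  have e1 : (E ρ x 1 ⊓ E ρ t 1 ⊓ E ρ y 1 : Submodule F V) = E ρ x 1 ⊓ E ρ y 1 ⊓ E ρ t 1 := by
    rw [inf_assoc, inf_assoc, inf_comm (E ρ t 1)]
  have e2 : (E ρ x 1 ⊓ E ρ (y * t) (-1) ⊓ E ρ y 1 : Submodule F V) = E ρ x 1 ⊓ E ρ y 1 ⊓ E ρ t (-1) := by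
    ext v
    simp only [Submodule.mem_inf]
    constructor
    · rintro ⟨⟨h1, h3⟩, h4⟩
      refine ⟨⟨h1, h4⟩, ?_⟩
      rw [mem_E] at h3 h4 ⊢
      rw [hyt, rho_mul, h4, map_smul, one_smul] at h3
      exact h3
    · rintro ⟨⟨h1, h3⟩, h4⟩
      refine ⟨⟨h1, ?_⟩, h3⟩
      rw [mem_E] at h3 h4 ⊢
      rw [hyt, rho_mul, h3, map_smul, one_smul, h4]
  have e3 : (E ρ x 1 ⊓ E ρ (y * t) (-1) ⊓ E ρ y (-1) : Submodule F V) = E ρ x 1 ⊓ E ρ t 1 ⊓ E ρ y (-1) := by
    ext v
    simp only [Submodule.mem_inf]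
    constructor
    · rintro ⟨⟨h1, h3⟩, h4⟩
      refine ⟨⟨h1, ?_⟩, h4⟩
      rw [mem_E] at h3 h4 ⊢
      rw [hyt, rho_mul, h4, map_smul, neg_one_smul, neg_one_smul, neg_inj] at h3
      rw [h3, one_smul]
    · rintro ⟨⟨h1, h3⟩, h4⟩
      refine ⟨⟨h1, ?_⟩, h4⟩
      rw [mem_E] at h3 h4 ⊢
      rw [hyt, rho_mul, h4, map_smul, h3, one_smul]
  rw [e1] at s2
  rw [e2, e3] at s3
  constructor <;> (clear * - a1 a2 b2 c3 s1 s2 s3; omega)

end Cfsg.Agent.H825.Spin
end

-- part: H825/SpinQuat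
section
/-!
# Quaternion groups in the double covers of the alternating groups (helper825)
-/

set_option autoImplicit false
set_option linter.unusedSectionVars false

namespace Cfsg.Agent.H825.Spin

open Module

universe u v w

section group

variable {P : Type w} [Group P]

/-- `a, b` generate `SL_2(3)` with central involution `z` -/
structure Sl (z a b : P) : Prop where
  zz : z * z = 1
  zc : ∀ x, z * x = x * z
  aa : a * a * a = 1
  bb : b * b * b = 1
  ab : a * b * (a * b) = z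

variable {z a b : P}

namespace Sl

theorem aba (h : Sl z a b) : a * b * a = z * b⁻¹ := by
  rw [eq_mul_inv_iff_mul_eq, mul_assoc (a * b), h.ab]

theorem baba (h : Sl z a b) : b * a * (b * a) = z := by
  have h1 : b * a * (b * a) = a⁻¹ * (a * b * (a * b)) * a := by group
  rw [h1, h.ab, mul_assoc, h.zc, ← mul_assoc, inv_mul_cancel, one_mul]

theorem bab (h : Sl z a b) : b * a * b = z * a⁻¹ := by
  rw [eq_mul_inv_iff_mul_eq, mul_assoc (b * a), h.baba]

theorem inv_a (h : Sl z a b) : a⁻¹ * a⁻¹ = a := by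
  rw [← mul_inv_rev, inv_eq_iff_mul_eq_one, h.aa]

theorem inv_b (h : Sl z a b) : b⁻¹ * b⁻¹ = b := by
  rw [← mul_inv_rev, inv_eq_iff_mul_eq_one, h.bb]

theorem swap (h : Sl z a b) : Sl z b a := ⟨h.zz, h.zc, h.bb, h.aa, h.baba⟩

theorem inv (h : Sl z a b) : Sl z a⁻¹ b⁻¹ := by
  have hz : z⁻¹ = z := by rw [inv_eq_iff_mul_eq_one, h.zz]
  refine ⟨h.zz, h.zc, ?_, ?_, ?_⟩
  · rw [h.inv_a, mul_inv_cancel]
  · rw [h.inv_b, mul_inv_cancel]
  · rw [← mul_inv_rev, ← mul_inv_rev, h.baba, hz]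

/-- `i` -/
theorem jj (h : Sl z a b) : a⁻¹ * b * a⁻¹ * (a⁻¹ * b * a⁻¹) = z := by
  have h1 : a⁻¹ * b * a⁻¹ * (a⁻¹ * b * a⁻¹) = a⁻¹ * (b * (a⁻¹ * a⁻¹) * b) * a⁻¹ := by group
  rw [h1, h.inv_a, h.bab, ← mul_assoc, ← h.zc, mul_assoc, mul_assoc, h.inv_a,
    inv_mul_cancel, mul_one]

theorem ij (h : Sl z a b) : a * b * (a⁻¹ * b * a⁻¹) = b * a := by
  have h1 : a * b * (a⁻¹ * b * a⁻¹) = (a * b * a) * (a⁻¹ * a⁻¹) * b * a⁻¹ := by group
  rw [h1, h.inv_a, h.aba]
  have h2 : z * b⁻¹ * a * b * a⁻¹ = z * b⁻¹ * (a * b * a) * (a⁻¹ * a⁻¹) := by group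
  rw [h2, h.aba, h.inv_a]
  have h3 : z * b⁻¹ * (z * b⁻¹) = z * z * (b⁻¹ * b⁻¹) := by
    rw [mul_assoc, ← mul_assoc b⁻¹, ← h.zc, mul_assoc, mul_assoc]
  rw [h3, h.zz, one_mul, h.inv_b]

theorem ai (_h : Sl z a b) (h3 : a⁻¹ * a⁻¹ = a) : a * (a * b) = a⁻¹ * b * a⁻¹ * a := by
  rw [inv_mul_cancel_right, ← mul_assoc]
  congr 1
  nth_rewrite 1 [← h3]
  rw [inv_mul_cancel_right]

theorem ai' (h : Sl z a b) : a * (a * b) = a⁻¹ * b * a⁻¹ * a := h.ai h.inv_a

theorem aj (h : Sl z a b) : a * (a⁻¹ * b * a⁻¹) = b * a * a := by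
  have h1 : a * a = a⁻¹ := by rw [eq_inv_iff_mul_eq_one, h.aa]
  rw [mul_assoc a⁻¹, mul_inv_cancel_left, mul_assoc, h1]

theorem ak (_h : Sl z a b) : a * (b * a) = a * b * a := (mul_assoc _ _ _).symm

theorem jk (h : Sl z a b) : a⁻¹ * b * a⁻¹ * (b * a) = a * b := by
  have e1 : a⁻¹ * b * a⁻¹ = a * (a * b) * a⁻¹ := by rw [h.ai', mul_inv_cancel_right]
  have e2 : b * a = a * (a⁻¹ * b * a⁻¹) * a⁻¹ := by rw [h.aj, mul_inv_cancel_right]
  have e3 : a * b = a * (b * a) * a⁻¹ := by rw [h.ak, mul_inv_cancel_right]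
  calc a⁻¹ * b * a⁻¹ * (b * a) = (a * (a * b) * a⁻¹) * (a * (a⁻¹ * b * a⁻¹) * a⁻¹) := by rw [← e1, ← e2]
    _ = a * ((a * b) * (a⁻¹ * b * a⁻¹)) * a⁻¹ := by group
    _ = a * b := by rw [h.ij, ← e3]

theorem ki (h : Sl z a b) : b * a * (a * b) = a⁻¹ * b * a⁻¹ := by
  have e1 : a⁻¹ * b * a⁻¹ = a * (a * b) * a⁻¹ := by rw [h.ai', mul_inv_cancel_right]
  have e2 : b * a = a * (a⁻¹ * b * a⁻¹) * a⁻¹ := by rw [h.aj, mul_inv_cancel_right]
  have e3 : a * b = a * (b * a) * a⁻¹ := by rw [h.ak, mul_inv_cancel_right]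
  calc b * a * (a * b) = (a * (a⁻¹ * b * a⁻¹) * a⁻¹) * (a * (b * a) * a⁻¹) := by rw [← e2, ← e3]
    _ = a * ((a⁻¹ * b * a⁻¹) * (b * a)) * a⁻¹ := by group
    _ = a⁻¹ * b * a⁻¹ := by rw [h.jk, ← e1]

theorem ji (h : Sl z a b) : a⁻¹ * b * a⁻¹ * (a * b) = z * (b * a) := by
  have h1 : a⁻¹ * b * a⁻¹ * (a * b) = z * z * (a⁻¹ * b * a⁻¹ * (a * b)) := by rw [h.zz, one_mul]
  have h2 : z * (a * b) = (a * b)⁻¹ := by
    rw [eq_inv_iff_mul_eq_one, mul_assoc, h.ab, h.zz]
  have h3 : z * (a⁻¹ * b * a⁻¹) = (a⁻¹ * b * a⁻¹)⁻¹ := by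
    rw [eq_inv_iff_mul_eq_one, mul_assoc, h.jj, h.zz]
  have h4 : z * (b * a) = (b * a)⁻¹ := by
    rw [eq_inv_iff_mul_eq_one, mul_assoc, h.baba, h.zz]
  calc a⁻¹ * b * a⁻¹ * (a * b) = (z * (a⁻¹ * b * a⁻¹)) * (z * (a * b)) := by
        rw [mul_assoc z, ← mul_assoc (a⁻¹ * b * a⁻¹) z, ← h.zc, mul_assoc z, ← mul_assoc z z, h.zz, one_mul]
    _ = ((a * b) * (a⁻¹ * b * a⁻¹))⁻¹ := by rw [h2, h3, ← mul_inv_rev]
    _ = z * (b * a) := by rw [h.ij, h4]

end Sl

end group

section ring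

variable {F : Type u} [Field F] {V : Type v} [AddCommGroup V] [Module F V]
variable {P : Type w} [Group P] {ρ : P →* Module.End F V} {z a b : P}

/-- `I + J + K` -/
def S (ρ : P →* Module.End F V) (a b : P) : Module.End F V := ρ (a * b) + ρ (a⁻¹ * b * a⁻¹) + ρ (b * a)

theorem S_def : S ρ a b = ρ (a * b) + ρ (a⁻¹ * b * a⁻¹) + ρ (b * a) := rfl

/-- `(-1 - S)/2` -/
def Q (ρ : P →* Module.End F V) (a b : P) : Module.End F V := (2 : F)⁻¹ • (-1 - S ρ a b)

/-- `(-1 + S)/2` -/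
def Qb (ρ : P →* Module.End F V) (a b : P) : Module.End F V := (2 : F)⁻¹ • (-1 + S ρ a b)

variable (h : Sl z a b) (hz : ρ z = -1)
include h hz

theorem kk' : ρ (b * a) * ρ (b * a) = -1 := by rw [← map_mul, h.baba, hz]
theorem ii' : ρ (a * b) * ρ (a * b) = -1 := by rw [← map_mul, h.ab, hz]
theorem jj' : ρ (a⁻¹ * b * a⁻¹) * ρ (a⁻¹ * b * a⁻¹) = -1 := by rw [← map_mul, h.jj, hz]
theorem ij' : ρ (a * b) * ρ (a⁻¹ * b * a⁻¹) = ρ (b * a) := by rw [← map_mul, h.ij]
theorem jk' : ρ (a⁻¹ * b * a⁻¹) * ρ (b * a) = ρ (a * b) := by rw [← map_mul, h.jk]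
theorem ki' : ρ (b * a) * ρ (a * b) = ρ (a⁻¹ * b * a⁻¹) := by rw [← map_mul, h.ki]
theorem ji' : ρ (a⁻¹ * b * a⁻¹) * ρ (a * b) = -ρ (b * a) := by
  rw [← map_mul, h.ji, map_mul, hz, neg_one_mul]
theorem kj' : ρ (b * a) * ρ (a⁻¹ * b * a⁻¹) = -ρ (a * b) := by
  have h1 := ki' h hz
  rw [← h1, ← mul_assoc, kk' h hz, neg_one_mul]
theorem ik' : ρ (a * b) * ρ (b * a) = -ρ (a⁻¹ * b * a⁻¹) := by
  rw [← ij' h hz, ← mul_assoc, ii' h hz, neg_one_mul]

theorem SS : S ρ a b * S ρ a b = -3 := by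
  rw [S_def, add_mul, add_mul, mul_add, mul_add, mul_add, mul_add, mul_add, mul_add, ii' h hz, jj' h hz, kk' h hz,
    ij' h hz, jk' h hz, ki' h hz, ji' h hz, kj' h hz, ik' h hz]
  have : (3 : Module.End F V) = 1 + 1 + 1 := by norm_num
  rw [this]
  abel

theorem AS : ρ a * S ρ a b = S ρ a b * ρ a := by
  rw [S_def, mul_add, mul_add, add_mul, add_mul, ← map_mul, ← map_mul, ← map_mul, ← map_mul, ← map_mul, ← map_mul,
    h.ai', h.aj, h.ak]
  abel

theorem Q_mul_Qb (h2 : (2 : F) ≠ 0) : Q ρ a b * Qb ρ a b = 1 := by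
  rw [Q, Qb, smul_mul_smul_comm]
  have h1 : (-1 - S ρ a b) * (-1 + S ρ a b) = (2 * 2 : F) • (1 : Module.End F V) := by
    have : (-1 - S ρ a b) * (-1 + S ρ a b) = 1 - S ρ a b * S ρ a b := by noncomm_ring
    rw [this, SS h hz, mul_smul, two_smul, two_smul]
    norm_num
  rw [h1, smul_smul]
  have : (2 : F)⁻¹ * 2⁻¹ * (2 * 2) = 1 := by field_simp
  rw [this, one_smul]

theorem Qb_mul_Q (h2 : (2 : F) ≠ 0) : Qb ρ a b * Q ρ a b = 1 := by
  rw [Q, Qb, smul_mul_smul_comm]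
  have h1 : (-1 + S ρ a b) * (-1 - S ρ a b) = (2 * 2 : F) • (1 : Module.End F V) := by
    have : (-1 + S ρ a b) * (-1 - S ρ a b) = 1 - S ρ a b * S ρ a b := by noncomm_ring
    rw [this, SS h hz, mul_smul, two_smul, two_smul]
    norm_num
  rw [h1, smul_smul]
  have : (2 : F)⁻¹ * 2⁻¹ * (2 * 2) = 1 := by field_simp
  rw [this, one_smul]

theorem Qb_eq (h2 : (2 : F) ≠ 0) : Qb ρ a b = -1 - Q ρ a b := by
  have h3 : (1 : Module.End F V) = ((2 : F)⁻¹ * 2) • (1 : Module.End F V) := by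
    rw [inv_mul_cancel₀ h2, one_smul]
  rw [Q, Qb]
  nth_rewrite 2 [h3]
  rw [mul_smul, ← smul_neg, ← smul_sub, two_smul]
  congr 1
  abel

theorem QQ (h2 : (2 : F) ≠ 0) : Q ρ a b * Q ρ a b + Q ρ a b + 1 = 0 := by
  have h1 := Q_mul_Qb h hz h2
  rw [Qb_eq h hz h2, mul_sub] at h1
  rw [← h1]
  simp only [mul_neg, mul_one]
  abel

theorem Qb_comm_a : Qb ρ a b * ρ a = ρ a * Qb ρ a b := by
  rw [Qb, smul_mul_assoc, mul_smul_comm, add_mul, mul_add, AS h hz]
  congr 2
  rw [neg_one_mul, mul_neg, mul_one]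

/-- `Z = Q⁻¹ A` commutes with `I`, `J`, `K` -/
theorem Z_comm_i : Qb ρ a b * ρ a * ρ (a * b) = ρ (a * b) * (Qb ρ a b * ρ a) := by
  have h1 : ρ a * ρ (a * b) = ρ (a⁻¹ * b * a⁻¹) * ρ a := by rw [← map_mul, ← map_mul, h.ai']
  rw [mul_assoc, h1, ← mul_assoc, ← mul_assoc]
  congr 1
  rw [Qb, smul_mul_assoc, mul_smul_comm, S_def]
  congr 1
  rw [add_mul, add_mul, add_mul, mul_add, mul_add, mul_add, ij' h hz, jj' h hz, kj' h hz, ii' h hz, ik' h hz,
    neg_one_mul, mul_neg, mul_one]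
  abel

theorem Z_comm_j : Qb ρ a b * ρ a * ρ (a⁻¹ * b * a⁻¹) = ρ (a⁻¹ * b * a⁻¹) * (Qb ρ a b * ρ a) := by
  have h1 : ρ a * ρ (a⁻¹ * b * a⁻¹) = ρ (b * a) * ρ a := by rw [← map_mul, ← map_mul, h.aj]
  rw [mul_assoc, h1, ← mul_assoc, ← mul_assoc]
  congr 1
  rw [Qb, smul_mul_assoc, mul_smul_comm, S_def]
  congr 1
  rw [add_mul, add_mul, add_mul, mul_add, mul_add, mul_add, ik' h hz, jk' h hz, kk' h hz, ji' h hz, jj' h hz,
    neg_one_mul, mul_neg, mul_one]
  abel

end ring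

end Cfsg.Agent.H825.Spin
end

-- part: H825/SpinTwo
section
/-!
# Elements of order three in dimension two (helper825)
-/

set_option autoImplicit false

namespace Cfsg.Agent.H825.Spin

open Module Matrix

universe u v

variable {F : Type u} [Field F]

theorem mat_sq (M : Matrix (Fin 2) (Fin 2) F) : M * M = M.trace • M - M.det • 1 := by
  ext i j
  rw [Matrix.trace_fin_two, Matrix.det_fin_two]
  (revert i j; simp only [Matrix.mul_apply, Fin.sum_univ_two, _root_.Fin.forall_fin_succ, Fin.isValue, _root_.Matrix.sub_apply, _root_.Matrix.smul_apply, _root_.smul_eq_mul, _root_.Fin.succ_zero_eq_one, _root_.IsEmpty.forall_iff, _root_.and_true, _root_.Matrix.one_apply_eq, _root_.mul_one, Nat.reduceAdd, _root_.ne_eq, _root_.zero_ne_one, _root_.not_false_eq_true, _root_.Matrix.one_apply_ne, _root_.MulZeroClass.mul_zero, _root_.sub_zero, _root_.Fin.succ_ne_zero]) <;> (repeat' with_reducible apply And.intro) <;> ring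

/-- `M³ = 1`: scalar or `det = tr²`, `tr³ = -1` -/
theorem mat_cases {M : Matrix (Fin 2) (Fin 2) F} (h : M * M * M = 1) :
    (∃ c : F, M = c • 1) ∨ (M.trace ^ 2 = M.det ∧ M.trace * M.det = -1) := by
  have h1 : (M.trace ^ 2 - M.det) • M = (1 + M.trace * M.det) • (1 : Matrix (Fin 2) (Fin 2) F) := by
    have h2 : M * M * M = (M.trace ^ 2 - M.det) • M - (M.trace * M.det) • 1 := by
      rw [mat_sq, sub_mul, smul_mul_assoc, mat_sq, smul_mul_assoc, one_mul, smul_sub, smul_smul, smul_smul, sub_smul,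
        pow_two]
      abel
    rw [h] at h2
    rw [add_smul, one_smul]
    exact sub_eq_iff_eq_add.1 h2.symm
  by_cases h3 : M.trace ^ 2 - M.det = 0
  · right
    refine ⟨sub_eq_zero.1 h3, ?_⟩
    rw [h3, zero_smul] at h1
    have h4 := congrFun (congrFun h1 0) 0
    simp at h4
    linear_combination -h4
  · left
    refine ⟨(M.trace ^ 2 - M.det)⁻¹ * (1 + M.trace * M.det), ?_⟩
    rw [mul_smul, ← h1, smul_smul, inv_mul_cancel₀ h3, one_smul]

theorem mat_eq_one (h2 : (2 : F) ≠ 0) {M : Matrix (Fin 2) (Fin 2) F} (h : M * M * M = 1)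
    (ht : M.trace = (M * M).trace) : M = 1 ∨ (M.trace = -1 ∧ M.det = 1) := by
  rcases mat_cases h with ⟨c, rfl⟩ | ⟨h1, h3⟩
  · left
    have hc : c * c = c := by
      have h4 : (c • (1 : Matrix (Fin 2) (Fin 2) F)).trace = 2 * c := by
        rw [Matrix.trace_smul, Matrix.trace_one, Fintype.card_fin, smul_eq_mul]
        push_cast; ring
      have h5 : (c • (1 : Matrix (Fin 2) (Fin 2) F)) * (c • 1) = (c * c) • 1 := by
        rw [smul_mul_smul_comm, one_mul]
      have h6 : ((c * c) • (1 : Matrix (Fin 2) (Fin 2) F)).trace = 2 * (c * c) := by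
        rw [Matrix.trace_smul, Matrix.trace_one, Fintype.card_fin, smul_eq_mul]
        push_cast; ring
      rw [h4, h5, h6] at ht
      exact (mul_left_cancel₀ h2 ht).symm
    have hc0 : c ≠ 0 := by
      rintro rfl
      have h4 := congrFun (congrFun h 0) 0
      simp at h4
    have : c = 1 := mul_left_cancel₀ hc0 (by rw [hc, mul_one])
    rw [this, one_smul]
  · right
    have h4 : (M * M).trace = M.trace ^ 2 - 2 * M.det := by
      rw [mat_sq, Matrix.trace_sub, Matrix.trace_smul, Matrix.trace_smul, Matrix.trace_one, Fintype.card_fin,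
        smul_eq_mul, smul_eq_mul]
      push_cast; ring
    rw [h4, ← h1] at ht
    have h5 : M.trace ≠ 0 := by
      intro h0
      rw [h0, zero_mul] at h3
      exact one_ne_zero (neg_eq_zero.1 h3.symm)
    have h6 : M.trace = -1 := by
      apply mul_left_cancel₀ h5
      linear_combination ht
    exact ⟨h6, by rw [← h1, h6]; norm_num⟩

theorem mat_two (h2 : (2 : F) ≠ 0) (h3 : (3 : F) ≠ 0) {M N : Matrix (Fin 2) (Fin 2) F} (hM : M * M * M = 1)
    (hN : N * N * N = 1) (hMN : M * N = N * M) (tM : M.trace = (M * M).trace) (tN : N.trace = (N * N).trace)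
    (t : M.trace = N.trace) (t' : (M * N).trace = (M * M * N).trace) : M = 1 := by
  rcases mat_eq_one h2 hM tM with h | ⟨h4, h5⟩
  · exact h
  exfalso
  rcases mat_eq_one h2 hN tN with h | ⟨h6, h7⟩
  · rw [h, h4, Matrix.trace_one, Fintype.card_fin] at t
    apply h3
    push_cast at t
    linear_combination -t
  have h8 : M * M * N = - N - M * N := by
    rw [mat_sq, h4, h5, one_smul, neg_one_smul, sub_mul, one_mul, neg_mul]
    abel
  rw [h8, Matrix.trace_sub, Matrix.trace_neg, h6] at t'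
  have h9 : M * N * (M * N) * (M * N) = 1 := by
    have : M * N * (M * N) * (M * N) = (M * M * M) * (N * N * N) := by
      have e : ∀ X : Matrix (Fin 2) (Fin 2) F, N * (M * X) = M * (N * X) := fun X => by
        rw [← mul_assoc, ← hMN, mul_assoc]
      simp only [mul_assoc]
      rw [e, e, e]
    rw [this, hM, hN, one_mul]
  rcases mat_cases h9 with ⟨c, hc⟩ | ⟨h10, h11⟩
  · have hdet : c * c = 1 := by
      have := congrArg Matrix.det hc
      rw [Matrix.det_mul, h5, h7, Matrix.det_smul, Matrix.det_one, Fintype.card_fin] at this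
      linear_combination -this
    have htr : (M * N).trace = 2 * c := by
      rw [hc, Matrix.trace_smul, Matrix.trace_one, Fintype.card_fin, smul_eq_mul]
      push_cast; ring
    rw [htr] at t'
    apply h3
    have h12 : 4 * c = 1 := by linear_combination t'
    have h13 : c * c * c = 1 := by
      have := congrFun (congrFun h9 0) 0
      rw [hc] at this
      simpa only [mul_assoc, _root_.Algebra.mul_smul_comm, _root_.mul_one, _root_.Fin.isValue, _root_.Matrix.smul_apply, _root_.Matrix.one_apply_eq, _root_.smul_eq_mul] using this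
    rw [hdet, one_mul] at h13
    rw [h13] at h12
    linear_combination h12
  · have h12 : (M * N).det = 1 := by rw [Matrix.det_mul, h5, h7, one_mul]
    rw [h12, mul_one] at h11
    rw [h11] at t'
    apply h3
    linear_combination -t'

theorem end_two {U : Type v} [AddCommGroup U] [Module F U] [FiniteDimensional F U] (hU : finrank F U = 2)
    (h2 : (2 : F) ≠ 0) (h3 : (3 : F) ≠ 0) {M N : Module.End F U} (hM : M * M * M = 1)
    (hN : N * N * N = 1) (hMN : M * N = N * M) (tM : LinearMap.trace F U M = LinearMap.trace F U (M * M))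
    (tN : LinearMap.trace F U N = LinearMap.trace F U (N * N))
    (t : LinearMap.trace F U M = LinearMap.trace F U N)
    (t' : LinearMap.trace F U (M * N) = LinearMap.trace F U (M * M * N)) : M = 1 := by
  let b : Basis (Fin 2) F U := Module.finBasisOfFinrankEq F U hU
  let φ := LinearMap.toMatrixAlgEquiv b
  have htr : ∀ f : Module.End F U, LinearMap.trace F U f = (φ f).trace := fun f => LinearMap.trace_eq_matrix_trace F b f
  apply φ.injective
  rw [map_one]
  apply mat_two h2 h3 (N := φ N)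
  · rw [← map_mul, ← map_mul, hM, map_one]
  · rw [← map_mul, ← map_mul, hN, map_one]
  · rw [← map_mul, ← map_mul, hMN]
  · rw [← map_mul, ← htr, ← htr, tM]
  · rw [← map_mul, ← htr, ← htr, tN]
  · rw [← htr, ← htr, t]
  · rw [← map_mul, ← map_mul, ← map_mul, ← htr, ← htr, t']

end Cfsg.Agent.H825.Spin
end

-- part: H825/SpinCfg
section
/-!
# The lift of a 3-cycle acts with `y² + y + 1 = 0` (helper825)
-/

set_option autoImplicit false
set_option linter.unusedSectionVars false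

namespace Cfsg.Agent.H825.Spin

open Module

universe u v w

section group

variable {P : Type w} [Group P]

/-- two commuting `SL_2(3)` -/
structure Pre (z a b c d : P) : Prop where
  sl : Sl z a b
  sl' : Sl z c d
  ac : Commute a c
  ad : Commute a d
  bc : Commute b c
  bd : Commute b d

/-- configuration in the double cover of `A_8`: `a, b` lift `(012)`, `(013)`, `c, d` lift `(456)`, `(457)`,
`σ` lifts `(04)(15)(26)(37)` -/
structure Cfg (z a b c d σ : P) : Prop extends Pre z a b c d where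
  sa : σ * a * σ⁻¹ = c
  sb : σ * b * σ⁻¹ = d
  sc : σ * c * σ⁻¹ = a
  sd : σ * d * σ⁻¹ = b
  u1 : Uni z (a * b * (c * d)) σ
  u2 : Uni z (a * b * (c * d)) (a⁻¹ * b * a⁻¹ * (c⁻¹ * d * c⁻¹) * σ)
  e1 : ∃ u, u * a * u⁻¹ = a⁻¹
  e2 : ∃ u, u * a * u⁻¹ = a⁻¹ ∧ u * c * u⁻¹ = c

variable {z a b c d σ : P}

namespace Pre

variable (h : Pre z a b c d)
include h

/-- words in `a, b` commute with words in `c, d` -/
theorem cI : Commute c (a * b) := (h.ac.symm.mul_right h.bc.symm)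
theorem dI : Commute d (a * b) := (h.ad.symm.mul_right h.bd.symm)
theorem cJ : Commute c (a⁻¹ * b * a⁻¹) := ((h.ac.symm.inv_right.mul_right h.bc.symm).mul_right h.ac.symm.inv_right)
theorem dJ : Commute d (a⁻¹ * b * a⁻¹) := ((h.ad.symm.inv_right.mul_right h.bd.symm).mul_right h.ad.symm.inv_right)
theorem cK : Commute c (b * a) := (h.bc.symm.mul_right h.ac.symm)
theorem dK : Commute d (b * a) := (h.bd.symm.mul_right h.ad.symm)
theorem aI' : Commute a (c * d) := h.ac.mul_right h.ad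
theorem bI' : Commute b (c * d) := h.bc.mul_right h.bd
theorem aJ' : Commute a (c⁻¹ * d * c⁻¹) := (h.ac.inv_right.mul_right h.ad).mul_right h.ac.inv_right
theorem bJ' : Commute b (c⁻¹ * d * c⁻¹) := (h.bc.inv_right.mul_right h.bd).mul_right h.bc.inv_right
theorem II' : Commute (a * b) (c * d) := h.aI'.mul_left h.bI'
theorem IJ' : Commute (a * b) (c⁻¹ * d * c⁻¹) := h.aJ'.mul_left h.bJ'
theorem JI' : Commute (a⁻¹ * b * a⁻¹) (c * d) := (h.aI'.inv_left.mul_left h.bI').mul_left h.aI'.inv_left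
theorem JJ' : Commute (a⁻¹ * b * a⁻¹) (c⁻¹ * d * c⁻¹) := (h.aJ'.inv_left.mul_left h.bJ').mul_left h.aJ'.inv_left
theorem r12 : a * b * (c * d) * (a⁻¹ * b * a⁻¹ * (c⁻¹ * d * c⁻¹)) = b * a * (d * c) := by
  rw [mul_assoc (a * b), ← mul_assoc (c * d), ← h.JI'.eq, mul_assoc (a⁻¹ * b * a⁻¹), h.sl'.ij, ← mul_assoc, h.sl.ij]

theorem r21 : a⁻¹ * b * a⁻¹ * (c⁻¹ * d * c⁻¹) * (a * b * (c * d)) = b * a * (d * c) := by
  rw [mul_assoc (a⁻¹ * b * a⁻¹), ← mul_assoc (c⁻¹ * d * c⁻¹), ← h.IJ'.eq, mul_assoc (a * b), h.sl'.ji, ← mul_assoc,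
    h.sl.ji, mul_assoc z, ← mul_assoc (b * a) z, ← h.sl.zc, mul_assoc z (b * a), ← mul_assoc z z, h.sl.zz, one_mul]

theorem r11 : a * b * (c * d) * (a * b * (c * d)) = 1 := by
  rw [mul_assoc (a * b), ← mul_assoc (c * d), ← h.II'.eq, mul_assoc (a * b) (c * d), ← mul_assoc, h.sl.ab, h.sl'.ab,
    h.sl.zz]

theorem r22 : a⁻¹ * b * a⁻¹ * (c⁻¹ * d * c⁻¹) * (a⁻¹ * b * a⁻¹ * (c⁻¹ * d * c⁻¹)) = 1 := by
  rw [mul_assoc (a⁻¹ * b * a⁻¹), ← mul_assoc (c⁻¹ * d * c⁻¹), ← h.JJ'.eq, mul_assoc (a⁻¹ * b * a⁻¹) (c⁻¹ * d * c⁻¹),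
    ← mul_assoc, h.sl.jj, h.sl'.jj, h.sl.zz]

theorem iji : a * b * (a⁻¹ * b * a⁻¹) * (a * b)⁻¹ = z * (a⁻¹ * b * a⁻¹) := by
  rw [mul_inv_eq_iff_eq_mul, mul_assoc z, h.sl.ji, ← mul_assoc z z, h.sl.zz, one_mul, h.sl.ij]

theorem jij : a⁻¹ * b * a⁻¹ * (a * b) * (a⁻¹ * b * a⁻¹)⁻¹ = z * (a * b) := by
  rw [mul_inv_eq_iff_eq_mul, mul_assoc z, h.sl.ij, h.sl.ji]

theorem uni : Uni z (a * b * (c * d)) (a⁻¹ * b * a⁻¹ * (c⁻¹ * d * c⁻¹)) where
  xx := h.r11
  yy := h.r22
  comm := by rw [h.r12, h.r21]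
  ex := by
    refine ⟨a * b, ?_, ?_⟩
    · have h1 : Commute (a * b) (a * b * (c * d)) := (Commute.refl _).mul_right h.II'
      rw [h1.eq, mul_inv_cancel_right]
    · have h1 : a * b * (a⁻¹ * b * a⁻¹ * (c⁻¹ * d * c⁻¹)) * (a * b)⁻¹ =
          (a * b * (a⁻¹ * b * a⁻¹) * (a * b)⁻¹) * ((a * b) * (c⁻¹ * d * c⁻¹) * (a * b)⁻¹) := by group
      rw [h1, h.iji, h.IJ'.eq, mul_inv_cancel_right, mul_assoc z]
  ey := by
    refine ⟨a⁻¹ * b * a⁻¹, ?_, ?_⟩
    · have h1 : a⁻¹ * b * a⁻¹ * (a * b * (c * d)) * (a⁻¹ * b * a⁻¹)⁻¹ =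
          (a⁻¹ * b * a⁻¹ * (a * b) * (a⁻¹ * b * a⁻¹)⁻¹) *
            ((a⁻¹ * b * a⁻¹) * (c * d) * (a⁻¹ * b * a⁻¹)⁻¹) := by group
      rw [h1, h.jij, h.JI'.eq, mul_inv_cancel_right, mul_assoc z]
    · have h1 : Commute (a⁻¹ * b * a⁻¹) (a⁻¹ * b * a⁻¹ * (c⁻¹ * d * c⁻¹)) := (Commute.refl _).mul_right h.JJ'
      rw [h1.eq, mul_inv_cancel_right]

end Pre

namespace Cfg

variable (h : Cfg z a b c d σ)
include h

theorem sJ : σ * (a⁻¹ * b * a⁻¹) * σ⁻¹ = c⁻¹ * d * c⁻¹ := by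
  rw [← h.sa, ← h.sb]; group

theorem sJ' : σ * (c⁻¹ * d * c⁻¹) * σ⁻¹ = a⁻¹ * b * a⁻¹ := by
  rw [← h.sc, ← h.sd]; group

theorem s2 : a⁻¹ * b * a⁻¹ * (c⁻¹ * d * c⁻¹) * σ = σ * (a⁻¹ * b * a⁻¹ * (c⁻¹ * d * c⁻¹)) := by
  have h1 : σ * (a⁻¹ * b * a⁻¹ * (c⁻¹ * d * c⁻¹)) * σ⁻¹ =
      (σ * (a⁻¹ * b * a⁻¹) * σ⁻¹) * (σ * (c⁻¹ * d * c⁻¹) * σ⁻¹) := by group
  rw [h.sJ, h.sJ', ← h.JJ'.eq, mul_inv_eq_iff_eq_mul] at h1
  exact h1.symm

theorem sac : σ * (a * c) * σ⁻¹ = a * c := by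
  have h1 : σ * (a * c) * σ⁻¹ = (σ * a * σ⁻¹) * (σ * c * σ⁻¹) := by group
  rw [h1, h.sa, h.sc, h.ac.eq]

end Cfg

end group

section ring

variable {F : Type u} [Field F] {V : Type v} [AddCommGroup V] [Module F V]
variable {P : Type w} [Group P] {ρ : P →* Module.End F V} {z a b c d σ : P}

/-- the subspace -/
def U (ρ : P →* Module.End F V) (a b c d : P) : Submodule F V :=
  E ρ (a * b * (c * d)) 1 ⊓ E ρ (a⁻¹ * b * a⁻¹ * (c⁻¹ * d * c⁻¹)) 1

theorem mem_U {v : V} : v ∈ U ρ a b c d ↔ ρ (a * b * (c * d)) v = v ∧ ρ (a⁻¹ * b * a⁻¹ * (c⁻¹ * d * c⁻¹)) v = v := by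
  rw [U, Submodule.mem_inf, mem_E, mem_E, one_smul]

variable (h : Cfg z a b c d σ) (hz : ρ z = -1) (h2 : (2 : F) ≠ 0)

include h in
theorem hdim [FiniteDimensional F V] (hz : ρ z = -1) (h2 : (2 : F) ≠ 0) :
    finrank F V = 8 * finrank F (U ρ a b c d ⊓ E ρ σ 1 : Submodule F V) ∧
    finrank F V = 8 * finrank F (U ρ a b c d ⊓ E ρ σ (-1) : Submodule F V) ∧
    finrank F V = 4 * finrank F (U ρ a b c d) := by
  obtain ⟨h1, h3⟩ := eight (ρ := ρ) h.uni h.u1 h.u2 h.s2 hz h2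
  obtain ⟨h4, h5, -⟩ := h.uni.finrank_eq (ρ := ρ) hz h2
  refine ⟨h1, h3, ?_⟩
  rw [U]
  (clear * - h4 h5; omega)

include h hz in
theorem onU {v : V} (hv : v ∈ U ρ a b c d) : S ρ c d v = -S ρ a b v := by
  obtain ⟨h1, h3⟩ := mem_U.1 hv
  have h4 : ρ (b * a * (d * c)) v = v := by
    rw [← h.r12, rho_mul, h3, h1]
  have key : ∀ {x y : P}, ρ x * ρ x = -1 → ρ (x * y) v = v → ρ y v = -ρ x v := by
    intro x y hx hxy
    have := congrArg (ρ x) hxy
    rw [rho_mul, ← Module.End.mul_apply, hx] at this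
    rw [← this]
    simp only [_root_.LinearMap.neg_apply, _root_.Module.End.one_apply, _root_.neg_neg]
  rw [S_def, S_def]
  simp only [LinearMap.add_apply]
  rw [key (ii' h.sl hz) h1, key (jj' h.sl hz) h3, key (kk' h.sl hz) h4]
  abel

include h hz h2 in
theorem QQ_onU {v : V} (hv : v ∈ U ρ a b c d) : Q ρ a b (Q ρ c d v) = v := by
  have h1 : Q ρ c d v = Qb ρ a b v := by
    rw [Q, Qb, LinearMap.smul_apply, LinearMap.smul_apply, LinearMap.sub_apply, LinearMap.add_apply, onU h hz hv,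
      sub_neg_eq_add]
  rw [h1, ← Module.End.mul_apply, Q_mul_Qb h.sl hz h2]
  rfl

include h hz h2 in
/-- an operator commuting with `I, J` and trivial on `U` is trivial -/
theorem ext_U {X : Module.End F V} (hI : X * ρ (a * b) = ρ (a * b) * X)
    (hJ : X * ρ (a⁻¹ * b * a⁻¹) = ρ (a⁻¹ * b * a⁻¹) * X) (hX : ∀ v ∈ U ρ a b c d, X v = v) : X = 1 := by
  set i := a * b with hi
  set j := a⁻¹ * b * a⁻¹ with hj
  set r := a * b * (c * d) with hr
  set s := a⁻¹ * b * a⁻¹ * (c⁻¹ * d * c⁻¹) with hs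
  have rr : ∀ v, ρ r (ρ r v) = v := fun v => by rw [← rho_mul, h.r11, map_one]; rfl
  have ss : ∀ v, ρ s (ρ s v) = v := fun v => by rw [← rho_mul, h.r22, map_one]; rfl
  have rs : ∀ v, ρ r (ρ s v) = ρ s (ρ r v) := fun v => by rw [← rho_mul, ← rho_mul, h.uni.comm]
  have hzv : ∀ v, ρ z v = -v := fun v => by rw [hz]; rfl
  -- `i` commutes with `r`, anticommutes with `s`
  have ir : ∀ v, ρ r (ρ i v) = ρ i (ρ r v) := fun v => by
    have h1 : Commute i r := (Commute.refl _).mul_right h.II'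
    rw [← rho_mul, ← rho_mul, h1.eq]
  have is : ∀ v, ρ s (ρ i v) = -ρ i (ρ s v) := fun v => by
    have h1 : s * i = z * (i * s) := by
      calc s * i = j * ((c⁻¹ * d * c⁻¹) * i) := mul_assoc _ _ _
        _ = j * i * (c⁻¹ * d * c⁻¹) := by rw [hi, ← h.IJ'.eq, ← mul_assoc]
        _ = z * (i * j * (c⁻¹ * d * c⁻¹)) := by rw [hi, hj, h.sl.ji, h.sl.ij, mul_assoc]
        _ = z * (i * s) := by rw [mul_assoc i]
    rw [← rho_mul, h1, rho_mul, hzv, rho_mul]
  have js : ∀ v, ρ s (ρ j v) = ρ j (ρ s v) := fun v => by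
    have h1 : Commute j s := (Commute.refl _).mul_right h.JJ'
    rw [← rho_mul, ← rho_mul, h1.eq]
  have jr : ∀ v, ρ r (ρ j v) = -ρ j (ρ r v) := fun v => by
    have h0 : i * j = z * (j * i) := by rw [h.sl.ji, ← mul_assoc z z, h.sl.zz, one_mul, h.sl.ij]
    have h1 : r * j = z * (j * r) := by
      calc r * j = i * ((c * d) * j) := mul_assoc _ _ _
        _ = i * j * (c * d) := by rw [hj, ← h.JI'.eq, ← mul_assoc]
        _ = z * (j * i * (c * d)) := by rw [h0, mul_assoc]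
        _ = z * (j * r) := by rw [mul_assoc j]
    rw [← rho_mul, h1, rho_mul, hzv, rho_mul]
  have XI : ∀ v, X (ρ i v) = ρ i (X v) := fun v => by
    rw [← Module.End.mul_apply, hI]; rfl
  have XJ : ∀ v, X (ρ j v) = ρ j (X v) := fun v => by
    rw [← Module.End.mul_apply, hJ]; rfl
  have iinj : ∀ v w, ρ i v = ρ i w → v = w := fun v w hvw => by
    have := congrArg (ρ i⁻¹) hvw
    rwa [rho_inv, rho_inv] at this
  have jinj : ∀ v w, ρ j v = ρ j w → v = w := fun v w hvw => by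
    have := congrArg (ρ j⁻¹) hvw
    rwa [rho_inv, rho_inv] at this
  have h1 : ∀ v, ρ r v = v → ρ s v = v → X v = v := fun v hv hv' => hX v (mem_U.2 ⟨hv, hv'⟩)
  have h3 : ∀ v, ρ r v = v → ρ s v = -v → X v = v := by
    intro v hv hv'
    apply iinj
    rw [← XI]
    apply h1
    · rw [ir, hv]
    · rw [is, hv', map_neg, neg_neg]
  have h4 : ∀ v, ρ r v = v → X v = v := by
    intro v hv
    have e1 := h1 (v + ρ s v) (by rw [map_add, rs, hv]) (by rw [map_add, ss, add_comm])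
    have e2 := h3 (v - ρ s v) (by rw [map_sub, rs, hv]) (by rw [map_sub, ss, neg_sub])
    have e3 : X (v + ρ s v) + X (v - ρ s v) = (v + ρ s v) + (v - ρ s v) := by rw [e1, e2]
    rw [← map_add, add_add_sub_cancel, ← two_smul F v, map_smul] at e3
    exact smul_right_injective V h2 e3
  have h5 : ∀ v, ρ r v = -v → X v = v := by
    intro v hv
    apply jinj
    rw [← XJ]
    apply h4
    rw [jr, hv, map_neg, neg_neg]
  ext v
  have e1 := h4 (v + ρ r v) (by rw [map_add, rr, add_comm])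
  have e2 := h5 (v - ρ r v) (by rw [map_sub, rr, neg_sub])
  have e3 : X (v + ρ r v) + X (v - ρ r v) = (v + ρ r v) + (v - ρ r v) := by rw [e1, e2]
  rw [← map_add, add_add_sub_cancel, ← two_smul F v, map_smul] at e3
  exact smul_right_injective V h2 e3

end ring

end Cfsg.Agent.H825.Spin
end

-- part: H825/SpinKey
section
/-!
# The lift of a 3-cycle acts with `y² + y + 1 = 0`, II (helper825)
-/

set_option autoImplicit false
set_option linter.unusedSectionVars false

namespace Cfsg.Agent.H825.Spin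

open Module

universe u v w

variable {F : Type u} [Field F] {V : Type v} [AddCommGroup V] [Module F V]
variable {P : Type w} [Group P] {ρ : P →* Module.End F V} {z a b c d σ σ' : P}

theorem comm_smul {X Y : Module.End F V} (h : Commute X Y) (e : F) : Commute X (e • Y) := by
  change X * (e • Y) = (e • Y) * X
  rw [mul_smul_comm, smul_mul_assoc, h.eq]

theorem comm_Q {X : Module.End F V} (h : Commute X (S ρ a b)) : Commute X (Q ρ a b) := by
  rw [Q]
  apply comm_smul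
  change X * (-1 - S ρ a b) = (-1 - S ρ a b) * X
  rw [mul_sub, sub_mul, h.eq, mul_neg, neg_mul, mul_one, one_mul]

theorem comm_Qb {X : Module.End F V} (h : Commute X (S ρ a b)) : Commute X (Qb ρ a b) := by
  rw [Qb]
  apply comm_smul
  change X * (-1 + S ρ a b) = (-1 + S ρ a b) * X
  rw [mul_add, add_mul, h.eq, mul_neg, neg_mul, mul_one, one_mul]

theorem comm_S {x : P} (h1 : Commute x a) (h2 : Commute x b) : Commute (ρ x) (S ρ a b) := by
  rw [S_def]
  exact (((h1.mul_right h2).map ρ).add_right (((h1.inv_right.mul_right h2).mul_right h1.inv_right).map ρ)).add_right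
    ((h2.mul_right h1).map ρ)

theorem SS_comm (h : Cfg z a b c d σ) : Commute (S ρ a b) (S ρ c d) := by
  rw [S_def (a := a)]
  exact ((comm_S h.cI.symm h.dI.symm).add_left (comm_S h.cJ.symm h.dJ.symm)).add_left (comm_S h.cK.symm h.dK.symm)

theorem QQ_comm (h : Cfg z a b c d σ) : Commute (Q ρ a b) (Q ρ c d) := comm_Q (comm_Q (SS_comm h).symm).symm

theorem QQb_comm (h : Cfg z a b c d σ) : Commute (Q ρ a b) (Qb ρ c d) := comm_Qb (comm_Q (SS_comm h).symm).symm

/-- `Z = Q⁻¹ A` -/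
def Z (ρ : P →* Module.End F V) (a b : P) : Module.End F V := Qb ρ a b * ρ a

theorem a_S (h : Sl z a b) (hz : ρ z = -1) : Commute (ρ a) (S ρ a b) := AS h hz

theorem QZ (h : Sl z a b) (hz : ρ z = -1) (h2 : (2 : F) ≠ 0) : Q ρ a b * Z ρ a b = ρ a := by
  rw [Z, ← mul_assoc, Q_mul_Qb h hz h2, one_mul]

theorem QZ_comm (h : Sl z a b) (hz : ρ z = -1) : Commute (Q ρ a b) (Z ρ a b) := by
  have h1 : Commute (Q ρ a b) (ρ a) := (comm_Q (a_S h hz)).symm
  have h2 : Commute (Q ρ a b) (Qb ρ a b) := comm_Qb (comm_Q (Commute.refl _)).symm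
  exact h2.mul_right h1

theorem ZZZ (h : Sl z a b) (hz : ρ z = -1) (h2 : (2 : F) ≠ 0) : Z ρ a b * Z ρ a b * Z ρ a b = 1 := by
  have h1 : Commute (Qb ρ a b) (ρ a) := Qb_comm_a h hz
  have e1 : Z ρ a b * Z ρ a b * Z ρ a b = (Qb ρ a b * Qb ρ a b * Qb ρ a b) * (ρ a * ρ a * ρ a) := by
    rw [Z]
    have e : ∀ X, ρ a * (Qb ρ a b * X) = Qb ρ a b * (ρ a * X) := fun X => by rw [← mul_assoc, ← h1.eq, mul_assoc]
    simp only [mul_assoc]
    rw [e, e, e]
  have e2 : ρ a * ρ a * ρ a = 1 := by rw [← map_mul, ← map_mul, h.aa, map_one]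
  have e3 : Qb ρ a b * Qb ρ a b * Qb ρ a b = 1 := by
    have h4 := QQ h hz h2
    have h5 := Qb_eq h hz h2
    have h6 : Qb ρ a b = Q ρ a b * Q ρ a b := by
      rw [h5, ← sub_eq_zero, ← neg_eq_zero, ← h4]; abel
    have h7 : Q ρ a b * Q ρ a b * Q ρ a b = 1 := by
      rw [← h6, Qb_mul_Q h hz h2]
    calc Qb ρ a b * Qb ρ a b * Qb ρ a b = (Q ρ a b * Q ρ a b * Q ρ a b) * (Q ρ a b * Q ρ a b * Q ρ a b) := by
          rw [h6]; simp only [mul_assoc]
      _ = 1 := by rw [h7, one_mul]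
  rw [e1, e2, e3, one_mul]

theorem Z_c (h : Cfg z a b c d σ) : Commute (Z ρ a b) (ρ c) := by
  have h1 : Commute (ρ c) (Qb ρ a b) := comm_Qb (comm_S h.ac.symm h.bc.symm)
  exact (h1.mul_right (h.ac.symm.map ρ)).symm

theorem Z_S' (h : Cfg z a b c d σ) : Commute (Z ρ a b) (S ρ c d) := by
  have h1 : Commute (S ρ c d) (Qb ρ a b) := comm_Qb (SS_comm h).symm
  have h2 : Commute (S ρ c d) (ρ a) := (comm_S h.ac h.ad).symm
  exact (h1.mul_right h2).symm

/-- the symmetric configuration -/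
theorem Cfg.e3 (h : Cfg z a b c d σ) : ∃ u, u * c * u⁻¹ = c⁻¹ := by
  obtain ⟨u, hu⟩ := h.e1
  refine ⟨σ * u * σ⁻¹, ?_⟩
  have h1 : σ * u * σ⁻¹ * c * (σ * u * σ⁻¹)⁻¹ = σ * (u * (σ⁻¹ * c * σ) * u⁻¹) * σ⁻¹ := by group
  have h2 : σ⁻¹ * c * σ = a := by rw [← h.sa]; group
  rw [h1, h2, hu, ← h.sa]; group

theorem ZZ_comm (h : Cfg z a b c d σ) : Commute (Z ρ a b) (Z ρ c d) := by
  have h1 := Z_S' (ρ := ρ) h
  exact (comm_Qb h1).mul_right (Z_c h)

theorem Z'_i (h : Cfg z a b c d σ) : Commute (Z ρ c d) (ρ (a * b)) := by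
  have h1 : Commute (ρ (a * b)) (S ρ c d) := comm_S h.cI.symm h.dI.symm
  exact ((comm_Qb h1).mul_right (h.cI.symm.map ρ)).symm

theorem Z'_j (h : Cfg z a b c d σ) : Commute (Z ρ c d) (ρ (a⁻¹ * b * a⁻¹)) := by
  have h1 : Commute (ρ (a⁻¹ * b * a⁻¹)) (S ρ c d) := comm_S h.cJ.symm h.dJ.symm
  exact ((comm_Qb h1).mul_right (h.cJ.symm.map ρ)).symm

theorem Z_i (h : Sl z a b) (hz : ρ z = -1) : Commute (Z ρ a b) (ρ (a * b)) := Z_comm_i h hz

theorem Z_j (h : Sl z a b) (hz : ρ z = -1) : Commute (Z ρ a b) (ρ (a⁻¹ * b * a⁻¹)) := Z_comm_j h hz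

theorem Z_i' (h : Cfg z a b c d σ) : Commute (Z ρ a b) (ρ (c * d)) := by
  have h1 : Commute (ρ (c * d)) (S ρ a b) := comm_S h.aI'.symm h.bI'.symm
  exact ((comm_Qb h1).mul_right (h.aI'.symm.map ρ)).symm

theorem Z_j' (h : Cfg z a b c d σ) : Commute (Z ρ a b) (ρ (c⁻¹ * d * c⁻¹)) := by
  have h1 : Commute (ρ (c⁻¹ * d * c⁻¹)) (S ρ a b) := comm_S h.aJ'.symm h.bJ'.symm
  exact ((comm_Qb h1).mul_right (h.aJ'.symm.map ρ)).symm

theorem QbQb_onU (h : Cfg z a b c d σ) (hz : ρ z = -1) (h2 : (2 : F) ≠ 0) {v : V} (hv : v ∈ U ρ a b c d) :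
    Qb ρ a b (Qb ρ c d v) = v := by
  have h1 := QQ_onU h hz h2 hv
  have h3 : Qb ρ a b (Qb ρ c d (Q ρ a b (Q ρ c d v))) = v := by
    have : Qb ρ a b * Qb ρ c d * (Q ρ a b * Q ρ c d) = 1 := by
      rw [mul_assoc, ← mul_assoc (Qb ρ c d), ← (QQb_comm h).eq, mul_assoc (Q ρ a b), Qb_mul_Q h.sl' hz h2, mul_one,
        Qb_mul_Q h.sl hz h2]
    calc Qb ρ a b (Qb ρ c d (Q ρ a b (Q ρ c d v))) = (Qb ρ a b * Qb ρ c d * (Q ρ a b * Q ρ c d)) v := rfl
      _ = v := by rw [this]; rfl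
  rwa [h1] at h3

/-- a line on which an operator of order three acts in characteristic three -/
theorem fix_of_line (h3 : (3 : F) = 0) {L : Submodule F V} (hL : finrank F L = 1) {G : Module.End F V}
    (hG : ∀ v ∈ L, G v ∈ L) (hG3 : G * G * G = 1) {v : V} (hv : v ∈ L) : G v = v := by
  obtain ⟨⟨v0, hv0⟩, hne, hspan⟩ := finrank_eq_one_iff'.1 hL
  obtain ⟨e, he⟩ := hspan ⟨G v0, hG v0 hv0⟩
  have he' : G v0 = e • v0 := (congrArg Subtype.val he).symm
  have hv0ne : v0 ≠ 0 := fun h0 => hne (Subtype.ext h0)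
  have h4 : e = 1 := by
    have h5 : G (G (G v0)) = v0 := by
      change (G * G * G) v0 = v0
      rw [hG3]; rfl
    rw [he', map_smul, map_smul, he', map_smul, he', smul_smul, smul_smul] at h5
    have h6 : (e * e * e - 1) • v0 = 0 := by rw [sub_smul, one_smul, h5, sub_self]
    have h7 : e * e * e - 1 = 0 := (smul_eq_zero.1 h6).resolve_right hv0ne
    have h8 : (e - 1) ^ 3 = 0 := by
      have : (e - 1) ^ 3 = (e * e * e - 1) + 3 * (e - e * e) := by ring
      rw [this, h7, h3]; ring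
    exact sub_eq_zero.1 (pow_eq_zero_iff (by norm_num) |>.1 h8)
  obtain ⟨f, hf⟩ := hspan ⟨v, hv⟩
  have hf' : v = f • v0 := (congrArg Subtype.val hf).symm
  rw [hf', map_smul, he', h4, one_smul]

theorem key3 [FiniteDimensional F V] (h : Cfg z a b c d σ) (hz : ρ z = -1) (h2 : (2 : F) ≠ 0) (h3 : (3 : F) = 0)
    (hn : finrank F V = 8) : ρ (a * c) = Q ρ a b * Q ρ c d := by
  obtain ⟨d1, d2, -⟩ := hdim (ρ := ρ) h hz h2
  have hG3 : ρ (a * c) * ρ (a * c) * ρ (a * c) = 1 := by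
    rw [← map_mul, ← map_mul]
    have : a * c * (a * c) * (a * c) = (a * a * a) * (c * c * c) := by
      have e : ∀ x, c * (a * x) = a * (c * x) := fun x => by rw [← mul_assoc, ← h.ac.eq, mul_assoc]
      simp only [mul_assoc]
      rw [e, e, e]
    rw [this, h.sl.aa, h.sl'.aa, one_mul, map_one]
  have r1 : a * b * (c * d) * (a * c) = a * c * (b * a * (d * c)) := by
    calc a * b * (c * d) * (a * c) = a * b * ((c * d) * a) * c := by simp only [mul_assoc]
      _ = a * b * (a * (c * d)) * c := by rw [h.aI'.eq]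
      _ = (a * b * a) * (c * d * c) := by simp only [mul_assoc]
      _ = (a * (b * a)) * (c * (d * c)) := by rw [h.sl.ak, h.sl'.ak]
      _ = a * ((b * a) * c) * (d * c) := by simp only [mul_assoc]
      _ = a * (c * (b * a)) * (d * c) := by rw [h.cK.eq]
      _ = a * c * (b * a * (d * c)) := by simp only [mul_assoc]
  have r2 : a⁻¹ * b * a⁻¹ * (c⁻¹ * d * c⁻¹) * (a * c) = a * c * (a * b * (c * d)) := by
    calc a⁻¹ * b * a⁻¹ * (c⁻¹ * d * c⁻¹) * (a * c) = a⁻¹ * b * a⁻¹ * ((c⁻¹ * d * c⁻¹) * a) * c := by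
          simp only [mul_assoc]
      _ = a⁻¹ * b * a⁻¹ * (a * (c⁻¹ * d * c⁻¹)) * c := by rw [h.aJ'.eq]
      _ = (a⁻¹ * b * a⁻¹ * a) * (c⁻¹ * d * c⁻¹ * c) := by simp only [mul_assoc]
      _ = (a * (a * b)) * (c * (c * d)) := by rw [h.sl.ai', h.sl'.ai']
      _ = a * ((a * b) * c) * (c * d) := by simp only [mul_assoc]
      _ = a * (c * (a * b)) * (c * d) := by rw [h.cI.eq]
      _ = a * c * (a * b * (c * d)) := by simp only [mul_assoc]
  have hU : ∀ v ∈ U ρ a b c d, ρ (a * c) v ∈ U ρ a b c d := by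
    intro v hv
    obtain ⟨h4, h5⟩ := mem_U.1 hv
    rw [mem_U, ← rho_mul, ← rho_mul, r1, r2, rho_mul (a * c) (b * a * (d * c)), rho_mul (a * c) (a * b * (c * d)), h4,
      ← h.r12, rho_mul (a * b * (c * d)), h5, h4]
    exact ⟨rfl, rfl⟩
  have hs : σ * (a * c) = (a * c) * σ := by rw [← mul_inv_eq_iff_eq_mul, h.sac]
  have hE : ∀ e, ∀ v ∈ E ρ σ e, ρ (a * c) v ∈ E ρ σ e := by
    intro e v hv
    rw [mem_E] at hv ⊢
    rw [← rho_mul, hs, rho_mul, hv, map_smul]
  have hfix : ∀ v ∈ U ρ a b c d, ρ (a * c) v = v := by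
    intro v hv
    have hσU : ∀ v ∈ U ρ a b c d, ρ σ v ∈ U ρ a b c d := by
      intro v hv
      obtain ⟨h4, h5⟩ := mem_U.1 hv
      rw [mem_U, ← rho_mul, ← rho_mul, h.u1.comm, h.s2, rho_mul σ (a * b * (c * d)), rho_mul σ, h4, h5]
      exact ⟨rfl, rfl⟩
    have hσσ : ρ σ (ρ σ v) = v := by rw [← rho_mul, h.u1.yy, map_one]; rfl
    have p1 : ρ (a * c) (v + ρ σ v) = v + ρ σ v := by
      apply fix_of_line h3 (L := U ρ a b c d ⊓ E ρ σ 1) (by omega) (fun w hw => ⟨hU w hw.1, hE 1 w hw.2⟩) hG3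
      refine ⟨Submodule.add_mem _ hv (hσU v hv), ?_⟩
      show _ ∈ E ρ σ 1
      rw [mem_E, map_add, hσσ, one_smul, add_comm]
    have p2 : ρ (a * c) (v - ρ σ v) = v - ρ σ v := by
      apply fix_of_line h3 (L := U ρ a b c d ⊓ E ρ σ (-1)) (by omega) (fun w hw => ⟨hU w hw.1, hE (-1) w hw.2⟩) hG3
      refine ⟨Submodule.sub_mem _ hv (hσU v hv), ?_⟩
      show _ ∈ E ρ σ (-1)
      rw [mem_E, map_sub, hσσ, neg_one_smul, neg_sub]
    have p3 : ρ (a * c) (v + ρ σ v) + ρ (a * c) (v - ρ σ v) = (v + ρ σ v) + (v - ρ σ v) := by rw [p1, p2]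
    rw [← map_add, add_add_sub_cancel, ← two_smul F v, map_smul] at p3
    exact smul_right_injective V h2 p3
  have hZ : Z ρ a b * Z ρ c d = 1 := by
    apply ext_U h hz h2
    · exact ((Z_i h.sl hz).mul_left (Z'_i h)).eq
    · exact ((Z_j h.sl hz).mul_left (Z'_j h)).eq
    · intro v hv
      have h4 : Z ρ a b * Z ρ c d = Qb ρ a b * Qb ρ c d * ρ (a * c) := by
        have h5 : Commute (ρ a) (Qb ρ c d) := comm_Qb (comm_S h.ac h.ad)
        rw [Z, Z, map_mul, mul_assoc, ← mul_assoc (ρ a), h5.eq]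
        simp only [mul_assoc]
      rw [h4, Module.End.mul_apply, hfix v hv, Module.End.mul_apply, QbQb_onU h hz h2 hv]
  calc ρ (a * c) = (Q ρ a b * Z ρ a b) * (Q ρ c d * Z ρ c d) := by rw [map_mul, QZ h.sl hz h2, QZ h.sl' hz h2]
    _ = Q ρ a b * (Z ρ a b * Q ρ c d) * Z ρ c d := by simp only [mul_assoc]
    _ = Q ρ a b * (Q ρ c d * Z ρ a b) * Z ρ c d := by rw [(comm_Q (Z_S' h)).eq]
    _ = Q ρ a b * Q ρ c d * (Z ρ a b * Z ρ c d) := by simp only [mul_assoc]
    _ = Q ρ a b * Q ρ c d := by rw [hZ, mul_one]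

theorem S_inv (h : Sl z c d) (hz : ρ z = -1) : S ρ c⁻¹ d⁻¹ = -S ρ c d := by
  have e1 : c⁻¹ * d⁻¹ = z * (d * c) := by
    rw [← mul_inv_rev, inv_eq_iff_mul_eq_one, ← mul_assoc, ← h.zc, mul_assoc, h.baba, h.zz]
  have e2 : c⁻¹⁻¹ * d⁻¹ * c⁻¹⁻¹ = z * (c⁻¹ * d * c⁻¹) := by
    have : c⁻¹⁻¹ * d⁻¹ * c⁻¹⁻¹ = (c⁻¹ * d * c⁻¹)⁻¹ := by group
    rw [this, inv_eq_iff_mul_eq_one, ← mul_assoc, ← h.zc, mul_assoc, h.jj, h.zz]
  have e3 : d⁻¹ * c⁻¹ = z * (c * d) := by
    rw [← mul_inv_rev, inv_eq_iff_mul_eq_one, ← mul_assoc, ← h.zc, mul_assoc, h.ab, h.zz]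
  rw [S_def, S_def, e1, e2, e3, map_mul ρ z, map_mul ρ z, map_mul ρ z, hz]
  simp only [neg_mul, one_mul]
  abel

theorem QQQ (h : Sl z a b) (hz : ρ z = -1) (h2 : (2 : F) ≠ 0) : Q ρ a b * Q ρ a b * Q ρ a b = 1 := by
  have h4 := QQ h hz h2
  have h6 : Qb ρ a b = Q ρ a b * Q ρ a b := by
    rw [Qb_eq h hz h2, ← sub_eq_zero, ← neg_eq_zero, ← h4]; abel
  rw [← h6, Qb_mul_Q h hz h2]

theorem final3 [FiniteDimensional F V] (h : Cfg z a b c d σ) (h' : Cfg z a b c⁻¹ d⁻¹ σ') (hz : ρ z = -1)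
    (h2 : (2 : F) ≠ 0) (h3 : (3 : F) = 0) (hn : finrank F V = 8) : ρ a = Q ρ a b := by
  have k1 := key3 h hz h2 h3 hn
  have k2 := key3 h' hz h2 h3 hn
  have k3 : Q ρ c⁻¹ d⁻¹ = Qb ρ c d := by rw [Q, Qb, S_inv h.sl' hz, sub_neg_eq_add]
  rw [k3] at k2
  have k4 : ρ a * ρ a = Q ρ a b * Q ρ a b := by
    calc ρ a * ρ a = ρ (a * c) * ρ (a * c⁻¹) := by
          rw [← map_mul, ← map_mul]
          congr 1
          calc a * a = a * (a * c) * c⁻¹ := by rw [← mul_assoc, mul_inv_cancel_right]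
            _ = a * (c * a) * c⁻¹ := by rw [h.ac.eq]
            _ = a * c * (a * c⁻¹) := by simp only [mul_assoc]
      _ = Q ρ a b * (Q ρ c d * Q ρ a b) * Qb ρ c d := by rw [k1, k2]; simp only [mul_assoc]
      _ = Q ρ a b * Q ρ a b * (Q ρ c d * Qb ρ c d) := by rw [← (QQ_comm h).eq]; simp only [mul_assoc]
      _ = Q ρ a b * Q ρ a b := by rw [Q_mul_Qb h.sl' hz h2, mul_one]
  calc ρ a = ρ a * ρ a * (ρ a * ρ a) := by
        rw [← map_mul, ← map_mul]
        congr 1
        rw [← mul_assoc, h.sl.aa, one_mul]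
    _ = Q ρ a b * Q ρ a b * Q ρ a b * Q ρ a b := by rw [k4]; simp only [mul_assoc]
    _ = Q ρ a b := by rw [QQQ h.sl hz h2, one_mul]

end Cfsg.Agent.H825.Spin
end

-- part: H825/SpinTrace
section
/-!
# The lift of a 3-cycle acts with `y² + y + 1 = 0`, III : characteristic `≠ 3` (helper825)
-/

set_option autoImplicit false
set_option linter.unusedSectionVars false

namespace Cfsg.Agent.H825.Spin

open Module

universe u v w

variable {F : Type u} [Field F] {V : Type v} [AddCommGroup V] [Module F V]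
variable {P : Type w} [Group P] {ρ : P →* Module.End F V} {z a b c d σ σ' : P}

theorem tr_conj (u x : P) : LinearMap.trace F V (ρ (u * x * u⁻¹)) = LinearMap.trace F V (ρ x) := by
  rw [map_mul ρ, map_mul ρ, LinearMap.trace_mul_comm, ← mul_assoc, ← map_mul ρ, inv_mul_cancel, map_one, one_mul]

theorem tr_zero (hz : ρ z = -1) (h2 : (2 : F) ≠ 0) {X : Module.End F V} {u y : P} (hX : Commute X (ρ u))
    (hy : u * y * u⁻¹ = z * y) : LinearMap.trace F V (X * ρ y) = 0 := by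
  have h1 : LinearMap.trace F V (X * ρ y) = -LinearMap.trace F V (X * ρ y) := by
    calc LinearMap.trace F V (X * ρ y) = LinearMap.trace F V ((X * ρ y) * (ρ u⁻¹ * ρ u)) := by
          rw [← map_mul ρ, inv_mul_cancel, map_one, mul_one]
      _ = LinearMap.trace F V (ρ u * (X * ρ y * ρ u⁻¹)) := by rw [← mul_assoc, LinearMap.trace_mul_comm]
      _ = LinearMap.trace F V (X * ρ (u * y * u⁻¹)) := by
          rw [map_mul ρ, map_mul ρ, ← mul_assoc, ← mul_assoc, ← hX.eq]; simp only [mul_assoc]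
      _ = -LinearMap.trace F V (X * ρ y) := by rw [hy, map_mul ρ, hz, neg_one_mul, mul_neg, map_neg]
  have h3 : (2 : F) * LinearMap.trace F V (X * ρ y) = 0 := by linear_combination h1
  exact (mul_eq_zero.1 h3).resolve_left h2

theorem Sl.iji (h : Sl z a b) : a * b * (a⁻¹ * b * a⁻¹) * (a * b)⁻¹ = z * (a⁻¹ * b * a⁻¹) := by
  rw [mul_inv_eq_iff_eq_mul, mul_assoc z, h.ji, ← mul_assoc z z, h.zz, one_mul, h.ij]

theorem Sl.jij (h : Sl z a b) : a⁻¹ * b * a⁻¹ * (a * b) * (a⁻¹ * b * a⁻¹)⁻¹ = z * (a * b) := by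
  rw [mul_inv_eq_iff_eq_mul, mul_assoc z, h.ij, h.ji]

theorem Sl.iki (h : Sl z a b) : a * b * (b * a) * (a * b)⁻¹ = z * (b * a) := by
  rw [← h.ij]
  have h1 : a * b * (a * b * (a⁻¹ * b * a⁻¹)) * (a * b)⁻¹ = a * b * (a * b * (a⁻¹ * b * a⁻¹) * (a * b)⁻¹) := by group
  rw [h1, h.iji, ← mul_assoc, ← h.zc, mul_assoc]

theorem tr_S (h : Sl z a b) (hz : ρ z = -1) (h2 : (2 : F) ≠ 0) {X : Module.End F V} (hI : Commute X (ρ (a * b)))
    (hJ : Commute X (ρ (a⁻¹ * b * a⁻¹))) : LinearMap.trace F V (X * S ρ a b) = 0 := by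
  rw [S_def, mul_add, mul_add, map_add, map_add, tr_zero hz h2 hJ h.jij, tr_zero hz h2 hI h.iji,
    tr_zero hz h2 hI h.iki, add_zero, add_zero]

theorem tr_Q (h : Sl z a b) (hz : ρ z = -1) (h2 : (2 : F) ≠ 0) {X : Module.End F V} (hI : Commute X (ρ (a * b)))
    (hJ : Commute X (ρ (a⁻¹ * b * a⁻¹))) : LinearMap.trace F V (X * Q ρ a b) = -(2 : F)⁻¹ * LinearMap.trace F V X := by
  rw [Q, mul_smul_comm, map_smul, mul_sub, map_sub, tr_S h hz h2 hI hJ, mul_neg, mul_one, map_neg, sub_zero,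
    smul_eq_mul, mul_neg, neg_mul]

theorem tr_Qb (h : Sl z a b) (hz : ρ z = -1) (h2 : (2 : F) ≠ 0) {X : Module.End F V} (hI : Commute X (ρ (a * b)))
    (hJ : Commute X (ρ (a⁻¹ * b * a⁻¹))) : LinearMap.trace F V (X * Qb ρ a b) = -(2 : F)⁻¹ * LinearMap.trace F V X := by
  rw [Qb, mul_smul_comm, map_smul, mul_add, map_add, tr_S h hz h2 hI hJ, mul_neg, mul_one, map_neg, add_zero,
    smul_eq_mul, mul_neg, neg_mul]

theorem a_inv (h : Sl z a b) (hz : ρ z = -1) (h2 : (2 : F) ≠ 0) : ρ a⁻¹ = Z ρ a b * Z ρ a b * Qb ρ a b := by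
  have h1 : ρ a⁻¹ * (Q ρ a b * Z ρ a b) = 1 := by rw [QZ h hz h2, ← map_mul, inv_mul_cancel, map_one]
  calc ρ a⁻¹ = ρ a⁻¹ * (Q ρ a b * (Z ρ a b * (Z ρ a b * Z ρ a b)) * Qb ρ a b) := by
        rw [← mul_assoc (Z ρ a b) (Z ρ a b), ZZZ h hz h2, mul_one, Q_mul_Qb h hz h2, mul_one]
    _ = (ρ a⁻¹ * (Q ρ a b * Z ρ a b)) * (Z ρ a b * Z ρ a b * Qb ρ a b) := by simp only [mul_assoc]
    _ = Z ρ a b * Z ρ a b * Qb ρ a b := by rw [h1, one_mul]

/-- operators commuting with both quaternion groups -/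
structure Good (ρ : P →* Module.End F V) (a b c d : P) (X : Module.End F V) : Prop where
  i : Commute X (ρ (a * b))
  j : Commute X (ρ (a⁻¹ * b * a⁻¹))
  i' : Commute X (ρ (c * d))
  j' : Commute X (ρ (c⁻¹ * d * c⁻¹))

theorem Good.mul {X Y : Module.End F V} (hX : Good ρ a b c d X) (hY : Good ρ a b c d Y) : Good ρ a b c d (X * Y) :=
  ⟨hX.i.mul_left hY.i, hX.j.mul_left hY.j, hX.i'.mul_left hY.i', hX.j'.mul_left hY.j'⟩

theorem good_Z (h : Cfg z a b c d σ) (hz : ρ z = -1) : Good ρ a b c d (Z ρ a b) :=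
  ⟨Z_i h.sl hz, Z_j h.sl hz, Z_i' h, Z_j' h⟩

theorem good_Z' (h : Cfg z a b c d σ) (hz : ρ z = -1) : Good ρ a b c d (Z ρ c d) :=
  ⟨Z'_i h, Z'_j h, Z_i h.sl' hz, Z_j h.sl' hz⟩

theorem Good.r {X : Module.End F V} (hX : Good ρ a b c d X) : Commute X (ρ (a * b * (c * d))) := by
  rw [map_mul]; exact hX.i.mul_right hX.i'

theorem Good.s {X : Module.End F V} (hX : Good ρ a b c d X) : Commute X (ρ (a⁻¹ * b * a⁻¹ * (c⁻¹ * d * c⁻¹))) := by
  rw [map_mul]; exact hX.j.mul_right hX.j'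

theorem Good.mem {X : Module.End F V} (hX : Good ρ a b c d X) : ∀ v ∈ U ρ a b c d, X v ∈ U ρ a b c d := by
  intro v hv
  obtain ⟨h1, h2⟩ := mem_U.1 hv
  rw [mem_U]
  constructor
  · rw [← Module.End.mul_apply, ← hX.r.eq, Module.End.mul_apply, h1]
  · rw [← Module.End.mul_apply, ← hX.s.eq, Module.End.mul_apply, h2]

theorem tr_U [FiniteDimensional F V] (h : Cfg z a b c d σ) (hz : ρ z = -1) (h2 : (2 : F) ≠ 0) {X : Module.End F V}
    (hX : Good ρ a b c d X) :
    LinearMap.trace F V X = 4 * LinearMap.trace F (U ρ a b c d) (X.restrict hX.mem) := by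
  set r := a * b * (c * d) with hr
  set s := a⁻¹ * b * a⁻¹ * (c⁻¹ * d * c⁻¹) with hs
  let e : Module.End F V := 1 + ρ r + ρ s + ρ (r * s)
  have he : ∀ v, e v = v + ρ r v + ρ s v + ρ (r * s) v := fun v => rfl
  have rr : ∀ v, ρ r (ρ r v) = v := fun v => by rw [← rho_mul, h.r11, map_one]; rfl
  have ss : ∀ v, ρ s (ρ s v) = v := fun v => by rw [← rho_mul, h.r22, map_one]; rfl
  have rs : ∀ v, ρ r (ρ s v) = ρ s (ρ r v) := fun v => by rw [← rho_mul, ← rho_mul, h.uni.comm]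
  have heU : ∀ v, e v ∈ U ρ a b c d := by
    intro v
    rw [mem_U, he, rho_mul r s, map_add, map_add, map_add, map_add, map_add, map_add]
    constructor
    · change ρ r v + ρ r (ρ r v) + ρ r (ρ s v) + ρ r (ρ r (ρ s v)) = v + ρ r v + ρ s v + ρ r (ρ s v)
      rw [rr, rr]
      abel
    · change ρ s v + ρ s (ρ r v) + ρ s (ρ s v) + ρ s (ρ r (ρ s v)) = v + ρ r v + ρ s v + ρ r (ρ s v)
      rw [ss, ← rs, ← rs, ss]
      abel
  have he1 : ∀ v ∈ U ρ a b c d, e v = (4 : F) • v := by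
    intro v hv
    obtain ⟨h3, h4⟩ := mem_U.1 hv
    rw [he, rho_mul r s, h4, h3]
    have : (4 : F) = 1 + 1 + 1 + 1 := by norm_num
    rw [this, add_smul, add_smul, add_smul, one_smul]
  have t1 : LinearMap.trace F V (X * e) = LinearMap.trace F V X := by
    have hexp : X * e = X + X * ρ r + X * ρ s + X * ρ (r * s) := by
      change X * (1 + ρ r + ρ s + ρ (r * s)) = _
      rw [mul_add, mul_add, mul_add, mul_one]
    have hir : a * b * r * (a * b)⁻¹ = r := by
      have h1 : Commute (a * b) (a * b * (c * d)) := (Commute.refl _).mul_right h.II'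
      rw [hr, h1.eq, mul_inv_cancel_right]
    have his : a * b * s * (a * b)⁻¹ = z * s := by
      have h1 : a * b * (a⁻¹ * b * a⁻¹ * (c⁻¹ * d * c⁻¹)) * (a * b)⁻¹ =
          (a * b * (a⁻¹ * b * a⁻¹) * (a * b)⁻¹) * ((a * b) * (c⁻¹ * d * c⁻¹) * (a * b)⁻¹) := by group
      rw [hs, h1, h.iji, h.IJ'.eq, mul_inv_cancel_right, mul_assoc z]
    have hjr : a⁻¹ * b * a⁻¹ * r * (a⁻¹ * b * a⁻¹)⁻¹ = z * r := by
      have h1 : a⁻¹ * b * a⁻¹ * (a * b * (c * d)) * (a⁻¹ * b * a⁻¹)⁻¹ =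
          (a⁻¹ * b * a⁻¹ * (a * b) * (a⁻¹ * b * a⁻¹)⁻¹) *
            ((a⁻¹ * b * a⁻¹) * (c * d) * (a⁻¹ * b * a⁻¹)⁻¹) := by group
      rw [hr, h1, h.jij, h.JI'.eq, mul_inv_cancel_right, mul_assoc z]
    have hirs : a * b * (r * s) * (a * b)⁻¹ = z * (r * s) := by
      have h1 : a * b * (r * s) * (a * b)⁻¹ = (a * b * r * (a * b)⁻¹) * (a * b * s * (a * b)⁻¹) := by group
      rw [h1, hir, his, ← mul_assoc, ← h.sl.zc, mul_assoc]
    rw [hexp, map_add, map_add, map_add, tr_zero hz h2 hX.j hjr, tr_zero hz h2 hX.i his, tr_zero hz h2 hX.i hirs,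
      add_zero, add_zero, add_zero]
  let g : V →ₗ[F] U ρ a b c d := (X * e).codRestrict (U ρ a b c d) (fun v => hX.mem _ (heU v))
  have t2 : LinearMap.trace F V ((U ρ a b c d).subtype ∘ₗ g) = LinearMap.trace F _ (g ∘ₗ (U ρ a b c d).subtype) :=
    LinearMap.trace_comp_comm' _ _
  have t3 : (U ρ a b c d).subtype ∘ₗ g = X * e := rfl
  have t4 : g ∘ₗ (U ρ a b c d).subtype = (4 : F) • X.restrict hX.mem := by
    ext v
    change X (e v) = (4 : F) • X v
    rw [he1 v v.2, map_smul]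
  rw [t3, t1, t4, map_smul, smul_eq_mul] at t2
  exact t2

theorem Z'_k (h : Cfg z a b c d σ) : Commute (Z ρ c d) (ρ (b * a)) := by
  have h1 : Commute (ρ (b * a)) (S ρ c d) := comm_S h.cK.symm h.dK.symm
  exact ((comm_Qb h1).mul_right (h.cK.symm.map ρ)).symm

theorem Z'_S (h : Cfg z a b c d σ) : Commute (Z ρ c d) (S ρ a b) := by
  rw [S_def]
  exact ((Z'_i h).add_right (Z'_j h)).add_right (Z'_k h)

theorem finalne [FiniteDimensional F V] (h : Cfg z a b c d σ) (hz : ρ z = -1)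
    (h2 : (2 : F) ≠ 0) (h3 : (3 : F) ≠ 0) (hn : finrank F V = 8) : ρ a = Q ρ a b := by
  obtain ⟨-, -, d3⟩ := hdim (ρ := ρ) h hz h2
  have hU : finrank F (U ρ a b c d) = 2 := by omega
  have h4 : (4 : F) ≠ 0 := by
    have : (4 : F) = 2 * 2 := by norm_num
    rw [this]; exact mul_ne_zero h2 h2
  have hh : -(2 : F)⁻¹ ≠ 0 := neg_ne_zero.2 (inv_ne_zero h2)
  have gZ := good_Z (ρ := ρ) h hz
  have gZ' := good_Z' (ρ := ρ) h hz
  -- traces on `V`
  have ta : LinearMap.trace F V (ρ a) = -(2 : F)⁻¹ * LinearMap.trace F V (Z ρ a b) := by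
    rw [← QZ h.sl hz h2, (QZ_comm h.sl hz).eq, tr_Q h.sl hz h2 gZ.i gZ.j]
  have tc : LinearMap.trace F V (ρ c) = -(2 : F)⁻¹ * LinearMap.trace F V (Z ρ c d) := by
    rw [← QZ h.sl' hz h2, (QZ_comm h.sl' hz).eq, tr_Q h.sl' hz h2 gZ'.i' gZ'.j']
  have ta' : LinearMap.trace F V (ρ a⁻¹) = -(2 : F)⁻¹ * LinearMap.trace F V (Z ρ a b * Z ρ a b) := by
    rw [a_inv h.sl hz h2, tr_Qb h.sl hz h2 (gZ.mul gZ).i (gZ.mul gZ).j]
  have tc' : LinearMap.trace F V (ρ c⁻¹) = -(2 : F)⁻¹ * LinearMap.trace F V (Z ρ c d * Z ρ c d) := by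
    rw [a_inv h.sl' hz h2, tr_Qb h.sl' hz h2 (gZ'.mul gZ').i' (gZ'.mul gZ').j']
  have QI' : Commute (Q ρ a b) (ρ (c * d)) := (comm_Q (comm_S h.aI'.symm h.bI'.symm)).symm
  have QJ' : Commute (Q ρ a b) (ρ (c⁻¹ * d * c⁻¹)) := (comm_Q (comm_S h.aJ'.symm h.bJ'.symm)).symm
  have QbI' : Commute (Qb ρ a b) (ρ (c * d)) := (comm_Qb (comm_S h.aI'.symm h.bI'.symm)).symm
  have QbJ' : Commute (Qb ρ a b) (ρ (c⁻¹ * d * c⁻¹)) := (comm_Qb (comm_S h.aJ'.symm h.bJ'.symm)).symm
  have ZQ' : Commute (Z ρ c d) (Q ρ a b) := comm_Q (Z'_S h)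
  have ZQb' : Commute (Z ρ c d) (Qb ρ a b) := comm_Qb (Z'_S h)
  have hA : ρ a = Z ρ a b * Q ρ a b := by rw [← (QZ_comm h.sl hz).eq, QZ h.sl hz h2]
  have hCC : ρ c = Z ρ c d * Q ρ c d := by rw [← (QZ_comm h.sl' hz).eq, QZ h.sl' hz h2]
  have tac : LinearMap.trace F V (ρ (a * c)) =
      -(2 : F)⁻¹ * (-(2 : F)⁻¹ * LinearMap.trace F V (Z ρ a b * Z ρ c d)) := by
    have e1 : ρ (a * c) = (Z ρ a b * Z ρ c d * Q ρ a b) * Q ρ c d := by
      rw [map_mul ρ, hA, hCC, mul_assoc (Z ρ a b) (Z ρ c d), ZQ'.eq]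
      simp only [mul_assoc]
    have gg := gZ.mul gZ'
    rw [e1, tr_Q h.sl' hz h2 (gg.i'.mul_left QI') (gg.j'.mul_left QJ'), tr_Q h.sl hz h2 gg.i gg.j]
  have tac' : LinearMap.trace F V (ρ (a⁻¹ * c)) =
      -(2 : F)⁻¹ * (-(2 : F)⁻¹ * LinearMap.trace F V (Z ρ a b * Z ρ a b * Z ρ c d)) := by
    have e1 : ρ (a⁻¹ * c) = (Z ρ a b * Z ρ a b * Z ρ c d * Qb ρ a b) * Q ρ c d := by
      rw [map_mul ρ, a_inv h.sl hz h2, hCC, mul_assoc (Z ρ a b * Z ρ a b) (Z ρ c d), ZQb'.eq]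
      simp only [mul_assoc]
    have gg := (gZ.mul gZ).mul gZ'
    rw [e1, tr_Q h.sl' hz h2 (gg.i'.mul_left QbI') (gg.j'.mul_left QbJ'), tr_Qb h.sl hz h2 gg.i gg.j]
  obtain ⟨u1, hu1⟩ := h.e1
  obtain ⟨u2, hu2, hu2'⟩ := h.e2
  obtain ⟨u3, hu3⟩ := h.e3
  have q1 : LinearMap.trace F V (Z ρ a b) = LinearMap.trace F V (Z ρ a b * Z ρ a b) := by
    apply mul_left_cancel₀ hh
    rw [← ta, ← ta', ← hu1, tr_conj]
  have q2 : LinearMap.trace F V (Z ρ c d) = LinearMap.trace F V (Z ρ c d * Z ρ c d) := by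
    apply mul_left_cancel₀ hh
    rw [← tc, ← tc', ← hu3, tr_conj]
  have q3 : LinearMap.trace F V (Z ρ a b) = LinearMap.trace F V (Z ρ c d) := by
    apply mul_left_cancel₀ hh
    rw [← ta, ← tc, ← h.sa, tr_conj]
  have q4 : LinearMap.trace F V (Z ρ a b * Z ρ c d) = LinearMap.trace F V (Z ρ a b * Z ρ a b * Z ρ c d) := by
    apply mul_left_cancel₀ hh
    apply mul_left_cancel₀ hh
    rw [← tac, ← tac']
    have h5 : u2 * (a * c) * u2⁻¹ = a⁻¹ * c := by
      have : u2 * (a * c) * u2⁻¹ = (u2 * a * u2⁻¹) * (u2 * c * u2⁻¹) := by group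
      rw [this, hu2, hu2']
    rw [← h5, tr_conj]
  -- on `U`
  have hM := end_two (F := F) (U := U ρ a b c d) hU h2 h3 (M := (Z ρ a b).restrict gZ.mem)
    (N := (Z ρ c d).restrict gZ'.mem) ?_ ?_ ?_ ?_ ?_ ?_ ?_
  · have hZ1 : Z ρ a b = 1 := by
      apply ext_U h hz h2 gZ.i.eq gZ.j.eq
      intro v hv
      have := LinearMap.congr_fun hM ⟨v, hv⟩
      exact congrArg Subtype.val this
    have := QZ h.sl hz h2
    rw [hZ1, mul_one] at this
    exact this.symm
  · ext v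
    change (Z ρ a b * Z ρ a b * Z ρ a b) v = v
    rw [ZZZ h.sl hz h2]; rfl
  · ext v
    change (Z ρ c d * Z ρ c d * Z ρ c d) v = v
    rw [ZZZ h.sl' hz h2]; rfl
  · ext v
    change (Z ρ a b * Z ρ c d) v = (Z ρ c d * Z ρ a b) v
    rw [(ZZ_comm h).eq]
  · apply mul_left_cancel₀ h4
    rw [← tr_U h hz h2 gZ, q1, tr_U h hz h2 (gZ.mul gZ)]; rfl
  · apply mul_left_cancel₀ h4
    rw [← tr_U h hz h2 gZ', q2, tr_U h hz h2 (gZ'.mul gZ')]; rfl
  · apply mul_left_cancel₀ h4
    rw [← tr_U h hz h2 gZ, q3, tr_U h hz h2 gZ']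
  · apply mul_left_cancel₀ h4
    have e1 := tr_U h hz h2 (gZ.mul gZ')
    have e2 := tr_U h hz h2 ((gZ.mul gZ).mul gZ')
    have e3 : (Z ρ a b * Z ρ c d).restrict (gZ.mul gZ').mem =
        (Z ρ a b).restrict gZ.mem * (Z ρ c d).restrict gZ'.mem := rfl
    have e4 : (Z ρ a b * Z ρ a b * Z ρ c d).restrict ((gZ.mul gZ).mul gZ').mem =
        (Z ρ a b).restrict gZ.mem * (Z ρ a b).restrict gZ.mem * (Z ρ c d).restrict gZ'.mem := rfl
    rw [← e3, ← e4, ← e1, ← e2, q4]

/-- **the lift of a 3-cycle is `-(1 + i + j + k)/2`** -/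
theorem final [FiniteDimensional F V] (h : Cfg z a b c d σ) (h' : Cfg z a b c⁻¹ d⁻¹ σ') (hz : ρ z = -1)
    (h2 : (2 : F) ≠ 0) (hn : finrank F V = 8) : ρ a * ρ a + ρ a + 1 = 0 := by
  have h1 : ρ a = Q ρ a b := by
    by_cases h3 : (3 : F) = 0
    · exact final3 h h' hz h2 h3 hn
    · exact finalne h hz h2 h3 hn
  rw [h1]
  exact QQ h.sl hz h2

end Cfsg.Agent.H825.Spin
end

-- part: H825/SpinCov
section
/-!
# Double covers of alternating groups (helper825)
-/

set_option autoImplicit false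
set_option linter.unusedSectionVars false

namespace Cfsg.Agent.H825.Spin

open Module Equiv

universe u v w t

variable {P : Type w} [Group P] {α : Type v} [Fintype α] [DecidableEq α] {π : P →* Perm α} {z : P}

/-- `P` is a central extension of `Alt α` by `⟨z⟩` -/
structure Dc (π : P →* Perm α) (z : P) : Prop where
  zz : z * z = 1
  zc : ∀ x, z * x = x * z
  pz : π z = 1
  ker : ∀ x, π x = 1 → x = 1 ∨ x = z
  surj : ∀ c, Perm.sign c = 1 → ∃ x, π x = c

theorem Dc.eq_or (D : Dc π z) {x y : P} (h : π x = π y) : y = x ∨ y = z * x := by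
  rcases D.ker (y * x⁻¹) (by rw [map_mul, map_inv, ← h, mul_inv_cancel]) with h1 | h1
  · left; rwa [mul_inv_eq_one] at h1
  · right; rwa [mul_inv_eq_iff_eq_mul] at h1

theorem Dc.uniq (D : Dc π z) {x y : P} (hx : x * x * x = 1) (hy : y * y * y = 1) (h : π x = π y) : x = y := by
  rcases D.eq_or h with h1 | h1
  · exact h1.symm
  · have h2 : y * y * y = z * z * z * (x * x * x) := by
      rw [h1]
      have e : ∀ w, x * (z * w) = z * (x * w) := fun w => by rw [← mul_assoc, ← D.zc, mul_assoc]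
      simp only [mul_assoc]
      rw [e, e, e]
    rw [hx, hy, D.zz, one_mul, mul_one] at h2
    rw [h1, ← h2, one_mul]

theorem Dc.exists_lift (D : Dc π z) {c : Perm α} (hc : c * c * c = 1) (hs : Perm.sign c = 1) :
    ∃ x, π x = c ∧ x * x * x = 1 := by
  obtain ⟨x, hx⟩ := D.surj c hs
  rcases D.ker (x * x * x) (by rw [map_mul, map_mul, hx, hc]) with h | h
  · exact ⟨x, hx, h⟩
  · refine ⟨z * x, by rw [map_mul, D.pz, one_mul, hx], ?_⟩
    have e : ∀ w, x * (z * w) = z * (x * w) := fun w => by rw [← mul_assoc, ← D.zc, mul_assoc]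
    have h2 : z * x * (z * x) * (z * x) = z * z * z * (x * x * x) := by
      simp only [mul_assoc]
      rw [e, e, e]
    rw [h2, D.zz, one_mul, h, D.zz]

theorem Dc.conj (D : Dc π z) {x y : P} (g : P) (hx : x * x * x = 1) (hy : y * y * y = 1)
    (h : π g * π x * (π g)⁻¹ = π y) : g * x * g⁻¹ = y := by
  apply D.uniq _ hy
  · rw [map_mul, map_mul, map_inv, h]
  · have : g * x * g⁻¹ * (g * x * g⁻¹) * (g * x * g⁻¹) = g * (x * x * x) * g⁻¹ := by group
    rw [this, hx, mul_one, mul_inv_cancel]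

theorem Dc.commute (D : Dc π z) {x g : P} (hx : x * x * x = 1) (h : π g * π x = π x * π g) : Commute g x := by
  have h1 := D.conj (x := x) (y := x) g hx hx (by rw [h, mul_inv_cancel_right])
  exact mul_inv_eq_iff_eq_mul.1 h1

theorem inv_cube {x : P} (hx : x * x * x = 1) : x⁻¹ * x⁻¹ * x⁻¹ = 1 := by
  rw [← mul_inv_rev, ← mul_inv_rev, ← mul_assoc, hx, inv_one]

theorem Uni.conj {x y : P} (h : Uni z x y) (hz : ∀ x, z * x = x * z) (g : P) :
    Uni z (g * x * g⁻¹) (g * y * g⁻¹) := by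
  obtain ⟨u, h1, h2⟩ := h.ex
  obtain ⟨v, h3, h4⟩ := h.ey
  have zg : ∀ w, g * (z * w) * g⁻¹ = z * (g * w * g⁻¹) := fun w => by
    rw [← mul_assoc g z, ← hz]; simp only [mul_assoc]
  refine ⟨?_, ?_, ?_, ⟨g * u * g⁻¹, ?_, ?_⟩, ⟨g * v * g⁻¹, ?_, ?_⟩⟩
  · have : g * x * g⁻¹ * (g * x * g⁻¹) = g * (x * x) * g⁻¹ := by group
    rw [this, h.xx, mul_one, mul_inv_cancel]
  · have : g * y * g⁻¹ * (g * y * g⁻¹) = g * (y * y) * g⁻¹ := by group
    rw [this, h.yy, mul_one, mul_inv_cancel]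
  · have h5 : g * x * g⁻¹ * (g * y * g⁻¹) = g * (x * y) * g⁻¹ := by group
    have h6 : g * y * g⁻¹ * (g * x * g⁻¹) = g * (y * x) * g⁻¹ := by group
    rw [h5, h6, h.comm]
  · have : g * u * g⁻¹ * (g * x * g⁻¹) * (g * u * g⁻¹)⁻¹ = g * (u * x * u⁻¹) * g⁻¹ := by group
    rw [this, h1]
  · have : g * u * g⁻¹ * (g * y * g⁻¹) * (g * u * g⁻¹)⁻¹ = g * (u * y * u⁻¹) * g⁻¹ := by group
    rw [this, h2, zg]
  · have : g * v * g⁻¹ * (g * x * g⁻¹) * (g * v * g⁻¹)⁻¹ = g * (v * x * v⁻¹) * g⁻¹ := by group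
    rw [this, h3, zg]
  · have : g * v * g⁻¹ * (g * y * g⁻¹) * (g * v * g⁻¹)⁻¹ = g * (v * y * v⁻¹) * g⁻¹ := by group
    rw [this, h4]

theorem Uni.symm {x y : P} (h : Uni z x y) : Uni z y x :=
  ⟨h.yy, h.xx, h.comm.symm, by obtain ⟨v, h1, h2⟩ := h.ey; exact ⟨v, h2, h1⟩,
    by obtain ⟨v, h1, h2⟩ := h.ex; exact ⟨v, h2, h1⟩⟩

theorem Uni.neg {x y : P} (h : Uni z x y) (zz : z * z = 1) (hz : ∀ x, z * x = x * z) : Uni z (z * x) y := by
  obtain ⟨u, h1, h2⟩ := h.ex
  obtain ⟨v, h3, h4⟩ := h.ey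
  have zg : ∀ g w : P, g * (z * w) * g⁻¹ = z * (g * w * g⁻¹) := fun g w => by
    rw [← mul_assoc g z, ← hz]; simp only [mul_assoc]
  refine ⟨?_, h.yy, ?_, ⟨u, ?_, h2⟩, ⟨v, ?_, h4⟩⟩
  · rw [mul_assoc, ← mul_assoc x, ← hz, mul_assoc z x, h.xx, mul_one, zz]
  · rw [mul_assoc, h.comm, ← mul_assoc, hz, mul_assoc]
  · rw [zg, h1]
  · rw [zg, h3]

theorem Uni.of_eq_or {x y x' y' : P} (h : Uni z x y) (zz : z * z = 1) (hz : ∀ x, z * x = x * z)
    (hx : x' = x ∨ x' = z * x) (hy : y' = y ∨ y' = z * y) : Uni z x' y' := by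
  have h1 : Uni z x' y := by
    rcases hx with rfl | rfl
    · exact h
    · exact h.neg zz hz
  rcases hy with rfl | rfl
  · exact h1
  · exact (h1.symm.neg zz hz).symm

/-- the permutations `(012)`, `(013)`, `(456)`, `(457)` -/
def c0 : Perm (Fin 8) := swap (0 : Fin 8) 1 * swap (1 : Fin 8) 2
def d0 : Perm (Fin 8) := swap (0 : Fin 8) 1 * swap (1 : Fin 8) 3
def c4 : Perm (Fin 8) := swap (4 : Fin 8) 5 * swap (5 : Fin 8) 6
def d4 : Perm (Fin 8) := swap (4 : Fin 8) 5 * swap (5 : Fin 8) 7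
def s0 : Perm (Fin 8) := swap (0 : Fin 8) 4 * swap (1 : Fin 8) 5 * swap (2 : Fin 8) 6 * swap (3 : Fin 8) 7
def g2 : Perm (Fin 8) := swap (1 : Fin 8) 4 * swap (3 : Fin 8) 6
def g3 : Perm (Fin 8) := swap (1 : Fin 8) 5 * swap (3 : Fin 8) 7
def g4 : Perm (Fin 8) := swap (0 : Fin 8) 1 * swap (3 : Fin 8) 4
def g5 : Perm (Fin 8) := swap (0 : Fin 8) 1 * swap (3 : Fin 8) 7

theorem p1 : s0 * c0 * s0⁻¹ = c4 := by decide
theorem p2 : s0 * d0 * s0⁻¹ = d4 := by decide
theorem p3 : s0 * c4 * s0⁻¹ = c0 := by decide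
theorem p4 : s0 * d4 * s0⁻¹ = d0 := by decide
theorem p5 : c0 * c0 * c0 = 1 := by decide
theorem p6 : c0 * c4 = c4 * c0 := by decide
theorem p7 : c0 * d4 = d4 * c0 := by decide
theorem p8 : d0 * c4 = c4 * d0 := by decide
theorem p9 : d0 * d4 = d4 * d0 := by decide
theorem p10 : g4 * c0 * g4⁻¹ = c0⁻¹ := by decide
theorem p11 : g5 * c0 * g5⁻¹ = c0⁻¹ := by decide
theorem p12 : g5 * c4 * g5⁻¹ = c4 := by decide
theorem p13 : g2 * (c0 * d0 * (c4 * d4)) * g2⁻¹ = c0 * d0 * (c4 * d4) := by decide +kernel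
theorem p14 : g2 * (c0⁻¹ * d0 * c0⁻¹ * (c4⁻¹ * d4 * c4⁻¹)) * g2⁻¹ = s0 := by decide +kernel
theorem p15 : g3 * (c0 * d0 * (c4 * d4)) * g3⁻¹ = c0 * d0 * (c4 * d4) := by decide +kernel
theorem p16 : g3 * (c0⁻¹ * d0 * c0⁻¹ * (c4⁻¹ * d4 * c4⁻¹)) * g3⁻¹ = c0⁻¹ * d0 * c0⁻¹ * (c4⁻¹ * d4 * c4⁻¹) * s0 := by
  decide +kernel
theorem p17 : Perm.sign s0 = 1 := by decide
theorem p18 : Perm.sign g2 = 1 := by decide
theorem p19 : Perm.sign g3 = 1 := by decide
theorem p20 : Perm.sign g4 = 1 := by decide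
theorem p21 : Perm.sign g5 = 1 := by decide
theorem p22 : Perm.sign c0 = 1 := by decide

/-- the lifts of `(012)`, `(013)` generate `SL_2(3)` -/
def Dbl (π : P →* Perm α) (f : Perm (Fin 8) →* Perm α) (z : P) : Prop :=
  ∀ (g : Perm (Fin 8)) (x y : P), x * x * x = 1 → y * y * y = 1 → π x = f (g * c0 * g⁻¹) → π y = f (g * d0 * g⁻¹) →
    x * y * (x * y) = z

theorem exists_cfg (D : Dc π z) {f : Perm (Fin 8) →* Perm α} (hf : ∀ g, Perm.sign (f g) = Perm.sign g)
    (B : Dbl π f z) {a b c d : P} (ha : π a = f c0) (hb : π b = f d0) (hc : π c = f c4) (hd : π d = f d4)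
    (ha3 : a * a * a = 1) (hb3 : b * b * b = 1) (hc3 : c * c * c = 1) (hd3 : d * d * d = 1) :
    ∃ σ, Cfg z a b c d σ := by
  obtain ⟨σ, hσ⟩ := D.surj (f s0) (by rw [hf, p17])
  obtain ⟨u2, hu2⟩ := D.surj (f g2) (by rw [hf, p18])
  obtain ⟨u3, hu3⟩ := D.surj (f g3) (by rw [hf, p19])
  obtain ⟨u4, hu4⟩ := D.surj (f g4) (by rw [hf, p20])
  obtain ⟨u5, hu5⟩ := D.surj (f g5) (by rw [hf, p21])
  have hP : Pre z a b c d := by
    refine ⟨⟨D.zz, D.zc, ha3, hb3, ?_⟩, ⟨D.zz, D.zc, hc3, hd3, ?_⟩, ?_, ?_, ?_, ?_⟩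
    · exact B 1 a b ha3 hb3 (by rw [one_mul, inv_one, mul_one, ha]) (by rw [one_mul, inv_one, mul_one, hb])
    · exact B s0 c d hc3 hd3 (by rw [p1, hc]) (by rw [p2, hd])
    · exact D.commute hc3 (by rw [ha, hc, ← map_mul, ← map_mul, p6])
    · exact D.commute hd3 (by rw [ha, hd, ← map_mul, ← map_mul, p7])
    · exact D.commute hc3 (by rw [hb, hc, ← map_mul, ← map_mul, p8])
    · exact D.commute hd3 (by rw [hb, hd, ← map_mul, ← map_mul, p9])
  have e1 : π (a * b * (c * d)) = f (c0 * d0 * (c4 * d4)) := by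
    rw [map_mul, map_mul, map_mul, ha, hb, hc, hd]; simp only [map_mul]
  have e2 : π (a⁻¹ * b * a⁻¹ * (c⁻¹ * d * c⁻¹)) = f (c0⁻¹ * d0 * c0⁻¹ * (c4⁻¹ * d4 * c4⁻¹)) := by
    simp only [map_mul, map_inv, ha, hb, hc, hd]
  refine ⟨σ, hP, ?_, ?_, ?_, ?_, ?_, ?_, ⟨u4, ?_⟩, ⟨u5, ?_, ?_⟩⟩
  · exact D.conj σ ha3 hc3 (by rw [hσ, ha, hc, ← map_inv, ← map_mul, ← map_mul, p1])
  · exact D.conj σ hb3 hd3 (by rw [hσ, hb, hd, ← map_inv, ← map_mul, ← map_mul, p2])
  · exact D.conj σ hc3 ha3 (by rw [hσ, ha, hc, ← map_inv, ← map_mul, ← map_mul, p3])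
  · exact D.conj σ hd3 hb3 (by rw [hσ, hb, hd, ← map_inv, ← map_mul, ← map_mul, p4])
  · apply (hP.uni.conj D.zc u2).of_eq_or D.zz D.zc
    · apply D.eq_or
      rw [map_mul π, map_mul π, map_inv π, hu2, e1, ← map_inv, ← map_mul, ← map_mul, p13]
    · apply D.eq_or
      rw [map_mul π, map_mul π, map_inv π, hu2, e2, ← map_inv, ← map_mul, ← map_mul, p14, hσ]
  · apply (hP.uni.conj D.zc u3).of_eq_or D.zz D.zc
    · apply D.eq_or
      rw [map_mul π, map_mul π, map_inv π, hu3, e1, ← map_inv, ← map_mul, ← map_mul, p15]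
    · apply D.eq_or
      rw [map_mul π, map_mul π, map_inv π, hu3, map_mul π _ σ, e2, ← map_inv, ← map_mul, ← map_mul, p16, hσ, map_mul]
  · exact D.conj u4 ha3 (inv_cube ha3) (by rw [hu4, ha, map_inv, ha, ← map_inv, ← map_inv, ← map_mul, ← map_mul, p10])
  · exact D.conj u5 ha3 (inv_cube ha3) (by rw [hu5, ha, map_inv, ha, ← map_inv, ← map_inv, ← map_mul, ← map_mul, p11])
  · exact D.conj u5 hc3 hc3 (by rw [hu5, hc, ← map_inv, ← map_mul, ← map_mul, p12])

def t0 : Perm (Fin 8) := swap (4 : Fin 8) 5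

theorem q1 : t0 * c0 * t0⁻¹ = c0 := by decide
theorem q2 : t0 * d0 * t0⁻¹ = d0 := by decide
theorem q3 : t0 * c4⁻¹ * t0⁻¹ = c4 := by decide
theorem q4 : t0 * d4⁻¹ * t0⁻¹ = d4 := by decide
theorem q5 : c4 * c4 * c4 = 1 := by decide
theorem q6 : d0 * d0 * d0 = 1 := by decide
theorem q7 : d4 * d4 * d4 = 1 := by decide
theorem q8 : Perm.sign d0 = 1 := by decide
theorem q9 : Perm.sign c4 = 1 := by decide
theorem q10 : Perm.sign d4 = 1 := by decide

/-- the twist by a transposition -/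
theorem Dc.twist (D : Dc π z) (τ : Perm α) : Dc ((MulAut.conj τ).toMonoidHom.comp π) z := by
  refine ⟨D.zz, D.zc, ?_, ?_, ?_⟩
  · rw [MonoidHom.comp_apply, D.pz, map_one]
  · intro x hx
    apply D.ker
    rw [MonoidHom.comp_apply] at hx
    exact (MulEquiv.map_eq_one_iff (MulAut.conj τ)).1 hx
  · intro c hc
    obtain ⟨x, hx⟩ := D.surj (τ⁻¹ * c * τ) (by
      rw [map_mul, map_mul, map_inv, hc, mul_one, inv_mul_cancel])
    refine ⟨x, ?_⟩
    rw [MonoidHom.comp_apply, hx]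
    change τ * (τ⁻¹ * c * τ) * τ⁻¹ = c
    group

section rep

variable {F : Type u} [Field F] {V : Type t} [AddCommGroup V] [Module F V] [FiniteDimensional F V]
variable {ρ : P →* Module.End F V}

/-- **Main result of this part**: degree `8`, and `y² + y + 1 = 0` for the lift of order three of a 3-cycle. -/
theorem main (D : Dc π z) {f : Perm (Fin 8) →* Perm α} (hf : ∀ g, Perm.sign (f g) = Perm.sign g)
    (B : Dbl π f z) (hz : ρ z = -1) (h2 : (2 : F) ≠ 0) (hn0 : finrank F V ≠ 0) (hn : finrank F V ≤ 12) :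
    finrank F V = 8 ∧ ∀ a, a * a * a = 1 → π a = f c0 → ρ a * ρ a + ρ a + 1 = 0 := by
  obtain ⟨b, hb, hb3⟩ := D.exists_lift (c := f d0) (by rw [← map_mul, ← map_mul, q6, map_one]) (by rw [hf, q8])
  obtain ⟨c, hc, hc3⟩ := D.exists_lift (c := f c4) (by rw [← map_mul, ← map_mul, q5, map_one]) (by rw [hf, q9])
  obtain ⟨d, hd, hd3⟩ := D.exists_lift (c := f d4) (by rw [← map_mul, ← map_mul, q7, map_one]) (by rw [hf, q10])
  obtain ⟨a, ha, ha3⟩ := D.exists_lift (c := f c0) (by rw [← map_mul, ← map_mul, p5, map_one]) (by rw [hf, p22])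
  obtain ⟨σ, h⟩ := exists_cfg D hf B ha hb hc hd ha3 hb3 hc3 hd3
  have hdim := (hdim (ρ := ρ) h hz h2).1
  have h8 : finrank F V = 8 := by omega
  refine ⟨h8, ?_⟩
  intro a' ha3' ha'
  have haa : a' = a := D.uniq ha3' ha3 (by rw [ha', ha])
  rw [haa]
  -- the twisted configuration
  let π' : P →* Perm α := (MulAut.conj (f t0)).toMonoidHom.comp π
  have hπ' : ∀ x, π' x = f t0 * π x * (f t0)⁻¹ := fun x => rfl
  have D' : Dc π' z := D.twist (f t0)
  have B' : Dbl π' f z := by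
    intro g x y hx hy h1 h3
    apply B (t0⁻¹ * g) x y hx hy
    · rw [hπ'] at h1
      have : π x = (f t0)⁻¹ * f (g * c0 * g⁻¹) * f t0 := by rw [← h1]; group
      have e : t0⁻¹ * (g * c0 * g⁻¹) * t0 = t0⁻¹ * g * c0 * (t0⁻¹ * g)⁻¹ := by group
      rw [this, ← map_inv, ← map_mul, ← map_mul, e]
    · rw [hπ'] at h3
      have : π y = (f t0)⁻¹ * f (g * d0 * g⁻¹) * f t0 := by rw [← h3]; group
      have e : t0⁻¹ * (g * d0 * g⁻¹) * t0 = t0⁻¹ * g * d0 * (t0⁻¹ * g)⁻¹ := by group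
      rw [this, ← map_inv, ← map_mul, ← map_mul, e]
  obtain ⟨σ', h'⟩ := exists_cfg D' hf B' (a := a) (b := b) (c := c⁻¹) (d := d⁻¹)
    (by rw [hπ', ha, ← map_inv, ← map_mul, ← map_mul, q1]) (by rw [hπ', hb, ← map_inv, ← map_mul, ← map_mul, q2])
    (by rw [hπ', map_inv π, hc, ← map_inv, ← map_inv, ← map_mul, ← map_mul, q3])
    (by rw [hπ', map_inv π, hd, ← map_inv, ← map_inv, ← map_mul, ← map_mul, q4]) ha3 hb3 (inv_cube hc3) (inv_cube hd3)
  exact final h h' hz h2 h8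

end rep

end Cfsg.Agent.H825.Spin
end

-- part: H825/SpinCarm
section
/-!
# In a non-split double cover of `A_m`, `m ≥ 8`, double transpositions lift to elements of order four (helper825)
-/

set_option autoImplicit false
set_option linter.unusedSectionVars false

namespace Cfsg.Agent.H825.Spin

open Module Equiv Lib.AltCarmichael
open scoped commutatorElement

universe u v w

theorem embHom_swap {α : Type u} {β : Type v} [DecidableEq α] [DecidableEq β] (ι : α ↪ β) (x y : α) :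
    Perm.viaEmbeddingHom ι (swap x y) = swap (ι x) (ι y) := by
  ext b
  rw [Perm.viaEmbeddingHom_apply]
  by_cases hb : b ∈ Set.range ι
  · obtain ⟨a, rfl⟩ := hb
    rw [Perm.viaEmbedding_apply]
    by_cases h1 : a = x
    · rw [h1, swap_apply_left, swap_apply_left]
    by_cases h2 : a = y
    · rw [h2, swap_apply_right, swap_apply_right]
    rw [swap_apply_of_ne_of_ne h1 h2, swap_apply_of_ne_of_ne (fun h => h1 (ι.injective h))
      (fun h => h2 (ι.injective h))]
  · rw [Perm.viaEmbedding_apply_of_notMem _ _ _ hb, swap_apply_of_ne_of_ne]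
    · rintro rfl; exact hb ⟨x, rfl⟩
    · rintro rfl; exact hb ⟨y, rfl⟩

theorem embHom_sign {α : Type u} {β : Type v} [DecidableEq α] [DecidableEq β] [Fintype α] [Fintype β] (ι : α ↪ β)
    (g : Perm α) : Perm.sign (Perm.viaEmbeddingHom ι g) = Perm.sign g := by
  classical
  induction g using Perm.swap_induction_on with
  | one => rw [map_one, map_one, map_one]
  | swap_mul f x y hxy ih =>
    rw [map_mul, map_mul, map_mul, ih, embHom_swap, Perm.sign_swap hxy, Perm.sign_swap (fun h => hxy (ι.injective h))]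

theorem cycle_rot {α : Type u} [DecidableEq α] {a b c : α} (hac : a ≠ c) (hbc : b ≠ c) :
    swap a b * swap b c = swap c a * swap a b := by
  have h1 := swap_apply_apply (swap a b) b c
  rw [swap_apply_right, swap_apply_of_ne_of_ne hac.symm hbc.symm, swap_inv, eq_comm, ← eq_mul_inv_iff_mul_eq,
    swap_inv] at h1
  rw [h1, swap_comm a c]

variable {P : Type w} [Group P] {N : ℕ} {π : P →* Perm (Fin (N + 2))} {z : P}

/-- the embedding -/
def emb (N : ℕ) (hN : 6 ≤ N) : Fin 8 ↪ Fin (N + 2) where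
  toFun := ![Fin.ofNat (N + 2) N, Fin.ofNat (N + 2) (N + 1), Fin.ofNat (N + 2) 0, Fin.ofNat (N + 2) 1,
    Fin.ofNat (N + 2) 2, Fin.ofNat (N + 2) 3, Fin.ofNat (N + 2) 4, Fin.ofNat (N + 2) 5]
  inj' := by
    intro i j h
    have h1 := congrArg Fin.val h
    fin_cases i <;> fin_cases j <;> simp only [Fin.ofNat, _root_.Nat.mod_succ, _root_.Nat.zero_mod, _root_.Fin.zero_eta, _root_.Nat.one_mod, _root_.Fin.mk_one, _root_.Fin.isValue, _root_.Matrix.cons_val_zero, _root_.Matrix.cons_val_one, _root_.zero_ne_one, _root_.Fin.reduceFinMk, _root_.Matrix.cons_val, _root_.Fin.coe_ofNat_eq_mod, _root_.Fin.reduceEq, _root_.one_ne_zero, _root_.Nat.add_left_cancel_iff, _root_.Nat.add_eq_zero_iff, _root_.and_false, _root_.Nat.add_eq_right, _root_.Nat.right_eq_add] at h1 ⊢ <;>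
      (repeat rw [Nat.mod_eq_of_lt (by (clear * - hN h1; omega))] at h1) <;> omega

theorem emb_c0 (hN : 6 ≤ N) : Perm.viaEmbeddingHom (emb N hN) c0 = cyc N 0 := by
  rw [c0, map_mul, embHom_swap, embHom_swap, cyc_def]
  change swap (Fin.ofNat (N + 2) N) (Fin.ofNat (N + 2) (N + 1)) * swap (Fin.ofNat (N + 2) (N + 1)) (Fin.ofNat (N + 2) 0) = _
  exact cycle_rot (ofNat_ne (by omega) (by omega) (by omega)) (ofNat_ne (by omega) (by omega) (by omega))

theorem emb_d0 (hN : 6 ≤ N) : Perm.viaEmbeddingHom (emb N hN) d0 = cyc N 1 := by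
  rw [d0, map_mul, embHom_swap, embHom_swap, cyc_def]
  change swap (Fin.ofNat (N + 2) N) (Fin.ofNat (N + 2) (N + 1)) * swap (Fin.ofNat (N + 2) (N + 1)) (Fin.ofNat (N + 2) 1) = _
  exact cycle_rot (ofNat_ne (by omega) (by omega) (by omega)) (ofNat_ne (by omega) (by omega) (by omega))

/-- an element moving `(0, 1)` to `(i, j)` -/
theorem exists_move (hN : 6 ≤ N) {i j : ℕ} (hi : i < N) (hj : j < N) (hij : i ≠ j) :
    ∃ g : Perm (Fin (N + 2)), Perm.sign g = 1 ∧ g * cyc N 0 * g⁻¹ = cyc N i ∧ g * cyc N 1 * g⁻¹ = cyc N j := by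
  let p : ℕ → Fin (N + 2) := Fin.ofNat (N + 2)
  have hp : ∀ {a b : ℕ}, a < N + 2 → b < N + 2 → a ≠ b → p a ≠ p b := fun ha hb hab => ofNat_ne ha hb hab
  have hinj : ∀ {a b : ℕ}, a < N + 2 → b < N + 2 → p a = p b → a = b := fun ha hb h => by
    by_contra hab
    exact hp ha hb hab h
  have key : ∀ g : Perm (Fin (N + 2)), g (p 0) = p i → g (p 1) = p j → g (p N) = p N → g (p (N + 1)) = p (N + 1) →
      g * cyc N 0 * g⁻¹ = cyc N i ∧ g * cyc N 1 * g⁻¹ = cyc N j := by
    intro g h0 h1 hN hN1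
    have e : ∀ k, g * cyc N k * g⁻¹ = swap (g (p k)) (g (p N)) * swap (g (p N)) (g (p (N + 1))) := by
      intro k
      rw [swap_apply_apply, swap_apply_apply, cyc_def]
      group
      rfl
    rw [e, e, h0, h1, hN, hN1]
    exact ⟨rfl, rfl⟩
  obtain ⟨g, h0, h1, h2, h3⟩ : ∃ g : Perm (Fin (N + 2)), g (p 0) = p i ∧ g (p 1) = p j ∧ g (p N) = p N ∧
      g (p (N + 1)) = p (N + 1) := by
    set w := swap (p 0) (p i) (p 1) with hw
    have hwi : w ≠ p i := by
      intro h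
      have h4 : swap (p 0) (p i) (p 1) = swap (p 0) (p i) (p 0) := by rw [← hw, h, swap_apply_left]
      exact hp (by omega) (by omega) (by omega) ((swap (p 0) (p i)).injective h4)
    have hwN : ∀ k, k = N ∨ k = N + 1 → w ≠ p k ∧ swap (p 0) (p i) (p k) = p k := by
      intro k hk
      have h4 : swap (p 0) (p i) (p k) = p k :=
        swap_apply_of_ne_of_ne (hp (by omega) (by omega) (by omega)) (hp (by omega) (by omega) (by omega))
      refine ⟨?_, h4⟩
      intro h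
      exact hp (a := 1) (b := k) (by omega) (by omega) (by omega)
        ((swap (p 0) (p i)).injective (hw.symm.trans (h.trans h4.symm)))
    refine ⟨swap w (p j) * swap (p 0) (p i), ?_, ?_, ?_, ?_⟩
    · rw [Perm.mul_apply, swap_apply_left, swap_apply_of_ne_of_ne hwi.symm (hp (by omega) (by omega) hij)]
    · rw [Perm.mul_apply, ← hw, swap_apply_left]
    · rw [Perm.mul_apply, (hwN N (Or.inl rfl)).2, swap_apply_of_ne_of_ne (hwN N (Or.inl rfl)).1.symm
        (hp (by omega) (by omega) (by omega))]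
    · rw [Perm.mul_apply, (hwN (N + 1) (Or.inr rfl)).2, swap_apply_of_ne_of_ne (hwN (N + 1) (Or.inr rfl)).1.symm
        (hp (by omega) (by omega) (by omega))]
  rcases Int.units_eq_one_or (Perm.sign g) with hs | hs
  · exact ⟨g, hs, key g h0 h1 h2 h3⟩
  · refine ⟨g * swap (p 2) (p 3), ?_, key _ ?_ ?_ ?_ ?_⟩
    · rw [map_mul, hs, Perm.sign_swap (hp (by omega) (by omega) (by omega))]; rfl
    · rw [Perm.mul_apply, swap_apply_of_ne_of_ne (hp (by omega) (by omega) (by omega))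
        (hp (by omega) (by omega) (by omega)), h0]
    · rw [Perm.mul_apply, swap_apply_of_ne_of_ne (hp (by omega) (by omega) (by omega))
        (hp (by omega) (by omega) (by omega)), h1]
    · rw [Perm.mul_apply, swap_apply_of_ne_of_ne (hp (by omega) (by omega) (by omega))
        (hp (by omega) (by omega) (by omega)), h2]
    · rw [Perm.mul_apply, swap_apply_of_ne_of_ne (hp (by omega) (by omega) (by omega))
        (hp (by omega) (by omega) (by omega)), h3]

/-- lifts of the generators -/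
theorem exists_gens (D : Dc π z) : ∃ X : ℕ → P, ∀ i < N, π (X i) = cyc N i ∧ X i * X i * X i = 1 := by
  have h1 : ∀ i, i < N → ∃ x, π x = cyc N i ∧ x * x * x = 1 := by
    intro i hi
    apply D.exists_lift
    · have := (rel_cyc N).cube i hi
      rwa [pow_succ, pow_two] at this
    · exact Perm.mem_alternatingGroup.1 (cyc_mem N i hi)
  choose! X hX using h1
  exact ⟨X, hX⟩

/-- the relations: `(x_i x_j)² = z` for all `i ≠ j`, or `P` splits -/
theorem gens_sq (D : Dc π z) (hN : 6 ≤ N) (hsg : ∀ x, Perm.sign (π x) = 1) (hz1 : z ≠ 1) (hperf : commutator P = ⊤)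
    {X : ℕ → P} (hX : ∀ i < N, π (X i) = cyc N i ∧ X i * X i * X i = 1) {i j : ℕ} (hi : i < N) (hj : j < N)
    (hij : i ≠ j) : X i * X j * (X i * X j) = z := by
  have hconj : ∀ i j, i < N → j < N → i ≠ j → ∃ u : P, X i = u * X 0 * u⁻¹ ∧ X j = u * X 1 * u⁻¹ := by
    intro i j hi hj hij
    obtain ⟨g, hs, hg0, hg1⟩ := exists_move hN hi hj hij
    obtain ⟨u, hu⟩ := D.surj g hs
    refine ⟨u, ?_, ?_⟩
    · exact (D.conj u (hX 0 (by omega)).2 (hX i hi).2 (by rw [hu, (hX 0 (by omega)).1, (hX i hi).1, hg0])).symm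
    · exact (D.conj u (hX 1 (by omega)).2 (hX j hj).2 (by rw [hu, (hX 1 (by omega)).1, (hX j hj).1, hg1])).symm
  have h01 : X 0 * X 1 * (X 0 * X 1) = z := by
    have h1 : π (X 0 * X 1 * (X 0 * X 1)) = 1 := by
      rw [map_mul, map_mul, (hX 0 (by omega)).1, (hX 1 (by omega)).1, ← pow_two]
      exact (rel_cyc N).sq 0 (by omega) 1 (by omega) (by norm_num)
    rcases D.ker _ h1 with h | h
    · exfalso
      have hrel : _root_.Cfsg.Agent.Lib.AltCarmichael.Rel N X := by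
        constructor
        · intro i hi
          rw [pow_succ, pow_two, (hX i hi).2]
        · intro i hi j hj hij
          obtain ⟨u, h2, h3⟩ := hconj i j hi hj hij
          rw [pow_two, h2, h3]
          have : u * X 0 * u⁻¹ * (u * X 1 * u⁻¹) * (u * X 0 * u⁻¹ * (u * X 1 * u⁻¹)) =
            u * (X 0 * X 1 * (X 0 * X 1)) * u⁻¹ := by group
          rw [this, h, mul_one, mul_inv_cancel]
      obtain ⟨φ, hφ⟩ := Lib.AltCarmichael.exists_hom (by omega) hrel
      have hπφ : ∀ c : alternatingGroup (Fin (N + 2)), π (φ c) = c := by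
        intro c
        have hc : (c : Perm (Fin (N + 2))) ∈ gen N (cyc N) := by
          rw [gen_cyc N (by omega)]; exact c.2
        have key : ∀ d ∈ gen N (cyc N), ∀ hd : d ∈ alternatingGroup (Fin (N + 2)), π (φ ⟨d, hd⟩) = d := by
          intro d hd
          rw [gen_def] at hd
          induction hd using Subgroup.closure_induction with
          | mem x hx =>
            obtain ⟨i, hi, rfl⟩ := hx
            intro hd
            rw [hφ i hi, (hX i hi).1]
          | one =>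
            intro hd
            have : (⟨1, hd⟩ : alternatingGroup (Fin (N + 2))) = 1 := rfl
            rw [this, map_one, map_one]
          | mul x y hx hy ihx ihy =>
            intro hd
            have hx' : x ∈ alternatingGroup (Fin (N + 2)) := by
              rw [← gen_cyc N (by omega), gen_def]; exact hx
            have hy' : y ∈ alternatingGroup (Fin (N + 2)) := by
              rw [← gen_cyc N (by omega), gen_def]; exact hy
            have : (⟨x * y, hd⟩ : alternatingGroup (Fin (N + 2))) = ⟨x, hx'⟩ * ⟨y, hy'⟩ := rfl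
            rw [this, map_mul, map_mul, ihx hx', ihy hy']
          | inv x hx ihx =>
            intro hd
            have hx' : x ∈ alternatingGroup (Fin (N + 2)) := by
              rw [← gen_cyc N (by omega), gen_def]; exact hx
            have : (⟨x⁻¹, hd⟩ : alternatingGroup (Fin (N + 2))) = ⟨x, hx'⟩⁻¹ := rfl
            rw [this, map_inv, map_inv, ihx hx']
        exact key c hc c.2
      -- every element is `φ c` or `z φ c`
      have hall : ∀ x : P, ∃ c, x = φ c ∨ x = z * φ c := by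
        intro x
        refine ⟨⟨π x, Perm.mem_alternatingGroup.2 (hsg x)⟩, ?_⟩
        apply D.eq_or
        rw [hπφ]
      have hcomm : commutator P ≤ φ.range := by
        rw [commutator_def, Subgroup.commutator_le]
        intro x _ y _
        obtain ⟨c, hc⟩ := hall x
        obtain ⟨d, hd⟩ := hall y
        refine ⟨c * d * c⁻¹ * d⁻¹, ?_⟩
        rw [map_mul, map_mul, map_mul, map_inv, map_inv, ← commutatorElement_def]
        have e1 : ∀ x y : P, ⁅z * x, y⁆ = ⁅x, y⁆ := by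
          intro x y
          have : z * x * y * (z * x)⁻¹ * y⁻¹ = z * (x * y * x⁻¹) * z⁻¹ * y⁻¹ := by group
          rw [commutatorElement_def, commutatorElement_def, this, D.zc, mul_inv_cancel_right]
        have e2 : ∀ x y : P, ⁅x, z * y⁆ = ⁅x, y⁆ := by
          intro x y
          rw [← commutatorElement_inv, e1, commutatorElement_inv]
        rcases hc with rfl | rfl <;> rcases hd with rfl | rfl <;> simp only [e1, e2]
      rw [hperf] at hcomm
      obtain ⟨c, hc⟩ := hcomm (Subgroup.mem_top z)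
      have h5 := hπφ c
      rw [hc, D.pz] at h5
      have h6 : c = 1 := Subtype.ext h5.symm
      rw [h6, map_one] at hc
      exact hz1 hc.symm
    · exact h
  obtain ⟨u, h2, h3⟩ := hconj i j hi hj hij
  rw [h2, h3]
  have : u * X 0 * u⁻¹ * (u * X 1 * u⁻¹) * (u * X 0 * u⁻¹ * (u * X 1 * u⁻¹)) =
    u * (X 0 * X 1 * (X 0 * X 1)) * u⁻¹ := by group
  rw [this, h01, ← D.zc, mul_inv_cancel_right]

theorem dbl (D : Dc π z) (hN : 6 ≤ N) (hsg : ∀ x, Perm.sign (π x) = 1) (hz1 : z ≠ 1) (hperf : commutator P = ⊤) :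
    Dbl π (Perm.viaEmbeddingHom (emb N hN)) z := by
  obtain ⟨X, hX⟩ := exists_gens D
  have h01 := gens_sq D hN hsg hz1 hperf hX (i := 0) (j := 1) (by omega) (by omega) (by norm_num)
  intro g x y hx hy hgx hgy
  obtain ⟨g', hs, h0, h1⟩ : ∃ g' : Perm (Fin 8), Perm.sign g' = 1 ∧ g' * c0 * g'⁻¹ = g * c0 * g⁻¹ ∧
      g' * d0 * g'⁻¹ = g * d0 * g⁻¹ := by
    rcases Int.units_eq_one_or (Perm.sign g) with hs | hs
    · exact ⟨g, hs, rfl, rfl⟩
    · refine ⟨g * t0, ?_, ?_, ?_⟩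
      · rw [map_mul, hs]; decide
      · have : g * t0 * c0 * (g * t0)⁻¹ = g * (t0 * c0 * t0⁻¹) * g⁻¹ := by group
        rw [this, q1]
      · have : g * t0 * d0 * (g * t0)⁻¹ = g * (t0 * d0 * t0⁻¹) * g⁻¹ := by group
        rw [this, q2]
  obtain ⟨u, hu⟩ := D.surj (Perm.viaEmbeddingHom (emb N hN) g') (by rw [embHom_sign, hs])
  have e1 : u * X 0 * u⁻¹ = x := by
    apply D.conj u (hX 0 (by omega)).2 hx
    rw [hu, (hX 0 (by omega)).1, hgx, ← h0, ← emb_c0 hN, ← map_inv, ← map_mul, ← map_mul]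
  have e2 : u * X 1 * u⁻¹ = y := by
    apply D.conj u (hX 1 (by omega)).2 hy
    rw [hu, (hX 1 (by omega)).1, hgy, ← h1, ← emb_d0 hN, ← map_inv, ← map_mul, ← map_mul]
  rw [← e1, ← e2]
  have : u * X 0 * u⁻¹ * (u * X 1 * u⁻¹) * (u * X 0 * u⁻¹ * (u * X 1 * u⁻¹)) =
    u * (X 0 * X 1 * (X 0 * X 1)) * u⁻¹ := by group
  rw [this, h01, ← D.zc, mul_inv_cancel_right]

end Cfsg.Agent.H825.Spin
end

-- part: H825/SpinGrp
section
/-!
# Traces of the spin modules of dimension eight (helper825)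
-/

set_option autoImplicit false
set_option linter.unusedSectionVars false

namespace Cfsg.Agent.H825.Spin

open MulOpposite Finset Lib.AltCarmichael

universe u v w

section ring

variable {F : Type u} [Field F] {R : Type v} [Ring R] [Algebra F R] {K : Subfield F}

theorem gens_closed {a : ℕ → R} {T : AddSubgroup R} (hT : ∀ x, 2 • x ∈ T → x ∈ T) (hb : ∀ j < 6, bb a j ∈ T) :
    ∀ i < 6, a i ∈ T := by
  obtain ⟨h0, h1, h3, h4, h5, h6⟩ := bb_gen a
  have hT4 : ∀ x, 4 • x ∈ T → x ∈ T := by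
    intro x hx
    apply hT
    apply hT
    rw [smul_smul]
    exact hx
  have hb2 : ∀ j < 6, 2 • bb a j ∈ T := fun j hj => T.nsmul_mem (hb j hj) 2
  intro i hi
  have hi' : i = 0 ∨ i = 1 ∨ i = 2 ∨ i = 3 ∨ i = 4 ∨ i = 5 := by omega
  rcases hi' with rfl | rfl | rfl | rfl | rfl | rfl
  · apply hT; rw [h0]
    exact T.add_mem (hb 0 (by norm_num)) (hb 3 (by norm_num))
  · apply hT; rw [h1]
    exact T.sub_mem (hb 3 (by norm_num)) (hb 0 (by norm_num))
  · apply hT4; rw [h3]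
    exact T.add_mem (T.sub_mem (T.add_mem (hb 5 (by norm_num)) (hb 3 (by norm_num))) (hb 4 (by norm_num)))
      (hb2 1 (by norm_num))
  · apply hT4; rw [h4]
    exact T.sub_mem (T.sub_mem (T.add_mem (hb 5 (by norm_num)) (hb 3 (by norm_num))) (hb 4 (by norm_num)))
      (hb2 1 (by norm_num))
  · apply hT4; rw [h5]
    exact T.add_mem (T.add_mem (T.add_mem (hb 5 (by norm_num)) (hb 3 (by norm_num))) (hb 4 (by norm_num)))
      (hb2 2 (by norm_num))
  · apply hT4; rw [h6]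
    exact T.sub_mem (T.add_mem (T.add_mem (hb 5 (by norm_num)) (hb 3 (by norm_num))) (hb 4 (by norm_num)))
      (hb2 2 (by norm_num))

/-- elements anticommuting with `w` -/
def antiG (w : R) : AddSubgroup R where
  carrier := {x | w * x = -(x * w)}
  zero_mem' := by
    change w * 0 = -(0 * w)
    rw [mul_zero, zero_mul, neg_zero]
  add_mem' := by
    intro x y hx hy
    have hx' : w * x = -(x * w) := hx
    have hy' : w * y = -(y * w) := hy
    change w * (x + y) = -((x + y) * w)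
    rw [mul_add, hx', hy', add_mul, neg_add]
  neg_mem' := by
    intro x hx
    have hx' : w * x = -(x * w) := hx
    change w * -x = -(-x * w)
    rw [mul_neg, hx', neg_mul]

/-- elements commuting with `w` -/
def commG (w : R) : AddSubgroup R where
  carrier := {x | w * x = x * w}
  zero_mem' := by
    change w * 0 = 0 * w
    rw [mul_zero, zero_mul]
  add_mem' := by
    intro x y hx hy
    have hx' : w * x = x * w := hx
    have hy' : w * y = y * w := hy
    change w * (x + y) = (x + y) * w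
    rw [mul_add, hx', hy', add_mul]
  neg_mem' := by
    intro x hx
    have hx' : w * x = x * w := hx
    change w * -x = -x * w
    rw [mul_neg, hx', neg_mul]

theorem antiG_two (h2 : (2 : F) ≠ 0) (w : R) : ∀ x, 2 • x ∈ antiG w → x ∈ antiG w := by
  intro x hx
  have hx' : w * (2 • x) = -(2 • x * w) := hx
  change w * x = -(x * w)
  apply two_cancel h2
  rw [two_smul, mul_add, add_mul, neg_add] at hx'
  exact hx'

theorem commG_two (h2 : (2 : F) ≠ 0) (w : R) : ∀ x, 2 • x ∈ commG w → x ∈ commG w := by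
  intro x hx
  have hx' : w * (2 • x) = 2 • x * w := hx
  change w * x = x * w
  apply two_cancel h2
  rw [two_smul, mul_add, add_mul] at hx'
  exact hx'

/-- elements whose pair is in the algebra -/
def alG (K : Subfield F) (a : ℕ → R) : AddSubgroup R where
  carrier := {x | pair x ∈ Al K (cc a) 6}
  zero_mem' := by
    change pair (0 : R) ∈ Al K (cc a) 6
    have : pair (0 : R) = (0 : F) • (1 : R × Rᵐᵒᵖ) := by
      rw [zero_smul]
      refine Prod.ext rfl ?_
      change op (-(0 : R)) = 0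
      rw [neg_zero]; rfl
    rw [this]
    exact Al.smul_mem K.zero_mem (Al.one_mem _ _)
  add_mem' := by
    intro x y hx hy
    change pair (x + y) ∈ Al K (cc a) 6
    rw [pair_add]
    exact Al.add_mem hx hy
  neg_mem' := by
    intro x hx
    change pair (-x) ∈ Al K (cc a) 6
    rw [pair_neg]
    exact Al.neg_mem hx

theorem alG_two (h2 : (2 : F) ≠ 0) {a : ℕ → R} : ∀ x, 2 • x ∈ alG K a → x ∈ alG K a := by
  intro x hx
  have hx' : pair (2 • x) ∈ Al K (cc a) 6 := hx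
  have e : x = (2 : F)⁻¹ • 2 • x := by
    rw [← Nat.cast_smul_eq_nsmul F, smul_smul, Nat.cast_ofNat, inv_mul_cancel₀ h2, one_smul]
  change pair x ∈ Al K (cc a) 6
  rw [e, pair_smul]
  exact Al.smul_mem (K.inv_mem (by exact_mod_cast natCast_mem K 2)) hx'

theorem L_mem {T : AddSubgroup R} {a : ℕ → R} {N : ℕ} (h : ∀ i < N, a i ∈ T) (v : ℕ → ℤ) : L N a v ∈ T :=
  T.sum_mem fun i hi => T.zsmul_mem (h i (mem_range.1 hi)) _

theorem omega_anti {a : ℕ → R} (h : Rels 6 a) (h2 : (2 : F) ≠ 0) : ∀ i < 6, a i ∈ antiG (Wp (bb a) 6) := by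
  apply gens_closed (antiG_two h2 _)
  intro j hj
  change _ = _
  have h5 := Wp_inner (F := F) (bb_anti h) le_rfl hj
  have h6 : sg F (!Nat.bodd 6) = -1 := rfl
  rw [h6, neg_one_smul] at h5
  rw [h5, neg_neg]

/-- the product of the six basis vectors and of a seventh anticommuting vector is central -/
theorem omega_comm {a : ℕ → R} (h : Rels 6 a) (h2 : (2 : F) ≠ 0) {d : R} (hd : ∀ i < 6, a i ∈ antiG d) :
    (∀ i < 6, a i ∈ commG (Wp (bb a) 6 * d)) ∧ d ∈ commG (Wp (bb a) 6 * d) ∧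
      ∀ j < 6, d * bb a j = -(bb a j * d) := by
  have hdb : ∀ j < 6, d * bb a j = -(bb a j * d) := fun j _ => L_mem hd (vb j)
  refine ⟨?_, ?_, hdb⟩
  · intro i hi
    have h3 : Wp (bb a) 6 * a i = -(a i * Wp (bb a) 6) := omega_anti h h2 i hi
    have h4 : d * a i = -(a i * d) := hd i hi
    change Wp (bb a) 6 * d * a i = a i * (Wp (bb a) 6 * d)
    rw [mul_assoc, h4, mul_neg, ← mul_assoc, h3, neg_mul, neg_neg, mul_assoc]
  · have h3 := Wp_outer (F := F) hdb
    have h6 : sg F (Nat.bodd 6) = 1 := rfl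
    rw [h6, one_smul] at h3
    change Wp (bb a) 6 * d * d = d * (Wp (bb a) 6 * d)
    rw [← mul_assoc, h3]

/-- basis vectors -/
def eb (i : ℕ) : ℕ → ℤ := fun j => if j = i then 1 else 0

theorem L_eb {N : ℕ} (a : ℕ → R) {i : ℕ} (hi : i < N) : L N a (eb i) = a i := by
  unfold L eb
  rw [sum_eq_single i]
  · rw [if_pos rfl, one_smul]
  · intro j _ hj
    rw [if_neg hj, zero_smul]
  · intro h
    exact absurd (mem_range.2 hi) h

/-- `8 a₆ - (a₀ + ⋯ + a₅)` -/
def v9 : ℕ → ℤ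
  | 0 => -1
  | 1 => -1
  | 2 => -1
  | 3 => -1
  | 4 => -1
  | 5 => -1
  | 6 => 8
  | _ => 0

theorem v9_eb : ∀ i < 6, bil 7 v9 (eb i) = 0 := by decide

theorem v9_sq : bil 7 v9 v9 = 144 := by decide

/-- `a₆ - a₇` -/
def w10 : ℕ → ℤ
  | 6 => 1
  | 7 => -1
  | _ => 0

theorem w10_eb : ∀ i < 6, bil 8 w10 (eb i) = 0 := by decide

theorem w10_sq : bil 8 w10 w10 = 4 := by decide

/-- `4 (a₆ + a₇) - (a₀ + ⋯ + a₅)` -/
def v10 : ℕ → ℤ
  | 0 => -1
  | 1 => -1
  | 2 => -1
  | 3 => -1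
  | 4 => -1
  | 5 => -1
  | 6 => 4
  | 7 => 4
  | _ => 0

theorem v10_eb : ∀ i < 8, (5 : ℤ) ∣ bil 8 v10 (eb i) := by decide

theorem v10_sq : bil 8 v10 v10 = 80 := by decide

/-- degree nine: the seventh generator -/
theorem ext9 [Nontrivial R] {a : ℕ → R} (h : Rels 7 a) (h2 : (2 : F) ≠ 0) (K : Subfield F)
    (hsc : ∀ w : R, (∀ i < 7, a i ∈ commG w) → ∃ l : F, w = algebraMap F R l) : pair (a 6) ∈ Al K (cc a) 6 := by
  have h6 : Rels 6 a := h.mono (by norm_num)
  set d := L 7 a v9 with hd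
  have hda : ∀ i < 6, a i ∈ antiG d := by
    intro i hi
    change d * a i = -(a i * d)
    have := L_anti h (v9_eb i hi)
    rwa [L_eb a (show i < 7 by omega)] at this
  obtain ⟨c1, c2, c3⟩ := omega_comm h6 h2 hda
  have hd' : d = 8 • a 6 - ∑ i ∈ range 6, a i := by
    rw [hd]
    simp only [L, v9, sum_range_succ, sum_range_zero, zero_add, neg_smul, one_smul]
    rw [show (8 : ℤ) • a 6 = 8 • a 6 from by norm_cast]
    abel
  have ha6 : 8 • a 6 = d + ∑ i ∈ range 6, a i := by rw [hd']; abel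
  have closed : ∀ T : AddSubgroup R, (∀ x, 2 • x ∈ T → x ∈ T) → (∀ i < 6, a i ∈ T) → d ∈ T → a 6 ∈ T := by
    intro T hT hi hdT
    apply hT; apply hT; apply hT
    rw [smul_smul, smul_smul]
    change 8 • a 6 ∈ T
    rw [ha6]
    exact T.add_mem hdT (T.sum_mem fun i hi' => hi i (mem_range.1 hi'))
  obtain ⟨l, hl⟩ := hsc (Wp (bb a) 6 * d) (by
    intro i hi
    rcases Nat.lt_succ_iff_lt_or_eq.1 hi with h3 | h3
    · exact c1 i h3
    · rw [h3]
      exact closed _ (commG_two h2 _) c1 c2)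
  have hdd : d * d = algebraMap F R (-(12 * 12)) := by
    rw [hd, L_sq h h2, v9_sq]
    rw [map_neg, map_mul, map_ofNat]
    push_cast
    norm_num
  have hpd := extra_al h6 h2 K (t := 12) (by exact_mod_cast natCast_mem K 12) c3 hdd hl
  exact closed (alG K a) (alG_two h2) (gens_al h2 K) hpd

/-- degree ten, characteristic five: the seventh and the eighth generator -/
theorem ext10 [Nontrivial R] {a : ℕ → R} (h : Rels 8 a) (h2 : (2 : F) ≠ 0) (h5 : (5 : F) = 0) (K : Subfield F)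
    (hsc : ∀ w : R, (∀ i < 8, a i ∈ commG w) → ∃ l : F, w = algebraMap F R l)
    (hnil : ∀ w : R, (∀ i < 8, a i ∈ antiG w) → w * w = 0 → w = 0) :
    pair (a 6) ∈ Al K (cc a) 6 ∧ pair (a 7) ∈ Al K (cc a) 6 := by
  have h6 : Rels 6 a := h.mono (by norm_num)
  have h5R : (5 : R) = 0 := by
    have := congrArg (algebraMap F R) h5
    rwa [map_ofNat, map_zero] at this
  have hu : L 8 a v10 = 0 := by
    apply hnil
    · intro i hi
      change L 8 a v10 * a i = -(a i * L 8 a v10)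
      have h7 := L_ac h v10 (eb i)
      obtain ⟨k, hk⟩ := v10_eb i hi
      rw [L_eb a hi, hk] at h7
      push_cast at h7
      rw [h5R, zero_mul, mul_zero] at h7
      exact eq_neg_of_add_eq_zero_left h7
    · rw [L_sq h h2, v10_sq]
      have : ((-80 : ℤ) : R) = 5 * (-16) := by push_cast; norm_num
      rw [this, h5R, zero_mul]
  have hsum : 4 • (a 6 + a 7) = ∑ i ∈ range 6, a i := by
    have h7 : L 8 a v10 = 4 • (a 6 + a 7) - ∑ i ∈ range 6, a i := by
      simp only [L, v10, sum_range_succ, sum_range_zero, zero_add, neg_smul, one_smul]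
      rw [show (4 : ℤ) • a 6 = 4 • a 6 from by norm_cast, show (4 : ℤ) • a 7 = 4 • a 7 from by norm_cast]
      abel
    rw [h7] at hu
    exact sub_eq_zero.1 hu
  set d := L 8 a w10 with hd
  have hda : ∀ i < 6, a i ∈ antiG d := by
    intro i hi
    change d * a i = -(a i * d)
    have := L_anti h (w10_eb i hi)
    rwa [L_eb a (show i < 8 by omega)] at this
  obtain ⟨c1, c2, c3⟩ := omega_comm h6 h2 hda
  have hd' : d = a 6 - a 7 := by
    rw [hd]
    simp only [L, w10, sum_range_succ, sum_range_zero, zero_add, neg_smul, one_smul, zero_smul]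
    abel
  have closed : ∀ T : AddSubgroup R, (∀ x, 2 • x ∈ T → x ∈ T) → (∀ i < 6, a i ∈ T) → d ∈ T → a 6 ∈ T ∧ a 7 ∈ T := by
    intro T hT hi hdT
    have h7 : a 6 + a 7 ∈ T := by
      apply hT; apply hT
      rw [smul_smul]
      change 4 • (a 6 + a 7) ∈ T
      rw [hsum]
      exact T.sum_mem fun i hi' => hi i (mem_range.1 hi')
    constructor
    · apply hT
      have : 2 • a 6 = a 6 + a 7 + d := by rw [hd', two_smul]; abel
      rw [this]
      exact T.add_mem h7 hdT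
    · apply hT
      have : 2 • a 7 = a 6 + a 7 - d := by rw [hd', two_smul]; abel
      rw [this]
      exact T.sub_mem h7 hdT
  obtain ⟨l, hl⟩ := hsc (Wp (bb a) 6 * d) (by
    intro i hi
    by_cases h3 : i < 6
    · exact c1 i h3
    · have h4 := closed _ (commG_two h2 _) c1 c2
      have h7 : i = 6 ∨ i = 7 := by omega
      rcases h7 with rfl | rfl
      · exact h4.1
      · exact h4.2)
  have hdd : d * d = algebraMap F R (-(2 * 2)) := by
    rw [hd, L_sq h h2, w10_sq]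
    rw [map_neg, map_mul, map_ofNat]
    push_cast
    norm_num
  have hpd := extra_al h6 h2 K (t := 2) (by exact_mod_cast natCast_mem K 2) c3 hdd hl
  exact closed (alG K a) (alG_two h2) (gens_al h2 K) hpd

end ring

section group

variable {F : Type u} [Field F] {R : Type v} [Ring R] [Algebra F R] {K : Subfield F} {P : Type w} [Group P] {N : ℕ}
  {π : P →* Equiv.Perm (Fin (N + 2))} {z : P} {X : ℕ → P}

/-- the skew elements -/
def aa (ρ : P →* R) (X : ℕ → P) (i : ℕ) : R := ρ (X i) + ρ (X i) + 1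

theorem sq_of_three {x : R} (h : x * x + x + 1 = 0) : x * x = -x - 1 := by
  rw [eq_sub_iff_add_eq, eq_neg_iff_add_eq_zero, ← h]
  abel

theorem yx_of {x y : R} (hx : x * x + x + 1 = 0) (hy : y * y + y + 1 = 0) (h : x * y * (x * y) = -1) :
    y * x = -1 - x - y - x * y := by
  have hx2 := sq_of_three hx
  have hy2 := sq_of_three hy
  have hx3 : x * x * x = 1 := by
    rw [hx2, sub_mul, neg_mul, hx2, one_mul]; abel
  have hy3 : y * y * y = 1 := by
    rw [hy2, sub_mul, neg_mul, hy2, one_mul]; abel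
  have h1 : y * x = x * x * (x * y * (x * y)) * (y * y) := by
    have : x * x * (x * y * (x * y)) * (y * y) = x * x * x * (y * x) * (y * y * y) := by simp only [mul_assoc]
    rw [this, hx3, hy3, one_mul, mul_one]
  rw [h1, h, mul_neg, mul_one, hx2, hy2]
  noncomm_ring

theorem rels_aa {ρ : P →* R} (hz : ρ z = -1) (h3 : ∀ i < N, ρ (X i) * ρ (X i) + ρ (X i) + 1 = 0)
    (hsq : ∀ i < N, ∀ j < N, i ≠ j → X i * X j * (X i * X j) = z) : Rels N (aa ρ X) := by
  constructor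
  · intro i hi
    have h1 := sq_of_three (h3 i hi)
    unfold aa
    have : (ρ (X i) + ρ (X i) + 1) * (ρ (X i) + ρ (X i) + 1) = 4 * (ρ (X i) * ρ (X i)) + 4 * ρ (X i) + 1 := by
      noncomm_ring
    rw [this, h1]
    have e3 : (3 : R) = 1 + 1 + 1 := by norm_num
    rw [e3]
    noncomm_ring
  · intro i hi j hj hij
    have h1 := yx_of (h3 i hi) (h3 j hj) (by rw [← map_mul, ← map_mul, hsq i hi j hj hij, hz])
    unfold aa
    have : (ρ (X i) + ρ (X i) + 1) * (ρ (X j) + ρ (X j) + 1) + (ρ (X j) + ρ (X j) + 1) * (ρ (X i) + ρ (X i) + 1) =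
        4 * (ρ (X i) * ρ (X j)) + 4 * (ρ (X j) * ρ (X i)) + 4 * ρ (X i) + 4 * ρ (X j) + (1 + 1) := by noncomm_ring
    have e2 : (2 : R) = 1 + 1 := by norm_num
    rw [this, h1, e2]
    noncomm_ring

/-- the `X i` and `z` generate -/
theorem mem_of_gens (D : Dc π z) (hN : 1 ≤ N) (hsg : ∀ x, Equiv.Perm.sign (π x) = 1) {S : Subgroup P} (hz : z ∈ S)
    (hX : ∀ i < N, π (X i) = cyc N i) (hXS : ∀ i < N, X i ∈ S) (x : P) : x ∈ S := by
  have h1 : gen N (cyc N) ≤ S.map π := by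
    rw [gen_def, Subgroup.closure_le]
    rintro _ ⟨i, hi, rfl⟩
    exact ⟨X i, hXS i hi, hX i hi⟩
  have h2 : π x ∈ S.map π := by
    apply h1
    rw [gen_cyc N hN]
    exact Equiv.Perm.mem_alternatingGroup.2 (hsg x)
  obtain ⟨y, hy, hyx⟩ := h2
  rcases D.eq_or hyx with h3 | h3
  · rw [h3]; exact hy
  · rw [h3]; exact S.mul_mem hz hy

/-- **traces** -/
theorem trace_main (D : Dc π z) (hN : 6 ≤ N) (hsg : ∀ x, Equiv.Perm.sign (π x) = 1) {ρ : P →* R} (hz : ρ z = -1)
    (h2 : (2 : F) ≠ 0) (hX : ∀ i < N, π (X i) = cyc N i) (h3 : ∀ i < N, ρ (X i) * ρ (X i) + ρ (X i) + 1 = 0)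
    (hsq : ∀ i < N, ∀ j < N, i ≠ j → X i * X j * (X i * X j) = z) (K : Subfield F)
    (hext : ∀ i < N, pair (aa ρ X i) ∈ Al K (cc (aa ρ X)) 6) {tr : R →ₗ[F] F} (htr : ∀ x y, tr (x * y) = tr (y * x))
    (x : P) : ∃ r ∈ K, tr (ρ x) = r * tr 1 ∧ tr (ρ x⁻¹) = r * tr 1 := by
  have hR := rels_aa hz h3 hsq
  have hR6 : Rels 6 (aa ρ X) := hR.mono hN
  let φ : P → R × Rᵐᵒᵖ := fun x => (ρ x, op (ρ x⁻¹))
  have hφ : ∀ x y, φ (x * y) = φ x * φ y := by
    intro x y
    refine Prod.ext (map_mul ρ x y) ?_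
    change op (ρ (x * y)⁻¹) = op (ρ x⁻¹) * op (ρ y⁻¹)
    rw [← op_mul, mul_inv_rev, map_mul]
  have hφ1 : φ 1 = 1 := by
    refine Prod.ext (map_one ρ) ?_
    change op (ρ 1⁻¹) = 1
    rw [inv_one, map_one, op_one]
  have hmul : ∀ {x y : R × Rᵐᵒᵖ}, x ∈ Al K (cc (aa ρ X)) 6 → y ∈ Al K (cc (aa ρ X)) 6 →
      x * y ∈ Al K (cc (aa ρ X)) 6 := fun hx hy => Al.mul_mem (cc_anti hR6) (cc_sq hR6 h2 K) hx hy
  have hXA : ∀ i < N, φ (X i) ∈ Al K (cc (aa ρ X)) 6 := by
    intro i hi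
    have e1 := sq_of_three (h3 i hi)
    have e2 : ρ (X i) * ρ (X i)⁻¹ = 1 := by rw [← map_mul, mul_inv_cancel, map_one]
    have e3 : ρ (X i)⁻¹ = -ρ (X i) - 1 := by
      have e4 : (-ρ (X i) - 1) * ρ (X i) = 1 := by rw [sub_mul, neg_mul, e1, one_mul]; abel
      calc ρ (X i)⁻¹ = (-ρ (X i) - 1) * ρ (X i) * ρ (X i)⁻¹ := by rw [e4, one_mul]
        _ = _ := by rw [mul_assoc, e2, mul_one]
    have h2x : pair (aa ρ X i) - 1 = (2 : F) • φ (X i) := by
      refine Prod.ext ?_ ?_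
      · change ρ (X i) + ρ (X i) + 1 - 1 = (2 : F) • ρ (X i)
        rw [two_smul]; abel
      · change op (-(ρ (X i) + ρ (X i) + 1)) - 1 = (2 : F) • op (ρ (X i)⁻¹)
        rw [e3, two_smul, ← op_one, ← op_sub, ← op_add]
        congr 1
        abel
    have h4 : φ (X i) = (2 : F)⁻¹ • (pair (aa ρ X i) - 1) := by
      rw [h2x, smul_smul, inv_mul_cancel₀ h2, one_smul]
    rw [h4]
    exact Al.smul_mem (K.inv_mem (by exact_mod_cast natCast_mem K 2)) (Al.sub_mem (hext i hi) (Al.one_mem _ _))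
  have hφz : φ z = -1 := by
    have hzi : z⁻¹ = z := inv_eq_of_mul_eq_one_right D.zz
    refine Prod.ext hz ?_
    change op (ρ z⁻¹) = -1
    rw [hzi, hz, op_neg, op_one]
  let S : Subgroup P :=
    { carrier := {x | φ x ∈ Al K (cc (aa ρ X)) 6 ∧ φ x⁻¹ ∈ Al K (cc (aa ρ X)) 6}
      one_mem' := by
        change φ 1 ∈ Al K (cc (aa ρ X)) 6 ∧ φ 1⁻¹ ∈ Al K (cc (aa ρ X)) 6
        rw [inv_one, hφ1]
        exact ⟨Al.one_mem _ _, Al.one_mem _ _⟩
      mul_mem' := by
        intro x y hx hy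
        change φ (x * y) ∈ Al K (cc (aa ρ X)) 6 ∧ φ (x * y)⁻¹ ∈ Al K (cc (aa ρ X)) 6
        rw [mul_inv_rev, hφ, hφ]
        exact ⟨hmul hx.1 hy.1, hmul hy.2 hx.2⟩
      inv_mem' := by
        intro x hx
        change φ x⁻¹ ∈ Al K (cc (aa ρ X)) 6 ∧ φ x⁻¹⁻¹ ∈ Al K (cc (aa ρ X)) 6
        rw [inv_inv]
        exact ⟨hx.2, hx.1⟩ }
  have hzS : z ∈ S := by
    change φ z ∈ Al K (cc (aa ρ X)) 6 ∧ φ z⁻¹ ∈ Al K (cc (aa ρ X)) 6
    have hzi : z⁻¹ = z := inv_eq_of_mul_eq_one_right D.zz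
    rw [hzi, hφz]
    exact ⟨Al.neg_mem (Al.one_mem _ _), Al.neg_mem (Al.one_mem _ _)⟩
  have hXS : ∀ i < N, X i ∈ S := by
    intro i hi
    refine ⟨hXA i hi, ?_⟩
    have e1 := sq_of_three (h3 i hi)
    have hX3 : X i * X i * X i = 1 ∨ X i * X i * X i = z := by
      apply D.ker
      rw [map_mul, map_mul, hX i hi]
      have := (rel_cyc N).cube i hi
      rwa [pow_succ, pow_two] at this
    have hX3' : X i * X i * X i ∈ S ∧ True := by
      rcases hX3 with h | h
      · rw [h]; exact ⟨S.one_mem, trivial⟩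
      · rw [h]; exact ⟨hzS, trivial⟩
    have h5 : φ (X i * X i * X i)⁻¹ ∈ Al K (cc (aa ρ X)) 6 := hX3'.1.2
    have h6 : (X i)⁻¹ = X i * X i * (X i * X i * X i)⁻¹ := by group
    rw [h6, hφ, hφ]
    exact hmul (hmul (hXA i hi) (hXA i hi)) h5
  have hx : x ∈ S := mem_of_gens D (by omega) hsg hzS hX hXS x
  obtain ⟨r, hr, h4, h5⟩ := trace_al htr h2 hR6 hx.1
  exact ⟨r, hr, h4, h5⟩

end group

end Cfsg.Agent.H825.Spin
end

-- part: H825/SpinMain
section
/-!
# Cores whose simple quotient is an alternating group of degree at least eight: the double cover (helper825)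

Interface `Cfsg.Agent.H915.LD`.
-/

set_option autoImplicit false
set_option linter.unusedSectionVars false

namespace Cfsg.Agent.H825.Spin

open Cfsg Cfsg.Geo Matrix H915.LD Lib.AltCarmichael

universe u v w

variable {ι : Type} [Fintype ι] [DecidableEq ι] {F : Type u} [Field F] {P : Subgroup (GL ι F)} {m : ℕ}

section red

variable [Finite F]

theorem card_scalars_le (hC : Core P) (e : Soc P ≃* alternatingGroup (Fin m)) (hm : 8 ≤ m) :
    Nat.card ((scalars ι F).subgroupOf P) ≤ 2 :=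
  S0892.result m (by omega) (by omega) (by omega) ((scalars ι F).subgroupOf P) scalars_le_center
    (by rw [hC.commutator_top]; exact le_top) e

/-- the scalars are trivial, or `±1` -/
theorem scalars_cases (hC : Core P) (e : Soc P ≃* alternatingGroup (Fin m)) (hm : 8 ≤ m) :
    (scalars ι F).subgroupOf P = ⊥ ∨ ((2 : F) ≠ 0 ∧ ∃ z : P, ((z : GL ι F) : Matrix ι ι F) = -1 ∧
      z ∈ (scalars ι F).subgroupOf P ∧ z ≠ 1 ∧ ∀ x ∈ (scalars ι F).subgroupOf P, x = 1 ∨ x = z) := by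
  have hc := card_scalars_le hC e hm
  have hne := hC.nonempty
  have h1 : Nat.card ((scalars ι F).subgroupOf P) = 1 ∨ Nat.card ((scalars ι F).subgroupOf P) = 2 := by
    have : 0 < Nat.card ((scalars ι F).subgroupOf P) := Nat.card_pos
    omega
  rcases h1 with h1 | h1
  · left
    exact Subgroup.card_eq_one.1 h1
  · right
    obtain ⟨x, hx, hxu⟩ := (Nat.card_eq_two_iff' (1 : (scalars ι F).subgroupOf P)).1 h1
    have hx1 : (x : P) ≠ 1 := fun h => hx (Subtype.ext h)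
    have hx2 : (x : P) * x = 1 := by
      by_contra h
      have h2 : x * x ≠ 1 := fun h3 => h (congrArg Subtype.val h3)
      have h3 := hxu (x * x) h2
      exact hx (mul_eq_left.1 h3)
    have hsc := x.2
    rw [Subgroup.mem_subgroupOf, mem_scalars_iff] at hsc
    obtain ⟨c, hc⟩ := hsc
    obtain ⟨i⟩ := hne
    have hcc : (c : F) * c = 1 := by
      have h2 : (((x : P) : GL ι F) : Matrix ι ι F) * (((x : P) : GL ι F) : Matrix ι ι F) = 1 := by
        rw [← Units.val_mul, ← Subgroup.coe_mul, hx2]; rfl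
      rw [hc, Matrix.smul_mul, Matrix.mul_smul, Matrix.mul_one, smul_smul] at h2
      have h3 := congrFun (congrFun h2 i) i
      simpa only [_root_.Matrix.smul_apply, _root_.Matrix.one_apply_eq, _root_.smul_eq_mul, _root_.mul_one] using h3
    have hc1 : (c : F) ≠ 1 := by
      intro h
      apply hx1
      apply Subtype.ext
      apply Units.ext
      rw [hc, h, one_smul]
      rfl
    have hcm : (c : F) = -1 := by
      rcases mul_self_eq_one_iff.1 hcc with h | h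
      · exact absurd h hc1
      · exact h
    refine ⟨?_, x, ?_, x.2, hx1, ?_⟩
    · intro h2
      apply hc1
      rw [hcm]
      linear_combination -h2
    · rw [hc, hcm]
      exact neg_one_smul F _
    · intro y hy
      by_cases hy1 : y = 1
      · exact Or.inl hy1
      · right
        have := hxu ⟨y, hy⟩ (fun h => hy1 (congrArg Subtype.val h))
        exact congrArg Subtype.val this

theorem equiv_of_scalars (e : Soc P ≃* alternatingGroup (Fin m)) (h : (scalars ι F).subgroupOf P = ⊥) :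
    ∃ e' : P ≃* alternatingGroup (Fin m), ∀ x, e' x = e (toSoc P x) := by
  have h2 : Function.Injective (e.toMonoidHom.comp (toSoc P)) := by
    rw [← MonoidHom.ker_eq_bot_iff]
    exact (ker_comp e).trans h
  exact ⟨MulEquiv.ofBijective _ ⟨h2, e.surjective.comp (toSoc_surjective P)⟩, fun x => rfl⟩

end red

/-- the permutation attached to an element -/
def prm (e : Soc P ≃* alternatingGroup (Fin m)) : P →* Equiv.Perm (Fin m) :=
  ((alternatingGroup (Fin m)).subtype.comp e.toMonoidHom).comp (toSoc P)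

theorem prm_sign (e : Soc P ≃* alternatingGroup (Fin m)) (x : P) : Equiv.Perm.sign (prm e x) = 1 :=
  Equiv.Perm.mem_alternatingGroup.1 (e (toSoc P x)).2

theorem prm_ker (e : Soc P ≃* alternatingGroup (Fin m)) {x : P} (h : prm e x = 1) :
    x ∈ (scalars ι F).subgroupOf P := by
  rw [← ker_comp e]
  exact Subtype.ext h

theorem prm_surj (e : Soc P ≃* alternatingGroup (Fin m)) {c : Equiv.Perm (Fin m)} (hc : Equiv.Perm.sign c = 1) :
    ∃ x, prm e x = c := by
  obtain ⟨y, hy⟩ := e.surjective ⟨c, Equiv.Perm.mem_alternatingGroup.2 hc⟩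
  obtain ⟨x, hx⟩ := toSoc_surjective P y
  refine ⟨x, ?_⟩
  change ((e (toSoc P x) : alternatingGroup (Fin m)) : Equiv.Perm (Fin m)) = c
  rw [hx, hy]

theorem dc_of (e : Soc P ≃* alternatingGroup (Fin m)) {z : P} (hz : ((z : GL ι F) : Matrix ι ι F) = -1)
    (hzm : z ∈ (scalars ι F).subgroupOf P) (hz' : ∀ x ∈ (scalars ι F).subgroupOf P, x = 1 ∨ x = z) :
    Dc (prm e) z where
  zz := by
    apply Subtype.ext
    apply Units.ext
    rw [Subgroup.coe_mul, Units.val_mul, hz, neg_mul_neg, one_mul]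
    rfl
  zc x := ((Subgroup.mem_center_iff.1 (scalars_le_center hzm)) x).symm
  pz := by
    have h1 : z ∈ (e.toMonoidHom.comp (toSoc P)).ker := by rw [ker_comp e]; exact hzm
    have h2 : e (toSoc P z) = 1 := h1
    change ((e (toSoc P z) : alternatingGroup (Fin m)) : Equiv.Perm (Fin m)) = 1
    rw [h2]; rfl
  ker x hx := hz' x (prm_ker e hx)
  surj c hc := prm_surj e hc

/-- the representation -/
def rep (P : Subgroup (GL ι F)) : P →* Module.End F (ι → F) :=
  ((Matrix.toLinAlgEquiv' (R := F) (n := ι)).toAlgHom.toMonoidHom.comp (Units.coeHom (Matrix ι ι F))).comp P.subtype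

theorem rep_apply (x : P) : rep P x = Matrix.toLin' ((x : GL ι F) : Matrix ι ι F) := rfl

/-- degree bound for alternating sections -/
theorem degree_bound [Finite F] (p : ℕ) [Fact p.Prime] [CharP F p] (e : Soc P ≃* alternatingGroup (Fin m)) (hm : 9 ≤ m) :
    m - 1 - (if p ∣ m then 1 else 0) ≤ Fintype.card ι := by
  have : Fintype F := Fintype.ofFinite F
  let E : GL ι F ≃* GL (Fin (Fintype.card ι)) F :=
    Units.mapEquiv (Matrix.reindexAlgEquiv F F (Fintype.equivFin ι)).toMulEquiv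
  let E' : P ≃* P.map E.toMonoidHom := E.subgroupMap P
  let f : P.map E.toMonoidHom →* alternatingGroup (Fin m) :=
    (e.toMonoidHom.comp (toSoc P)).comp E'.symm.toMonoidHom
  have hf : Function.Surjective f := (e.surjective.comp (toSoc_surjective P)).comp E'.symm.surjective
  exact S2653.result p (Fintype.card ι) m (P.map E.toMonoidHom) f.ker
    ⟨QuotientGroup.quotientKerEquivOfSurjective f hf⟩ hm

/-! ### the main theorem -/

/-- the representation by matrices -/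
def repM (P : Subgroup (GL ι F)) : P →* Matrix ι ι F := (Units.coeHom (Matrix ι ι F)).comp P.subtype

theorem three_of_rep {x : P} (h : rep P x * rep P x + rep P x + 1 = 0) :
    repM P x * repM P x + repM P x + 1 = 0 := by
  apply (Matrix.toLinAlgEquiv' (R := F) (n := ι)).injective
  rw [map_add, map_add, map_mul, map_one, map_zero]
  exact h

variable {N : ℕ} {z : P} {X : ℕ → P} {π : P →* Equiv.Perm (Fin (N + 2))}

theorem three_all (D : Dc π z) (hN : 6 ≤ N)
    (hX : ∀ i < N, π (X i) = cyc N i ∧ X i * X i * X i = 1)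
    (h3 : repM P (X 0) * repM P (X 0) + repM P (X 0) + 1 = 0) :
    ∀ i < N, repM P (X i) * repM P (X i) + repM P (X i) + 1 = 0 := by
  intro i hi
  have hu : ∃ u : P, X i = u * X 0 * u⁻¹ := by
    by_cases hi0 : i = 1
    · obtain ⟨g, hs, hg0, hg1⟩ := exists_move hN hi (show 2 < N by omega) (show i ≠ 2 by omega)
      obtain ⟨u, hu⟩ := D.surj g hs
      exact ⟨u, (D.conj u (hX 0 (by omega)).2 (hX i hi).2 (by rw [hu, (hX 0 (by omega)).1, (hX i hi).1, hg0])).symm⟩
    · obtain ⟨g, hs, hg0, hg1⟩ := exists_move hN hi (show 1 < N by omega) hi0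
      obtain ⟨u, hu⟩ := D.surj g hs
      exact ⟨u, (D.conj u (hX 0 (by omega)).2 (hX i hi).2 (by rw [hu, (hX 0 (by omega)).1, (hX i hi).1, hg0])).symm⟩
  obtain ⟨u, hu⟩ := hu
  have e1 : repM P (u⁻¹) * repM P u = 1 := by rw [← map_mul, inv_mul_cancel, map_one]
  have e2 : repM P u * repM P (u⁻¹) = 1 := by rw [← map_mul, mul_inv_cancel, map_one]
  rw [hu, map_mul, map_mul]
  calc repM P u * repM P (X 0) * repM P u⁻¹ * (repM P u * repM P (X 0) * repM P u⁻¹) +
        repM P u * repM P (X 0) * repM P u⁻¹ + 1 =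
      repM P u * repM P (X 0) * (repM P u⁻¹ * repM P u) * repM P (X 0) * repM P u⁻¹ +
        repM P u * repM P (X 0) * repM P u⁻¹ + repM P u * repM P u⁻¹ := by rw [e2]; simp only [mul_assoc]
    _ = repM P u * (repM P (X 0) * repM P (X 0) + repM P (X 0) + 1) * repM P u⁻¹ := by
      rw [e1, mul_one]
      noncomm_ring
    _ = 0 := by rw [h3, mul_zero, zero_mul]

theorem comm_all (D : Dc π z) (hN : 6 ≤ N) (hsg : ∀ x, Equiv.Perm.sign (π x) = 1) (h2 : (2 : F) ≠ 0)
    (hz : repM P z = -1) (hX : ∀ i < N, π (X i) = cyc N i) {w : Matrix ι ι F}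
    (h : ∀ i < N, aa (repM P) X i ∈ commG w) (x : P) : w * repM P x = repM P x * w := by
  let S : Subgroup P :=
    { carrier := {x | w * repM P x = repM P x * w}
      one_mem' := by
        change w * repM P 1 = repM P 1 * w
        rw [map_one, mul_one, one_mul]
      mul_mem' := by
        intro x y hx hy
        have hx' : w * repM P x = repM P x * w := hx
        have hy' : w * repM P y = repM P y * w := hy
        change w * repM P (x * y) = repM P (x * y) * w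
        rw [map_mul, ← mul_assoc, hx', mul_assoc, hy', mul_assoc]
      inv_mem' := by
        intro x hx
        have hx' : w * repM P x = repM P x * w := hx
        have e1 : repM P (x⁻¹) * repM P x = 1 := by rw [← map_mul, inv_mul_cancel, map_one]
        have e2 : repM P x * repM P (x⁻¹) = 1 := by rw [← map_mul, mul_inv_cancel, map_one]
        change w * repM P x⁻¹ = repM P x⁻¹ * w
        calc w * repM P x⁻¹ = repM P x⁻¹ * (repM P x * w) * repM P x⁻¹ := by rw [← mul_assoc, e1, one_mul]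
          _ = repM P x⁻¹ * w := by rw [← hx', mul_assoc, mul_assoc, e2, mul_one] }
  refine mem_of_gens (S := S) D (by omega) hsg ?_ hX ?_ x
  · change w * repM P z = repM P z * w
    rw [hz, mul_neg, neg_mul, mul_one, one_mul]
  · intro i hi
    have h3 := h i hi
    have h4 : (2 : ℕ) • repM P (X i) ∈ commG w := by
      have : (2 : ℕ) • repM P (X i) = aa (repM P) X i - 1 := by unfold aa; rw [two_smul]; abel
      rw [this]
      refine (commG w).sub_mem h3 ?_
      change w * 1 = 1 * w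
      rw [mul_one, one_mul]
    exact commG_two h2 w _ h4

theorem intertwine (D : Dc π z) (hN : 6 ≤ N) (hsg : ∀ x, Equiv.Perm.sign (π x) = 1) (h2 : (2 : F) ≠ 0)
    (hz : repM P z = -1) (hX : ∀ i < N, π (X i) = cyc N i ∧ X i * X i * X i = 1) {w : Matrix ι ι F}
    (h : ∀ i < N, aa (repM P) X i ∈ antiG w) (x : P) : ∃ y, w * repM P x = y * w := by
  let S : Subgroup P :=
    { carrier := {x | (∃ y, w * repM P x = y * w) ∧ ∃ y, w * repM P x⁻¹ = y * w}
      one_mem' := by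
        change (∃ y, w * repM P 1 = y * w) ∧ ∃ y, w * repM P 1⁻¹ = y * w
        rw [inv_one, map_one]
        exact ⟨⟨1, by rw [mul_one, one_mul]⟩, ⟨1, by rw [mul_one, one_mul]⟩⟩
      mul_mem' := by
        rintro x y ⟨⟨a, ha⟩, a', ha'⟩ ⟨⟨b, hb⟩, b', hb'⟩
        refine ⟨⟨a * b, ?_⟩, b' * a', ?_⟩
        · rw [map_mul, ← mul_assoc, ha, mul_assoc, hb, mul_assoc]
        · rw [_root_.mul_inv_rev, map_mul, ← mul_assoc, hb', mul_assoc, ha', mul_assoc]
      inv_mem' := by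
        rintro x ⟨h1, h2⟩
        refine ⟨h2, ?_⟩
        rw [inv_inv]
        exact h1 }
  have hx : x ∈ S := by
    refine mem_of_gens (S := S) D (by omega) hsg ?_ (fun i hi => (hX i hi).1) ?_ x
    · have hzi : z⁻¹ = z := inv_eq_of_mul_eq_one_right D.zz
      change (∃ y, w * repM P z = y * w) ∧ ∃ y, w * repM P z⁻¹ = y * w
      rw [hzi, hz]
      exact ⟨⟨-1, by rw [mul_neg, neg_mul, mul_one, one_mul]⟩, ⟨-1, by rw [mul_neg, neg_mul, mul_one, one_mul]⟩⟩
    · intro i hi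
      have h3 : w * aa (repM P) X i = -(aa (repM P) X i * w) := h i hi
      have h4 : w * repM P (X i) = ((2 : F)⁻¹ • (-aa (repM P) X i - 1)) * w := by
        have e : repM P (X i) = (2 : F)⁻¹ • (aa (repM P) X i - 1) := by
          have : aa (repM P) X i - 1 = (2 : F) • repM P (X i) := by unfold aa; rw [two_smul]; abel
          rw [this, smul_smul, inv_mul_cancel₀ h2, one_smul]
        rw [smul_mul_assoc, sub_mul, neg_mul, ← h3, one_mul]
        nth_rewrite 1 [e]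
        rw [mul_smul_comm, mul_sub, mul_one]
      refine ⟨⟨_, h4⟩, ?_⟩
      have h5 : (X i)⁻¹ = X i * X i := inv_eq_of_mul_eq_one_left (hX i hi).2
      rw [h5, map_mul, ← mul_assoc, h4, mul_assoc, h4, ← mul_assoc]
      exact ⟨_, rfl⟩
  exact hx.1

theorem scal_of_comm (hC : Core P) {w : Matrix ι ι F} (h : ∀ x : P, w * repM P x = repM P x * w) :
    ∃ l : F, w = algebraMap F (Matrix ι ι F) l := by
  obtain ⟨c, hc⟩ := hC.absIrred.2 w (by
    rintro _ ⟨g, hg, rfl⟩
    exact h ⟨g, hg⟩)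
  exact ⟨c, by rw [hc, Algebra.algebraMap_eq_smul_one]⟩

theorem nil_of_intertwine (hC : Core P) {w : Matrix ι ι F} (h : ∀ x : P, ∃ y, w * repM P x = y * w)
    (hw : w * w = 0) : w = 0 := by
  have hne := hC.nonempty
  rcases hC.absIrred.1 (LinearMap.ker (Matrix.toLin' w)) (by
    rintro _ ⟨g, hg, rfl⟩ _ ⟨v, hv, rfl⟩
    have hv' : w *ᵥ v = 0 := hv
    obtain ⟨y, hy⟩ := h ⟨g, hg⟩
    change w *ᵥ ((g : Matrix ι ι F) *ᵥ v) = 0
    have hy' : w * (g : Matrix ι ι F) = y * w := hy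
    rw [Matrix.mulVec_mulVec, hy', ← Matrix.mulVec_mulVec, hv', Matrix.mulVec_zero]) with h1 | h1
  · exfalso
    have h2 : ∀ v, w *ᵥ v = 0 → v = 0 := by
      intro v hv
      have : v ∈ LinearMap.ker (Matrix.toLin' w) := hv
      rw [h1] at this
      exact (Submodule.mem_bot F).1 this
    obtain ⟨i⟩ := hne
    have h3 : w *ᵥ (w *ᵥ (Pi.single i 1 : ι → F)) = 0 := by
      rw [Matrix.mulVec_mulVec, hw, Matrix.zero_mulVec]
    have h4 := congrFun (h2 _ (h2 _ h3)) i
    simp at h4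
  · apply Matrix.toLin'.injective
    rw [map_zero]
    exact LinearMap.ker_eq_top.1 h1

/-- **The double covers of `A_m`, `m ≥ 8`, in dimension at most twelve**: the dimension is eight, `m = 8`, `9`, or
`m = 10` in characteristic five; the representation is self-dual and has traces in the prime field. -/
theorem spin_core [Finite F] (hC : Core P) (p : ℕ) [hp : Fact p.Prime] [CharP F p]
    (e : Soc P ≃* alternatingGroup (Fin m)) (hm : 8 ≤ m) (hn : Fintype.card ι ≤ 12)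
    (hsc : (scalars ι F).subgroupOf P ≠ ⊥) :
    Fintype.card ι = 8 ∧ (m = 8 ∨ m = 9 ∨ (m = 10 ∧ p = 5)) ∧ p ≠ 2 ∧ SD P ∧ Fr P p := by
  have hne := hC.nonempty
  obtain ⟨h2, z, hz, hzm, hz1, hz'⟩ := (scalars_cases hC e hm).resolve_left hsc
  obtain ⟨N, rfl⟩ : ∃ N, m = N + 2 := ⟨m - 2, by omega⟩
  have D := dc_of e hz hzm hz'
  have hN : 6 ≤ N := by omega
  have hsg := prm_sign e
  have B := dbl D hN hsg hz1 hC.commutator_top
  have hzρ : rep P z = -1 := by
    rw [rep_apply, hz, map_neg, Matrix.toLin'_one]; rfl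
  have hfin : Module.finrank F (ι → F) = Fintype.card ι := Module.finrank_fintype_fun_eq_card F
  obtain ⟨h8, h3⟩ := main (ρ := rep P) D (embHom_sign (emb N hN)) B hzρ h2
    (by rw [hfin]; exact Fintype.card_ne_zero) (by rw [hfin]; exact hn)
  rw [hfin] at h8
  obtain ⟨X, hX⟩ := exists_gens D
  have hsq : ∀ i < N, ∀ j < N, i ≠ j → X i * X j * (X i * X j) = z := fun i hi j hj hij =>
    gens_sq D hN hsg hz1 hC.commutator_top hX hi hj hij
  have hX0 := three_of_rep (h3 (X 0) (hX 0 (by omega)).2 (by rw [(hX 0 (by omega)).1, emb_c0]))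
  have hX3 := three_all D hN hX hX0
  have hzM : repM P z = -1 := hz
  have hp2 : p ≠ 2 := by
    intro h
    apply h2
    have := CharP.cast_eq_zero F p
    rwa [h] at this
  have hm' : N + 2 = 8 ∨ N + 2 = 9 ∨ (N + 2 = 10 ∧ p = 5) := by
    by_cases h9 : N + 2 ≤ 9
    · omega
    · have hb := degree_bound p e (by omega)
      rw [h8] at hb
      have h10 : N + 2 = 10 := by
        split_ifs at hb <;> omega
      right; right
      refine ⟨h10, ?_⟩
      have hdvd : p ∣ 10 := by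
        by_contra hnd
        rw [h10, if_neg hnd] at hb
        omega
      have h5 : p ∣ 2 * 5 := hdvd
      rcases (hp.out.dvd_mul).1 h5 with h6 | h6
      · exact absurd ((Nat.prime_dvd_prime_iff_eq hp.out Nat.prime_two).1 h6) hp2
      · exact (Nat.prime_dvd_prime_iff_eq hp.out Nat.prime_five).1 h6
  let K : Subfield F := RingHom.eqLocusField (frobenius F p) (RingHom.id F)
  have hR := rels_aa hzM hX3 hsq
  have hext : ∀ i < N, pair (aa (repM P) X i) ∈ Al K (cc (aa (repM P) X)) 6 := by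
    intro i hi
    by_cases h6 : i < 6
    · exact gens_al h2 K i h6
    rcases hm' with h | h | ⟨h, h5⟩
    · omega
    · obtain rfl : N = 7 := by omega
      obtain rfl : i = 6 := by omega
      exact ext9 hR h2 K (fun w hw => scal_of_comm hC (comm_all D hN hsg h2 hzM (fun i hi => (hX i hi).1) hw))
    · obtain rfl : N = 8 := by omega
      have h50 : (5 : F) = 0 := by
        have := CharP.cast_eq_zero F p
        rw [h5] at this
        exact_mod_cast this
      have h7 := ext10 hR h2 h50 K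
        (fun w hw => scal_of_comm hC (comm_all D hN hsg h2 hzM (fun i hi => (hX i hi).1) hw))
        (fun w hw hww => nil_of_intertwine hC (intertwine D hN hsg h2 hzM hX hw) hww)
      have h67 : i = 6 ∨ i = 7 := by omega
      rcases h67 with rfl | rfl
      · exact h7.1
      · exact h7.2
  have htr : ∀ x : P, ∃ r ∈ K, tr (x : GL ι F) = r * 8 ∧ tr ((x⁻¹ : P) : GL ι F) = r * 8 := by
    intro x
    obtain ⟨r, hr, h4, h5⟩ := trace_main D hN hsg hzM h2 (fun i hi => (hX i hi).1) hX3 hsq K hext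
      (tr := Matrix.traceLinearMap ι F F) (fun x y => Matrix.trace_mul_comm x y) x
    have h1 : Matrix.traceLinearMap ι F F 1 = 8 := by
      rw [Matrix.traceLinearMap_apply, Matrix.trace_one, h8]
      norm_num
    rw [h1] at h4 h5
    exact ⟨r, hr, h4, h5⟩
  refine ⟨h8, hm', hp2, ?_, ?_⟩
  · intro g hg
    obtain ⟨r, -, h4, h5⟩ := htr ⟨g, hg⟩
    change tr g⁻¹ = r * 8 at h5
    change tr g = r * 8 at h4
    rw [h4, h5]
  · intro g hg
    obtain ⟨r, hr, h4, -⟩ := htr ⟨g, hg⟩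
    change tr g = r * 8 at h4
    have h5 : tr g ∈ K := by
      rw [h4]
      exact K.mul_mem hr (by exact_mod_cast natCast_mem K 8)
    exact h5

end Cfsg.Agent.H825.Spin
end

-- part: H825/SpinForm
section
/-!
# The spin modules of dimension eight are orthogonal (helper825)
-/

set_option autoImplicit false
set_option linter.unusedSectionVars false

namespace Cfsg.Agent.H825.Spin

open Cfsg Cfsg.Geo Matrix H915.LD Lib.AltCarmichael Module

universe u v w

theorem exists_rad {F : Type u} [Field F] {V : Type v} [AddCommGroup V] [Module F V] [FiniteDimensional F V]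
    {P : Type w} [Group P] {ρ : P →* Module.End F V} {z a b c d σ : P} (h : Cfg z a b c d σ) (hz : ρ z = -1)
    (h2 : (2 : F) ≠ 0) (h8 : finrank F V = 8) {f : V → V → F} (hadd : ∀ u v w, f u (v + w) = f u v + f u w)
    (hsm : ∀ (r : F) u v, f u (r • v) = r * f u v) (hself : ∀ v, f v v = 0)
    (hfix : ∀ x v w, f (ρ x v) (ρ x w) = f v w) : ∃ v, v ≠ 0 ∧ ∀ w, f v w = 0 := by
  have hxx := h.uni.xx
  have hyy := h.uni.yy
  have htt := h.u1.yy
  have hxy := h.uni.comm
  have hxt := h.u1.comm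
  have hyt := h.s2
  obtain ⟨hd, -⟩ := eight (ρ := ρ) h.uni h.u1 h.u2 hyt hz h2
  set x := a * b * (c * d) with hx
  set y := a⁻¹ * b * a⁻¹ * (c⁻¹ * d * c⁻¹) with hy
  rw [h8] at hd
  have h1 : finrank F (E ρ x 1 ⊓ E ρ y 1 ⊓ E ρ σ 1 : Submodule F V) = 1 := by omega
  obtain ⟨v, hv0, hv⟩ := finrank_eq_one_iff'.1 h1
  have hv1 : ρ x v = v := by
    have := mem_E.1 v.2.1.1
    rwa [one_smul] at this
  have hv2 : ρ y v = v := by
    have := mem_E.1 v.2.1.2
    rwa [one_smul] at this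
  have hv3 : ρ σ v = v := by
    have := mem_E.1 v.2.2
    rwa [one_smul] at this
  refine ⟨v, fun h => hv0 (Subtype.ext h), ?_⟩
  have key : ∀ t : P, ρ t (v : V) = v → t * t = 1 → ∀ w, f v (w + ρ t w) = 2 * f v w := by
    intro t ht htt w
    have h3 : f (v : V) (ρ t w) = f v w := by
      nth_rewrite 1 [← ht]
      exact hfix t v w
    rw [hadd, h3, two_mul]
  intro w
  set w1 := w + ρ x w with hw1
  set w2 := w1 + ρ y w1 with hw2
  set w3 := w2 + ρ σ w2 with hw3
  have e : f v w3 = 8 * f v w := by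
    rw [hw3, key σ hv3 htt, hw2, key y hv2 hyy, hw1, key x hv1 hxx]
    ring
  have sw : ∀ s t : P, s * t = t * s → ∀ u, ρ s (ρ t u) = ρ t (ρ s u) := by
    intro s t hst u
    rw [← rho_mul, ← rho_mul, hst]
  have sq : ∀ s : P, s * s = 1 → ∀ u, ρ s (ρ s u) = u := by
    intro s hs u
    rw [← rho_mul, hs, map_one]; rfl
  have f1 : ρ x w1 = w1 := by rw [hw1, map_add, sq x hxx, add_comm]
  have f2 : ρ x w2 = w2 := by rw [hw2, map_add, sw x y hxy, f1]
  have f3 : ρ x w3 = w3 := by rw [hw3, map_add, sw x σ hxt, f2]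
  have f4 : ρ y w2 = w2 := by rw [hw2, map_add, sq y hyy, add_comm]
  have f5 : ρ y w3 = w3 := by rw [hw3, map_add, sw y σ hyt, f4]
  have f6 : ρ σ w3 = w3 := by rw [hw3, map_add, sq σ htt, add_comm]
  have hw3m : w3 ∈ (E ρ x 1 ⊓ E ρ y 1 ⊓ E ρ σ 1 : Submodule F V) :=
    ⟨⟨mem_E.2 (by rw [f3, one_smul]), mem_E.2 (by rw [f5, one_smul])⟩, mem_E.2 (by rw [f6, one_smul])⟩
  obtain ⟨r, hr⟩ := hv ⟨w3, hw3m⟩
  have hr' : w3 = r • (v : V) := (congrArg Subtype.val hr).symm
  have e2 : f v w3 = 0 := by rw [hr', hsm, hself, mul_zero]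
  rw [e] at e2
  have h8' : (8 : F) ≠ 0 := by
    have : (8 : F) = 2 ^ 3 := by norm_num
    rw [this]
    exact pow_ne_zero _ h2
  exact (mul_eq_zero.1 e2).resolve_left h8'

variable {ι : Type} [Fintype ι] [DecidableEq ι] {F : Type u} [Field F] {P : Subgroup (GL ι F)} {m : ℕ}

/-- the spin modules of dimension eight fix no alternating form -/
theorem not_fixA [Finite F] (hC : Core P)
    (e : Soc P ≃* alternatingGroup (Fin m)) (hm : 8 ≤ m) (hn : Fintype.card ι ≤ 12)
    (hsc : (scalars ι F).subgroupOf P ≠ ⊥) : ¬ FixA P := by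
  rintro ⟨f, hf, hfix⟩
  have hne := hC.nonempty
  obtain ⟨h2, z, hz, hzm, hz1, hz'⟩ := (scalars_cases hC e hm).resolve_left hsc
  obtain ⟨N, rfl⟩ : ∃ N, m = N + 2 := ⟨m - 2, by omega⟩
  have D := dc_of e hz hzm hz'
  have hN : 6 ≤ N := by omega
  have hsg := prm_sign e
  have B := dbl D hN hsg hz1 hC.commutator_top
  have hzρ : rep P z = -1 := by
    rw [rep_apply, hz, map_neg, Matrix.toLin'_one]; rfl
  have hfin : Module.finrank F (ι → F) = Fintype.card ι := Module.finrank_fintype_fun_eq_card F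
  obtain ⟨h8, h3⟩ := main (ρ := rep P) D (embHom_sign (emb N hN)) B hzρ h2
    (by rw [hfin]; exact Fintype.card_ne_zero) (by rw [hfin]; exact hn)
  have hsgf := embHom_sign (emb N hN)
  obtain ⟨a, ha, ha3⟩ := D.exists_lift (c := Equiv.Perm.viaEmbeddingHom (emb N hN) c0)
    (by rw [← map_mul, ← map_mul, p5, map_one]) (by rw [hsgf, p22])
  obtain ⟨b, hb, hb3⟩ := D.exists_lift (c := Equiv.Perm.viaEmbeddingHom (emb N hN) d0)
    (by rw [← map_mul, ← map_mul, q6, map_one]) (by rw [hsgf, q8])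
  obtain ⟨c, hc, hc3⟩ := D.exists_lift (c := Equiv.Perm.viaEmbeddingHom (emb N hN) c4)
    (by rw [← map_mul, ← map_mul, q5, map_one]) (by rw [hsgf, q9])
  obtain ⟨d, hd, hd3⟩ := D.exists_lift (c := Equiv.Perm.viaEmbeddingHom (emb N hN) d4)
    (by rw [← map_mul, ← map_mul, q7, map_one]) (by rw [hsgf, q10])
  obtain ⟨σ, h⟩ := exists_cfg D hsgf B ha hb hc hd ha3 hb3 hc3 hd3
  obtain ⟨v, hv0, hv⟩ := exists_rad (ρ := rep P) h hzρ h2 h8 (f := f) hf.bilinear.add_right hf.bilinear.smul_right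
    hf.alternating (fun x v w => hfix _ ⟨x, x.2, rfl⟩ v w)
  obtain ⟨w, hw⟩ := (hf.nondegenerate v hv0).2
  exact hw (hv w)

/-- **Double covers of `A_m`, `m ≥ 8`, dimension at most `12`** -/
theorem spin_fixQ [Finite F] (hC : Core P) (p : ℕ) [hp : Fact p.Prime] [CharP F p]
    (e : Soc P ≃* alternatingGroup (Fin m)) (hm : 8 ≤ m) (hn : Fintype.card ι ≤ 12)
    (hsc : (scalars ι F).subgroupOf P ≠ ⊥) : FixQ P :=
  (hC.forms_of_sd (spin_core hC p e hm hn hsc).2.2.2.1).resolve_right (not_fixA hC e hm hn hsc)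

/-- in dimension different from eight the scalars are trivial -/
theorem scalars_eq_bot [Finite F] (hC : Core P) (p : ℕ) [hp : Fact p.Prime] [CharP F p]
    (e : Soc P ≃* alternatingGroup (Fin m)) (hm : 8 ≤ m) (hn : Fintype.card ι ≤ 12) (h8 : Fintype.card ι ≠ 8) :
    (scalars ι F).subgroupOf P = ⊥ := by
  by_contra h
  exact h8 (spin_core hC p e hm hn h).1

/-- **Reduction**: a core with simple quotient `A_m`, `m ≥ 8`, in dimension at most `12` is `A_m` itself, or the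
dimension is eight and `m ≤ 9`, or `m = 10` and `p = 5`. -/
theorem alt_red [Finite F] (hC : Core P) (p : ℕ) [hp : Fact p.Prime] [CharP F p]
    (e : Soc P ≃* alternatingGroup (Fin m)) (hm : 8 ≤ m) (hn : Fintype.card ι ≤ 12) :
    (∃ e' : P ≃* alternatingGroup (Fin m), ∀ x, e' x = e (toSoc P x)) ∨
      (Fintype.card ι = 8 ∧ (m = 8 ∨ m = 9 ∨ (m = 10 ∧ p = 5)) ∧ p ≠ 2 ∧ SD P ∧ Fr P p ∧ FixQ P ∧ ¬ FixA P) := by
  by_cases hsc : (scalars ι F).subgroupOf P = ⊥
  · exact Or.inl (equiv_of_scalars e hsc)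
  · obtain ⟨h1, h2, h3, h4, h5⟩ := spin_core hC p e hm hn hsc
    exact Or.inr ⟨h1, h2, h3, h4, h5, spin_fixQ hC p e hm hn hsc, not_fixA hC e hm hn hsc⟩

end Cfsg.Agent.H825.Spin
end

private theorem dce_14e3addcc88b : _root_.True := by
  try have : _root_.True := by simp only [_root_.Cfsg.Agent.H825.Spin.sg.eq_1]
  try have : _root_.True := by simp only [_root_.Cfsg.Agent.H825.Spin.v9.eq_4]
  try have : _root_.True := by simp only [_root_.Cfsg.Agent.H825.Spin.v9.eq_8]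
  try have : _root_.True := by simp only [_root_.Cfsg.Agent.H825.Spin.v10.eq_7]
  try have : _root_.True := by simp only [_root_.Cfsg.Agent.H825.Spin.v10.eq_9]
  try have : _root_.True := by simp only [_root_.Cfsg.Agent.H825.Spin.U.eq_1]
  try have : _root_.True := by simp only [_root_.Cfsg.Agent.H825.Spin.sb.eq_1]
  try have : _root_.True := by simp only [_root_.Cfsg.Agent.H825.Spin.w10.eq_1]
  try have : _root_.True := by simp only [_root_.Cfsg.Agent.H825.Spin.vb.eq_1]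
  try have : _root_.True := by simp only [_root_.Cfsg.Agent.H825.Spin.v9.eq_2]
  try have : _root_.True := by simp only [_root_.Cfsg.Agent.H825.Spin.L.eq_1]
  try have : _root_.True := by simp only [_root_.Cfsg.Agent.H825.Spin.ee.eq_1]
  try have : _root_.True := by simp only [_root_.Cfsg.Agent.H825.Spin.v9.eq_3]
  try have : _root_.True := by simp only [_root_.Cfsg.Agent.H825.Spin.v9.eq_6]
  try have : _root_.True := by simp only [_root_.Cfsg.Agent.H825.Spin.bil.eq_1]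
  try have : _root_.True := by simp only [_root_.Cfsg.Agent.H825.Spin.v10.eq_1]
  try have : _root_.True := by simp only [_root_.Cfsg.Agent.H825.Spin.v9.eq_5]
  try have : _root_.True := by simp only [_root_.Cfsg.Agent.H825.Spin.v9.eq_7]
  try have : _root_.True := by simp only [_root_.Cfsg.Agent.H825.Spin.sb.eq_7]
  try have : _root_.True := by simp only [_root_.Cfsg.Agent.H825.Spin.vb.eq_7]
  try have : _root_.True := by simp only [_root_.Cfsg.Agent.H825.Spin.vb.eq_5]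
  try have : _root_.True := by simp only [_root_.Cfsg.Agent.H825.Spin.sb.eq_5]
  try have : _root_.True := by simp only [_root_.Cfsg.Agent.H825.Spin.Z.eq_1]
  try have : _root_.True := by simp only [_root_.Cfsg.Agent.H825.Spin.sg.eq_2]
  try have : _root_.True := by simp only [_root_.Cfsg.Agent.H825.Spin.sb.eq_6]
  try have : _root_.True := by simp only [_root_.Cfsg.Agent.H825.Spin.vb.eq_6]
  try have : _root_.True := by simp only [_root_.Cfsg.Agent.H825.Spin.sb.eq_3]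
  try have : _root_.True := by simp only [_root_.Cfsg.Agent.H825.Spin.w10.eq_3]
  try have : _root_.True := by simp only [_root_.Cfsg.Agent.H825.Spin.vb.eq_3]
  try have : _root_.True := by simp only [_root_.Cfsg.Agent.H825.Spin.c0.eq_1]
  try have : _root_.True := by simp only [_root_.Cfsg.Agent.H825.Spin.v10.eq_4]
  try have : _root_.True := by simp only [_root_.Cfsg.Agent.H825.Spin.v10.eq_8]
  try have : _root_.True := by simp only [_root_.Cfsg.Agent.H825.Spin.ee.eq_2]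
  try have : _root_.True := by simp only [_root_.Cfsg.Agent.H825.Spin.v10.eq_6]
  try have : _root_.True := by simp only [_root_.Cfsg.Agent.H825.Spin.w10.eq_2]
  try have : _root_.True := by simp only [_root_.Cfsg.Agent.H825.Spin.sb.eq_2]
  try have : _root_.True := by simp only [_root_.Cfsg.Agent.H825.Spin.vb.eq_2]
  try have : _root_.True := by simp only [_root_.Cfsg.Agent.H825.Spin.bb.eq_1]
  try have : _root_.True := by simp only [_root_.Cfsg.Agent.H825.Spin.v9.eq_1]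
  try have : _root_.True := by simp only [_root_.Cfsg.Agent.H825.Spin.d0.eq_1]
  try have : _root_.True := by simp only [_root_.Cfsg.Agent.H825.Spin.v10.eq_5]
  try have : _root_.True := by simp only [_root_.Cfsg.Agent.H825.Spin.v10.eq_2]
  try have : _root_.True := by simp only [_root_.Cfsg.Agent.H825.Spin.sb.eq_4]
  try have : _root_.True := by simp only [_root_.Cfsg.Agent.H825.Spin.vb.eq_4]
  try have : _root_.True := by simp only [_root_.Cfsg.Agent.H825.Spin.ee.eq_def]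
  try have : _root_.True := by simp only [_root_.Cfsg.Agent.H825.Spin.v10.eq_3]
  try have : _root_.True := by simp only [_root_.Cfsg.Agent.H825.Spin.Qb.eq_1]
  try have : _root_.True := by simp only [_root_.Cfsg.Agent.H825.Spin.Q.eq_1]
  exact _root_.True.intro
end
end
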