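import Cfsg.Agent.H614.AMod.EightF_m3
import Cfsg.Agent.H906.Cover_m3
import Cfsg.Agent.H943.TracePow
import Cfsg.Agent.FastGrp
import Cfsg.Agent.Prune
set_option linter.all false

section
prune_inst 0x7fffedfdbbb8f9dfffff7e7fa6decffdfdbfbfffa4dff9cbffe069ff8b9f5b02c9e5fbad8beb52fe1ef7c23410e87b43fdfffeffea6bdc7ffffd5ff41ffbffdffdf7b50851d4883e1fbc2ff783f0778e7f3fffffffffffffffffffffffffffbeffbfffffffff

-- part: H614/AMod/Recog
section
prune_inst 0x1202044404000000018059211002004040005b200630000e86006440a48c361a005274108d0141002dc9ec1400980200010001902100000200086004000002084ab62e2b3481004350087809805000000000000000000000000000000000004000000000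
set_option linter.all false
open scoped Cfsg.Agent.FastGrp

/-!
# Recognition of the natural module of `Alt α`, `|α| ≥ 8`

If `V` is an irreducible non-trivial module and disjoint 3-cycles satisfy `(c - 1)(c' - 1) = 0`, then `V` is
spanned by vectors `F i j` with `F i j + F j k = F i k`, permuted by the group (`natural`).
-/

set_option autoImplicit false
set_option linter.unusedSectionVars false

namespace Cfsg.Agent.H614.AMod

open Equiv Equiv.Perm

variable {α : Type*} [Fintype α] [DecidableEq α]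

/-- three points of eight -/
def f3 (i j k : Fin 8) (h : i ≠ j ∧ j ≠ k ∧ i ≠ k := by decide) : Fin 3 ↪ Fin 8 := emb3 i j k h.1 h.2.1 h.2.2

/-- the 3-cycle -/
def T (q : Fin 8 ↪ α) (i j k : Fin 8) (h : i ≠ j ∧ j ≠ k ∧ i ≠ k := by decide) : alternatingGroup α :=
  ex ((f3 i j k h).trans q) c3

theorem coe_T (q : Fin 8 ↪ α) (i j k : Fin 8) (h : i ≠ j ∧ j ≠ k ∧ i ≠ k) :
    ((T q i j k h : alternatingGroup α) : Perm α) = swap (q i) (q j) * swap (q j) (q k) := by
  unfold T
  rw [coe_c3]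
  rfl

theorem T_apply_fst (q : Fin 8 ↪ α) (i j k : Fin 8) (h : i ≠ j ∧ j ≠ k ∧ i ≠ k) :
    ((T q i j k h : alternatingGroup α) : Perm α) (q i) = q j := by
  rw [coe_T, Perm.mul_apply, swap_apply_of_ne_of_ne (q.injective.ne h.1) (q.injective.ne h.2.2), swap_apply_left]

theorem T_apply_snd (q : Fin 8 ↪ α) (i j k : Fin 8) (h : i ≠ j ∧ j ≠ k ∧ i ≠ k) :
    ((T q i j k h : alternatingGroup α) : Perm α) (q j) = q k := by
  rw [coe_T, Perm.mul_apply, swap_apply_left, swap_apply_of_ne_of_ne (q.injective.ne h.2.2.symm)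
    (q.injective.ne h.2.1.symm)]

theorem T_apply_thd (q : Fin 8 ↪ α) (i j k : Fin 8) (h : i ≠ j ∧ j ≠ k ∧ i ≠ k) :
    ((T q i j k h : alternatingGroup α) : Perm α) (q k) = q i := by
  rw [coe_T, Perm.mul_apply, swap_apply_right, swap_apply_right]

theorem T_apply_of_ne (q : Fin 8 ↪ α) (i j k : Fin 8) (h : i ≠ j ∧ j ≠ k ∧ i ≠ k) {x : α} (hi : x ≠ q i) (hj : x ≠ q j)
    (hk : x ≠ q k) : ((T q i j k h : alternatingGroup α) : Perm α) x = x := by
  rw [coe_T, Perm.mul_apply, swap_apply_of_ne_of_ne hj hk, swap_apply_of_ne_of_ne hi hj]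

theorem T_conj (q : Fin 8 ↪ α) (i j k i' j' k' : Fin 8) (h : i ≠ j ∧ j ≠ k ∧ i ≠ k) (h' : i' ≠ j' ∧ j' ≠ k' ∧ i' ≠ k')
    (g : alternatingGroup α) (h1 : (g : Perm α) (q i) = q i') (h2 : (g : Perm α) (q j) = q j')
    (h3 : (g : Perm α) (q k) = q k') : g * T q i j k h * g⁻¹ = T q i' j' k' h' := by
  apply ex_conj
  intro l
  fin_cases l
  · exact h1
  · exact h2
  · exact h3

theorem exists_emb (h8 : 8 ≤ Fintype.card α) : Nonempty (Fin 8 ↪ α) :=
  Function.Embedding.nonempty_of_card_le (by simpa only [_root_.Fintype.card_fin] using h8)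

/-- the basic pair of disjoint 3-cycles in `Alt (Fin 6)` -/
def d1 : alternatingGroup (Fin 6) := ⟨swap 0 1 * swap 1 2, by rw [mem_alternatingGroup]; decide⟩
def d2 : alternatingGroup (Fin 6) := ⟨swap 3 4 * swap 4 5, by rw [mem_alternatingGroup]; decide⟩

variable {K V : Type*} [Field K] [AddCommGroup V] [Module K V] (ρ : Representation K (alternatingGroup α) V)

/-- disjoint 3-cycles act independently -/
def Indep : Prop := ∀ e : Fin 6 ↪ α, ex e d2 ∈ pst ρ (U ρ (ex e d1))

theorem ex_eq_of_coe {k : ℕ} (e : Fin k ↪ α) (e3 : Fin 3 ↪ α) (i j l : Fin k) (σ : alternatingGroup (Fin k))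
    (hσ : (σ : Perm (Fin k)) = swap i j * swap j l) (hij : i ≠ j) (hjl : j ≠ l) (hil : i ≠ l)
    (h0 : e3 0 = e i) (h1 : e3 1 = e j) (h2 : e3 2 = e l) : ex e σ = ex e3 c3 := by
  have h := ex_congr e e3 (emb3 i j l hij hjl hil) (by
    intro t
    fin_cases t
    · exact h0
    · exact h1
    · exact h2) c3
  rw [h]
  congr 1
  apply Subtype.ext
  rw [hσ, coe_c3]
  rfl

/-- six points from two triples -/
def emb6 (e e' : Fin 3 ↪ α) (h : ∀ i j, e i ≠ e' j) : Fin 6 ↪ α :=
  ⟨![e 0, e 1, e 2, e' 0, e' 1, e' 2], by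
    have h01 : e 0 ≠ e 1 := e.injective.ne (by decide)
    have h02 : e 0 ≠ e 2 := e.injective.ne (by decide)
    have h12 : e 1 ≠ e 2 := e.injective.ne (by decide)
    have g01 : e' 0 ≠ e' 1 := e'.injective.ne (by decide)
    have g02 : e' 0 ≠ e' 2 := e'.injective.ne (by decide)
    have g12 : e' 1 ≠ e' 2 := e'.injective.ne (by decide)
    have h' : ∀ i j, e' j ≠ e i := fun i j => (h i j).symm
    intro i j hij
    fin_cases i <;> fin_cases j <;> simp_all only [h01.symm, h02.symm, h12.symm, g01.symm, g02.symm, g12.symm, _root_.ne_eq, _root_.Fin.isValue, _root_.EmbeddingLike.apply_eq_iff_eq, _root_.zero_ne_one, _root_.not_false_eq_true, _root_.Fin.reduceEq, _root_.Fin.zero_eta, _root_.Matrix.cons_val_zero, _root_.Fin.mk_one, _root_.Matrix.cons_val_one, _root_.Fin.reduceFinMk, _root_.Matrix.cons_val]⟩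

theorem Indep.disj {ρ : Representation K (alternatingGroup α) V} (hD : Indep ρ) (e e' : Fin 3 ↪ α)
    (h : ∀ i j, e i ≠ e' j) : ex e' c3 ∈ pst ρ (U ρ (ex e c3)) := by
  have h1 := hD (emb6 e e' h)
  have h2 : ex (emb6 e e' h) d1 = ex e c3 :=
    ex_eq_of_coe (emb6 e e' h) e 0 1 2 d1 rfl (by decide) (by decide) (by decide) rfl rfl rfl
  have h3 : ex (emb6 e e' h) d2 = ex e' c3 :=
    ex_eq_of_coe (emb6 e e' h) e' 3 4 5 d2 rfl (by decide) (by decide) (by decide) rfl rfl rfl
  rwa [h2, h3] at h1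

/-- elements fixing the points of a 3-cycle fix its commutator space -/
theorem Indep.off {ρ : Representation K (alternatingGroup α) V} (hD : Indep ρ) (h8 : 8 ≤ Fintype.card α)
    (e : Fin 3 ↪ α) (g : alternatingGroup α) (hg : ∀ i, (g : Perm α) (e i) = e i) : g ∈ pst ρ (U ρ (ex e c3)) := by
  obtain ⟨x, hx⟩ : ∃ x, x ∉ Finset.univ.map e := by
    by_contra hne
    push Not at hne
    have h1 : (Finset.univ : Finset α) ⊆ Finset.univ.map e := fun x _ => hne x
    have h2 := Finset.card_le_card h1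
    rw [Finset.card_map, Finset.card_univ, Finset.card_univ, Fintype.card_fin] at h2
    omega
  obtain ⟨y, hy⟩ : ∃ y, y ∉ insert x (Finset.univ.map e) := by
    by_contra hne
    push Not at hne
    have h1 : (Finset.univ : Finset α) ⊆ insert x (Finset.univ.map e) := fun x _ => hne x
    have h2 := (Finset.card_le_card h1).trans (Finset.card_insert_le _ _)
    rw [Finset.card_map, Finset.card_univ, Finset.card_univ, Fintype.card_fin] at h2
    omega
  have hyx : y ≠ x := fun h => hy (h ▸ Finset.mem_insert_self _ _)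
  have hy' : ∀ i, e i ≠ y := by
    intro i hi
    exact hy (Finset.mem_insert_of_mem (Finset.mem_map.mpr ⟨i, Finset.mem_univ _, hi⟩))
  have hx' : ∀ i, e i ≠ x := by
    intro i hi
    exact hx (Finset.mem_map.mpr ⟨i, Finset.mem_univ _, hi⟩)
  apply mem_of_cyc (pst ρ (U ρ (ex e c3))) {z | ∀ i, e i ≠ z} hx' hy' hyx.symm
  · intro e' h0 h1 h2
    apply hD.disj e e'
    intro i j
    fin_cases j
    · show e i ≠ e' 0
      rw [h0]; exact hx' i
    · show e i ≠ e' 1
      rw [h1]; exact hy' i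
    · exact h2 i
  · intro z hz
    simp only [Set.mem_setOf_eq, not_forall, not_not] at hz
    obtain ⟨i, rfl⟩ := hz
    exact hg i

section main

variable [FiniteDimensional K V]

/-- the two triples `(0 1 2)`, `(0 1 3)` -/
def t012 : Fin 3 ↪ Fin 4 := ⟨![0, 1, 2], by decide⟩
def t013 : Fin 3 ↪ Fin 4 := ⟨![0, 1, 3], by decide⟩

theorem finrank_const (h8 : 8 ≤ Fintype.card α) (e e' : Fin 3 ↪ α) :
    Module.finrank K (U ρ (ex e c3)) = Module.finrank K (U ρ (ex e' c3)) := by
  obtain ⟨g, hg⟩ := exists_move (by omega) e e'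
  rw [← ex_conj e e' c3 g hg, finrank_U_conj]

theorem inter_ne_bot {ρ : Representation K (alternatingGroup α) V} (hD : Indep ρ) (h8 : 8 ≤ Fintype.card α)
    (hirr : Irr ρ) {g₀ : alternatingGroup α} {v₀ : V} (hne : ρ g₀ v₀ ≠ v₀) (e : Fin 4 ↪ α) :
    U ρ (ex (t012.trans e) c3) ⊓ U ρ (ex (t013.trans e) c3) ≠ ⊥ := by
  intro hbot
  have hall : ∀ e' : Fin 4 ↪ α, U ρ (ex (t012.trans e') c3) ⊓ U ρ (ex (t013.trans e') c3) = ⊥ := by
    intro e'
    obtain ⟨g, hg⟩ := exists_move (by omega) e e'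
    rw [← ex_conj (t012.trans e) (t012.trans e') c3 g (fun i => hg _),
      ← ex_conj (t013.trans e) (t013.trans e') c3 g (fun i => hg _)]
    exact map_inf_conj ρ _ _ _ hbot
  obtain ⟨q⟩ := exists_emb h8
  set W : Submodule K V := U ρ (T q 0 1 2) ⊔ U ρ (T q 2 3 4) with hW
  set d := Module.finrank K (U ρ (T q 0 1 2)) with hd
  have hdim : ∀ e : Fin 3 ↪ α, Module.finrank K (U ρ (ex e c3)) = d := fun e => finrank_const ρ h8 _ _
  have hWd : Module.finrank K W ≤ 2 * d := by
    have h1 := Submodule.finrank_sup_add_finrank_inf_eq (U ρ (T q 0 1 2)) (U ρ (T q 2 3 4))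
    have h2 : Module.finrank K (U ρ (T q 2 3 4)) = d := hdim _
    rw [← hd, h2, ← hW] at h1
    omega
  -- pairs
  have hpair : ∀ (i j k l : Fin 8) (h : i ≠ j ∧ j ≠ k ∧ i ≠ k) (h' : i ≠ j ∧ j ≠ l ∧ i ≠ l) (hkl : k ≠ l),
      U ρ (T q i j k h) ≤ W → U ρ (T q i j l h') ≤ W → U ρ (T q i j k h) ⊔ U ρ (T q i j l h') = W := by
    intro i j k l h h' hkl hk hl
    apply Submodule.eq_of_le_of_finrank_le (sup_le hk hl)
    have h1 := Submodule.finrank_sup_add_finrank_inf_eq (U ρ (T q i j k h)) (U ρ (T q i j l h'))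
    have e4 : Fin 4 ↪ α := ⟨![q i, q j, q k, q l], by
      have a1 := h.1; have a2 := h.2.1; have a3 := h.2.2; have a4 := h'.2.1; have a5 := h'.2.2
      have hinj : Function.Injective ![i, j, k, l] := by
        intro s t hst
        fin_cases s <;> fin_cases t <;> simp_all only [a1.symm, a2.symm, a3.symm, a4.symm, a5.symm, hkl.symm, _root_.ne_eq, _root_.Fin.isValue, _root_.not_false_eq_true, _root_.Nat.succ_eq_add_one, _root_.Nat.reduceAdd, _root_.Fin.zero_eta, _root_.Matrix.cons_val_zero, _root_.Fin.mk_one, _root_.Matrix.cons_val_one, _root_.Fin.reduceFinMk, _root_.Matrix.cons_val]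
      have : ![q i, q j, q k, q l] = q ∘ ![i, j, k, l] := by
        funext s; fin_cases s <;> rfl
      rw [this]
      exact q.injective.comp hinj⟩
    have h2 : U ρ (T q i j k h) ⊓ U ρ (T q i j l h') = ⊥ := by
      have a1 := h.1; have a2 := h.2.1; have a3 := h.2.2; have a4 := h'.2.1; have a5 := h'.2.2
      have hinj : Function.Injective ![i, j, k, l] := by
        intro s t hst
        fin_cases s <;> fin_cases t <;> simp_all only [a1.symm, a2.symm, a3.symm, a4.symm, a5.symm, hkl.symm, _root_.ne_eq, _root_.Fin.isValue, _root_.not_false_eq_true, _root_.Nat.succ_eq_add_one, _root_.Nat.reduceAdd, _root_.Fin.zero_eta, _root_.Matrix.cons_val_zero, _root_.Fin.mk_one, _root_.Matrix.cons_val_one, _root_.Fin.reduceFinMk, _root_.Matrix.cons_val]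
      have h3 := hall ((⟨![i, j, k, l], hinj⟩ : Fin 4 ↪ Fin 8).trans q)
      have h4 : t012.trans ((⟨![i, j, k, l], hinj⟩ : Fin 4 ↪ Fin 8).trans q) = (f3 i j k h).trans q := by
        ext s; fin_cases s <;> rfl
      have h5 : t013.trans ((⟨![i, j, k, l], hinj⟩ : Fin 4 ↪ Fin 8).trans q) = (f3 i j l h').trans q := by
        ext s; fin_cases s <;> rfl
      rw [h4, h5] at h3
      exact h3
    have h6 : Module.finrank K (U ρ (T q i j k h)) = d := hdim _
    have h7 : Module.finrank K (U ρ (T q i j l h')) = d := hdim _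
    rw [h2, finrank_bot, h6, h7] at h1
    omega
  -- membership in W
  have hinj := q.injective
  have ma : T q 0 1 2 ∈ triv ρ W := (U_le_iff ρ).mp le_sup_left
  have mb : T q 2 3 4 ∈ triv ρ W := (U_le_iff ρ).mp le_sup_right
  have m013 : T q 0 1 3 ∈ triv ρ W := by
    have h1 : T q 2 3 4 * T q 0 1 2 * (T q 2 3 4)⁻¹ = T q 0 1 3 := by
      apply T_conj
      · exact T_apply_of_ne _ _ _ _ _ (hinj.ne (by decide)) (hinj.ne (by decide)) (hinj.ne (by decide))
      · exact T_apply_of_ne _ _ _ _ _ (hinj.ne (by decide)) (hinj.ne (by decide)) (hinj.ne (by decide))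
      · exact T_apply_fst _ _ _ _ _
    rw [← h1]
    exact mul_mem (mul_mem mb ma) (inv_mem mb)
  have m014 : T q 0 1 4 ∈ triv ρ W := by
    have h1 : T q 2 3 4 * T q 0 1 3 * (T q 2 3 4)⁻¹ = T q 0 1 4 := by
      apply T_conj
      · exact T_apply_of_ne _ _ _ _ _ (hinj.ne (by decide)) (hinj.ne (by decide)) (hinj.ne (by decide))
      · exact T_apply_of_ne _ _ _ _ _ (hinj.ne (by decide)) (hinj.ne (by decide)) (hinj.ne (by decide))
      · exact T_apply_snd _ _ _ _ _
    rw [← h1]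
    exact mul_mem (mul_mem mb m013) (inv_mem mb)
  have mb' : T q 3 4 2 ∈ triv ρ W := by
    have h1 : T q 2 3 4 * T q 2 3 4 * (T q 2 3 4)⁻¹ = T q 3 4 2 :=
      T_conj q _ _ _ _ _ _ _ _ _ (T_apply_fst _ _ _ _ _) (T_apply_snd _ _ _ _ _) (T_apply_thd _ _ _ _ _)
    rw [← h1]
    exact mul_mem (mul_mem mb mb) (inv_mem mb)
  have m340 : T q 3 4 0 ∈ triv ρ W := by
    have h1 : T q 0 1 2 * T q 3 4 2 * (T q 0 1 2)⁻¹ = T q 3 4 0 := by
      apply T_conj
      · exact T_apply_of_ne _ _ _ _ _ (hinj.ne (by decide)) (hinj.ne (by decide)) (hinj.ne (by decide))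
      · exact T_apply_of_ne _ _ _ _ _ (hinj.ne (by decide)) (hinj.ne (by decide)) (hinj.ne (by decide))
      · exact T_apply_thd _ _ _ _ _
    rw [← h1]
    exact mul_mem (mul_mem ma mb') (inv_mem ma)
  have m341 : T q 3 4 1 ∈ triv ρ W := by
    have h1 : T q 0 1 2 * T q 3 4 0 * (T q 0 1 2)⁻¹ = T q 3 4 1 := by
      apply T_conj
      · exact T_apply_of_ne _ _ _ _ _ (hinj.ne (by decide)) (hinj.ne (by decide)) (hinj.ne (by decide))
      · exact T_apply_of_ne _ _ _ _ _ (hinj.ne (by decide)) (hinj.ne (by decide)) (hinj.ne (by decide))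
      · exact T_apply_fst _ _ _ _ _
    rw [← h1]
    exact mul_mem (mul_mem ma m340) (inv_mem ma)
  -- the five descriptions of W
  have w4 := hpair 0 1 2 3 (by decide) (by decide) (by decide) ((U_le_iff ρ).mpr ma) ((U_le_iff ρ).mpr m013)
  have w2 := hpair 0 1 3 4 (by decide) (by decide) (by decide) ((U_le_iff ρ).mpr m013) ((U_le_iff ρ).mpr m014)
  have w3 := hpair 0 1 2 4 (by decide) (by decide) (by decide) ((U_le_iff ρ).mpr ma) ((U_le_iff ρ).mpr m014)
  have w1 := hpair 3 4 2 0 (by decide) (by decide) (by decide) ((U_le_iff ρ).mpr mb') ((U_le_iff ρ).mpr m340)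
  have w0 := hpair 3 4 2 1 (by decide) (by decide) (by decide) ((U_le_iff ρ).mpr mb') ((U_le_iff ρ).mpr m341)
  -- everything fixes W
  have hoff : ∀ (i j k l : Fin 8) (h : i ≠ j ∧ j ≠ k ∧ i ≠ k) (h' : i ≠ j ∧ j ≠ l ∧ i ≠ l) (g : alternatingGroup α),
      (g : Perm α) (q i) = q i → (g : Perm α) (q j) = q j → (g : Perm α) (q k) = q k → (g : Perm α) (q l) = q l →
      g ∈ pst ρ (U ρ (T q i j k h) ⊔ U ρ (T q i j l h')) := by
    intro i j k l h h' g gi gj gk gl
    apply mem_pst_sup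
    · apply hD.off h8
      intro s
      fin_cases s
      · exact gi
      · exact gj
      · exact gk
    · apply hD.off h8
      intro s
      fin_cases s
      · exact gi
      · exact gj
      · exact gl
  have htop : pst ρ W = ⊤ := by
    rw [eq_top_iff]
    intro g _
    apply mem_of_cyc (pst ρ W) Set.univ (x := q 5) (y := q 6) trivial trivial (hinj.ne (by decide))
    · intro e' h0 h1 _
      -- the 3-cycle fixes every point different from q 5, q 6, e' 2
      have hfix : ∀ z, z ≠ q 5 → z ≠ q 6 → z ≠ e' 2 → ((ex e' c3 : alternatingGroup α) : Perm α) z = z := by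
        intro z h5 h6 h7
        apply ex_of_notMem
        intro i
        fin_cases i
        · exact fun h => h5 (by rw [← h]; exact h0)
        · exact fun h => h6 (by rw [← h]; exact h1)
        · exact fun h => h7 h.symm
      have hq : ∀ i : Fin 8, i ≠ 5 → i ≠ 6 → q i ≠ e' 2 → ((ex e' c3 : alternatingGroup α) : Perm α) (q i) = q i :=
        fun i h5 h6 h7 => hfix _ (hinj.ne h5) (hinj.ne h6) h7
      by_cases z0 : e' 2 = q 0
      · rw [← w0]
        apply hoff <;> apply hq <;> first | decide | (rw [z0]; exact hinj.ne (by decide))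
      by_cases z1 : e' 2 = q 1
      · rw [← w1]
        apply hoff <;> apply hq <;> first | decide | (rw [z1]; exact hinj.ne (by decide))
      by_cases z2 : e' 2 = q 2
      · rw [← w2]
        apply hoff <;> apply hq <;> first | decide | (rw [z2]; exact hinj.ne (by decide))
      by_cases z3 : e' 2 = q 3
      · rw [← w3]
        apply hoff <;> apply hq <;> first | decide | (rw [z3]; exact hinj.ne (by decide))
      · rw [← w4]
        exact hoff 0 1 2 3 _ _ _ (hq 0 (by decide) (by decide) fun h => z0 h.symm)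
          (hq 1 (by decide) (by decide) fun h => z1 h.symm) (hq 2 (by decide) (by decide) fun h => z2 h.symm)
          (hq 3 (by decide) (by decide) fun h => z3 h.symm)
    · intro z hz
      exact absurd trivial hz
  have hWne : W ≠ ⊥ := by
    intro hW0
    have hcyc : T q 0 1 2 ∈ triv ρ (⊥ : Submodule K V) := by rw [← hW0]; exact ma
    have h3 : ∀ g : alternatingGroup α, g ∈ triv ρ (⊥ : Submodule K V) := by
      intro g
      apply mem_of_cyc (triv ρ ⊥) Set.univ (x := q 5) (y := q 6) trivial trivial (hinj.ne (by decide))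
      · intro e' _ _ _
        obtain ⟨g, hg⟩ := exists_move (by omega) ((f3 0 1 2).trans q) e'
        rw [← ex_conj _ e' c3 g hg]
        intro v
        rw [Submodule.mem_bot, sub_eq_zero, rho_mul, rho_mul]
        have h4 := hcyc (ρ g⁻¹ v)
        rw [Submodule.mem_bot, sub_eq_zero] at h4
        have h5 : ρ (ex ((f3 0 1 2).trans q) c3) (ρ g⁻¹ v) = ρ g⁻¹ v := h4
        rw [h5, rho_self_inv]
      · intro z hz
        exact absurd trivial hz
    have h4 := h3 g₀ v₀
    rw [Submodule.mem_bot, sub_eq_zero] at h4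
    exact hne h4
  exact pst_ne_top ρ hirr hne hWne htop

end main

end Cfsg.Agent.H614.AMod

private theorem dce_d9fd392fcd17 : _root_.True := by
  try have : _root_.True := by simp only [_root_.Cfsg.Agent.H614.AMod.T.congr_simp]
  exact _root_.True.intro
end

-- part: H614/AMod/Natural
section
prune_inst 0x12024444062000000180592030000040000052200430000086006040a4ad2602005264108d00c1082188cc16001002000100110422000000a0004004000002080ab5222b3580c04340087000884000000000000000000000000000000041004000000000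
set_option linter.all false
open scoped Cfsg.Agent.FastGrp

/-!
# The natural module of `Alt α`

`natural` : see `Recog`.
-/

set_option autoImplicit false
set_option linter.unusedSectionVars false

namespace Cfsg.Agent.H614.AMod

open Equiv Equiv.Perm

variable {α : Type*} [Fintype α] [DecidableEq α]
variable {K V : Type*} [Field K] [AddCommGroup V] [Module K V] [FiniteDimensional K V]

/-- `(0 1)(5 6)` -/
def tau : alternatingGroup (Fin 8) := ⟨swap 0 1 * swap 5 6, by rw [mem_alternatingGroup]; decide⟩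

theorem tau_apply_zero (q : Fin 8 ↪ α) : ((ex q tau : alternatingGroup α) : Perm α) (q 0) = q 1 := by
  rw [ex_apply]; rfl
theorem tau_apply_one (q : Fin 8 ↪ α) : ((ex q tau : alternatingGroup α) : Perm α) (q 1) = q 0 := by
  rw [ex_apply]; rfl

section

variable {ρ : Representation K (alternatingGroup α) V}

/-- an element of `U(012) ⊓ U(013)` is fixed by the stabilizer of `0, 1` -/
theorem fixed_of_inter (hD : Indep ρ) (h8 : 8 ≤ Fintype.card α) (q : Fin 8 ↪ α) {f : V}
    (h2 : f ∈ U ρ (T q 0 1 2)) (h3 : f ∈ U ρ (T q 0 1 3)) (g : alternatingGroup α)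
    (g0 : (g : Perm α) (q 0) = q 0) (g1 : (g : Perm α) (q 1) = q 1) : ρ g f = f := by
  have hinj := q.injective
  have hfin : ∀ g : alternatingGroup α, g ∈ pst ρ (Submodule.span K {f}) ↔ ρ g f = f := by
    intro g
    rw [mem_pst]
    constructor
    · intro h
      exact h f (Submodule.mem_span_singleton_self f)
    · intro h w hw
      obtain ⟨c, rfl⟩ := Submodule.mem_span_singleton.mp hw
      rw [map_smul, h]
  rw [← hfin]
  apply mem_of_cyc (pst ρ (Submodule.span K {f})) {z | z ≠ q 0 ∧ z ≠ q 1} (x := q 5) (y := q 6)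
    ⟨hinj.ne (by decide), hinj.ne (by decide)⟩ ⟨hinj.ne (by decide), hinj.ne (by decide)⟩ (hinj.ne (by decide))
  · intro e' h0 h1 hz
    rw [hfin]
    have hfix : ∀ z, z ≠ q 5 → z ≠ q 6 → z ≠ e' 2 → ((ex e' c3 : alternatingGroup α) : Perm α) z = z := by
      intro z h5 h6 h7
      apply ex_of_notMem
      intro i
      fin_cases i
      · exact fun h => h5 (by rw [← h]; exact h0)
      · exact fun h => h6 (by rw [← h]; exact h1)
      · exact fun h => h7 h.symm
    by_cases z2 : e' 2 = q 2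
    · refine hD.off h8 _ _ ?_ f h3
      intro i
      fin_cases i
      · exact hfix _ (hinj.ne (by decide)) (hinj.ne (by decide)) hz.1.symm
      · exact hfix _ (hinj.ne (by decide)) (hinj.ne (by decide)) hz.2.symm
      · refine hfix (q 3) (hinj.ne (by decide)) (hinj.ne (by decide)) ?_
        rw [z2]
        exact hinj.ne (by decide)
    · refine hD.off h8 _ _ ?_ f h2
      intro i
      fin_cases i
      · exact hfix _ (hinj.ne (by decide)) (hinj.ne (by decide)) hz.1.symm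
      · exact hfix _ (hinj.ne (by decide)) (hinj.ne (by decide)) hz.2.symm
      · exact hfix (q 2) (hinj.ne (by decide)) (hinj.ne (by decide)) fun h => z2 h.symm
  · intro z hz
    simp only [Set.mem_setOf_eq, not_and_or, not_not] at hz
    rcases hz with rfl | rfl
    · exact g0
    · exact g1

/-- two points -/
def emb2 (x y : α) (hxy : x ≠ y) : Fin 2 ↪ α :=
  ⟨![x, y], by
    intro i j h
    fin_cases i <;> fin_cases j <;> simp_all [hxy.symm]⟩

theorem exists_g2 (h8 : 8 ≤ Fintype.card α) (q : Fin 8 ↪ α) (x y : α) (hxy : x ≠ y) :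
    ∃ g : alternatingGroup α, (g : Perm α) (q 0) = x ∧ (g : Perm α) (q 1) = y := by
  obtain ⟨g, hg⟩ := exists_move (by omega) (emb2 (q 0) (q 1) (q.injective.ne (by decide))) (emb2 x y hxy)
  exact ⟨g, hg 0, hg 1⟩

open Classical in
/-- the system of vectors -/
noncomputable def FF (ρ : Representation K (alternatingGroup α) V) (q : Fin 8 ↪ α) (f : V) (x y : α) : V :=
  if h : x = y then 0 else
    if h' : ∃ g : alternatingGroup α, (g : Perm α) (q 0) = x ∧ (g : Perm α) (q 1) = y then ρ h'.choose f else 0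

theorem FF_self (q : Fin 8 ↪ α) (f : V) (x : α) : FF ρ q f x x = 0 := by
  unfold FF
  rw [dif_pos rfl]

/-- the hypotheses on `f` -/
structure Good (ρ : Representation K (alternatingGroup α) V) (q : Fin 8 ↪ α) (f : V) : Prop where
  fix : ∀ g : alternatingGroup α, (g : Perm α) (q 0) = q 0 → (g : Perm α) (q 1) = q 1 → ρ g f = f
  sum : f + ρ (T q 0 1 2) f + ρ (T q 0 1 2 * T q 0 1 2) f = 0

theorem FF_eq (h8 : 8 ≤ Fintype.card α) {q : Fin 8 ↪ α} {f : V} (hf : Good ρ q f) (g : alternatingGroup α) :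
    FF ρ q f ((g : Perm α) (q 0)) ((g : Perm α) (q 1)) = ρ g f := by
  unfold FF
  have hne : (g : Perm α) (q 0) ≠ (g : Perm α) (q 1) := (g : Perm α).injective.ne (q.injective.ne (by decide))
  have h' : ∃ g' : alternatingGroup α, (g' : Perm α) (q 0) = (g : Perm α) (q 0) ∧
      (g' : Perm α) (q 1) = (g : Perm α) (q 1) := ⟨g, rfl, rfl⟩
  rw [dif_neg hne, dif_pos h']
  have h1 := h'.choose_spec
  set g' := h'.choose
  have h2 : ρ (g⁻¹ * g') f = f := by
    apply hf.fix
    · rw [Subgroup.coe_mul, Perm.mul_apply, h1.1, InvMemClass.coe_inv]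
      exact (g : Perm α).symm_apply_apply _
    · rw [Subgroup.coe_mul, Perm.mul_apply, h1.2, InvMemClass.coe_inv]
      exact (g : Perm α).symm_apply_apply _
  rw [rho_mul] at h2
  have h3 := congrArg (ρ g) h2
  rwa [rho_self_inv] at h3

theorem FF_smul (h8 : 8 ≤ Fintype.card α) {q : Fin 8 ↪ α} {f : V} (hf : Good ρ q f) (g : alternatingGroup α)
    (x y : α) : ρ g (FF ρ q f x y) = FF ρ q f ((g : Perm α) x) ((g : Perm α) y) := by
  by_cases hxy : x = y
  · rw [hxy, FF_self, FF_self, map_zero]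
  · obtain ⟨h, h0, h1⟩ := exists_g2 h8 q x y hxy
    rw [← h0, ← h1, FF_eq h8 hf, ← rho_mul]
    have h2 := FF_eq h8 hf (g * h)
    rw [Subgroup.coe_mul, Perm.mul_apply, Perm.mul_apply] at h2
    exact h2.symm

theorem FF_base (h8 : 8 ≤ Fintype.card α) {q : Fin 8 ↪ α} {f : V} (hf : Good ρ q f) : FF ρ q f (q 0) (q 1) = f := by
  have h := FF_eq h8 hf 1
  rwa [rho_one] at h

theorem FF_swap (h8 : 8 ≤ Fintype.card α) {q : Fin 8 ↪ α} {f : V} (hf : Good ρ q f) {c : K}
    (hc : ρ (ex q tau) f = c • f) {x y : α} (hxy : x ≠ y) : FF ρ q f y x = c • FF ρ q f x y := by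
  obtain ⟨h, h0, h1⟩ := exists_g2 h8 q x y hxy
  have h2 := FF_smul h8 hf (h * ex q tau) (q 0) (q 1)
  rw [Subgroup.coe_mul, Perm.mul_apply, Perm.mul_apply, tau_apply_zero, tau_apply_one, h0, h1, FF_base h8 hf, rho_mul,
    hc, map_smul] at h2
  have h3 := FF_smul h8 hf h (q 0) (q 1)
  rw [h0, h1, FF_base h8 hf] at h3
  rw [← h2, h3]

theorem FF_tri (h8 : 8 ≤ Fintype.card α) {q : Fin 8 ↪ α} {f : V} (hf : Good ρ q f) {x y z : α} (hxy : x ≠ y)
    (hyz : y ≠ z) (hxz : x ≠ z) : FF ρ q f x y + FF ρ q f y z + FF ρ q f z x = 0 := by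
  obtain ⟨h, hh⟩ := exists_move (by omega) ((f3 0 1 2).trans q) (emb3 x y z hxy hyz hxz)
  have h0 : (h : Perm α) (q 0) = x := hh 0
  have h1 : (h : Perm α) (q 1) = y := hh 1
  have h2 : (h : Perm α) (q 2) = z := hh 2
  have e1 := FF_smul h8 hf h (q 0) (q 1)
  have e2 := FF_smul h8 hf (h * T q 0 1 2) (q 0) (q 1)
  have e3 := FF_smul h8 hf (h * (T q 0 1 2 * T q 0 1 2)) (q 0) (q 1)
  rw [Subgroup.coe_mul, Subgroup.coe_mul, Perm.mul_apply, Perm.mul_apply, Perm.mul_apply, Perm.mul_apply,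
    T_apply_fst, T_apply_snd, T_apply_thd, h2, h0] at e3
  rw [Subgroup.coe_mul, Perm.mul_apply, Perm.mul_apply, T_apply_fst, T_apply_snd, h1, h2] at e2
  rw [h0, h1] at e1
  rw [FF_base h8 hf] at e1 e2 e3
  rw [← e1, ← e2, ← e3, rho_mul, rho_mul ρ h (T q 0 1 2 * T q 0 1 2), ← map_add, ← map_add, hf.sum, map_zero]

/-- In the symmetric case the vectors vanish unless `2 = 0`. -/
theorem eq_zero_of_symm (h8 : 8 ≤ Fintype.card α) (hirr : Irr ρ) {g₀ : alternatingGroup α} {v₀ : V}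
    (hne : ρ g₀ v₀ ≠ v₀) (h2 : (2 : K) ≠ 0) {q : Fin 8 ↪ α} {f : V} (hf : Good ρ q f)
    (hc : ρ (ex q tau) f = f) : f = 0 := by
  have hc' : ρ (ex q tau) f = (1 : K) • f := by rw [one_smul]; exact hc
  have hsw : ∀ x y, x ≠ y → FF ρ q f y x = FF ρ q f x y := by
    intro x y hxy
    rw [FF_swap h8 hf hc' hxy, one_smul]
  have hinj := q.injective
  have hdis : ∀ i j k l : Fin 8, i ≠ j → k ≠ l → i ≠ k → i ≠ l → j ≠ k → j ≠ l →
      FF ρ q f (q i) (q j) = FF ρ q f (q k) (q l) := by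
    intro i j k l hij hkl hik hil hjk hjl
    have a1 := FF_tri h8 hf (hinj.ne hij) (hinj.ne hjk) (hinj.ne hik)
    have a2 := FF_tri h8 hf (hinj.ne hij) (hinj.ne hjl) (hinj.ne hil)
    have a3 := FF_tri h8 hf (hinj.ne hik) (hinj.ne hkl) (hinj.ne hil)
    have a4 := FF_tri h8 hf (hinj.ne hjk) (hinj.ne hkl) (hinj.ne hjl)
    rw [hsw _ _ (hinj.ne hik)] at a1
    rw [hsw _ _ (hinj.ne hil)] at a2 a3
    rw [hsw _ _ (hinj.ne hjl)] at a4
    have h5 : (2 : K) • (FF ρ q f (q i) (q j) - FF ρ q f (q k) (q l)) = 0 := by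
      have h6 : (2 : K) • (FF ρ q f (q i) (q j) - FF ρ q f (q k) (q l)) =
          (FF ρ q f (q i) (q j) + FF ρ q f (q j) (q k) + FF ρ q f (q i) (q k)) +
          (FF ρ q f (q i) (q j) + FF ρ q f (q j) (q l) + FF ρ q f (q i) (q l)) -
          (FF ρ q f (q i) (q k) + FF ρ q f (q k) (q l) + FF ρ q f (q i) (q l)) -
          (FF ρ q f (q j) (q k) + FF ρ q f (q k) (q l) + FF ρ q f (q j) (q l)) := by
        rw [two_smul]; abel
      rw [h6, a1, a2, a3, a4]; simp
    rcases smul_eq_zero.mp h5 with h | h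
    · exact absurd h h2
    · exact sub_eq_zero.mp h
  -- f is fixed by every 3-cycle
  have h01 : FF ρ q f (q 0) (q 1) = FF ρ q f (q 0) (q 2) := by
    rw [hdis 0 1 3 4 (by decide) (by decide) (by decide) (by decide) (by decide) (by decide),
      hdis 3 4 0 2 (by decide) (by decide) (by decide) (by decide) (by decide) (by decide)]
  have h12 : FF ρ q f (q 1) (q 2) = FF ρ q f (q 0) (q 1) := by
    rw [hdis 1 2 3 4 (by decide) (by decide) (by decide) (by decide) (by decide) (by decide),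
      hdis 3 4 0 1 (by decide) (by decide) (by decide) (by decide) (by decide) (by decide)]
  have hT : ρ (T q 0 1 2) f = f := by
    have h := FF_smul h8 hf (T q 0 1 2) (q 0) (q 1)
    rw [T_apply_fst, T_apply_snd, h12, FF_base h8 hf] at h
    exact h
  have hfix : ∀ g : alternatingGroup α, ρ g f = f := by
    intro g
    have h3 : g ∈ pst ρ (Submodule.span K {f}) := by
      have hfin : ∀ g : alternatingGroup α, g ∈ pst ρ (Submodule.span K {f}) ↔ ρ g f = f := by
        intro g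
        rw [mem_pst]
        constructor
        · intro h
          exact h f (Submodule.mem_span_singleton_self f)
        · intro h w hw
          obtain ⟨c, rfl⟩ := Submodule.mem_span_singleton.mp hw
          rw [map_smul, h]
      apply mem_of_cyc (pst ρ (Submodule.span K {f})) Set.univ (x := q 0) (y := q 1) trivial trivial
        (hinj.ne (by decide))
      · intro e' h0 h1 _
        rw [hfin]
        by_cases hz : e' 2 = q 2
        · have : ex e' c3 = T q 0 1 2 := by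
            apply Subtype.ext
            rw [coe_c3, coe_T, h0, h1, hz]
          rw [this, hT]
        · -- conjugate by an element fixing q 0, q 1
          obtain ⟨g, hg⟩ := exists_move (by omega) ((f3 0 1 2).trans q) e'
          have hg0 : (g : Perm α) (q 0) = q 0 := (hg 0).trans h0
          have hg1 : (g : Perm α) (q 1) = q 1 := (hg 1).trans h1
          rw [← ex_conj _ e' c3 g hg, rho_mul, rho_mul]
          have h4 : ρ g⁻¹ f = f := by
            have h5 := hf.fix g hg0 hg1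
            have h6 := rho_inv_self ρ g f
            rwa [h5] at h6
          rw [h4]
          have h5 : ρ (ex ((f3 0 1 2).trans q) c3) f = f := hT
          rw [h5, hf.fix g hg0 hg1]
      · intro z hz
        exact absurd trivial hz
    exact h3 f (Submodule.mem_span_singleton_self f)
  have h5 : f ∈ fixV ρ := hfix
  rw [fixV_eq_bot ρ hirr hne] at h5
  exact h5

theorem good_of_inter (hD : Indep ρ) (h8 : 8 ≤ Fintype.card α) (q : Fin 8 ↪ α) {f : V}
    (h2 : f ∈ U ρ (T q 0 1 2)) (h3 : f ∈ U ρ (T q 0 1 3)) : Good ρ q f := by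
  refine ⟨fixed_of_inter hD h8 q h2 h3, ?_⟩
  obtain ⟨u, rfl⟩ := (mem_U ρ).mp h2
  have h1 : T q 0 1 2 * (T q 0 1 2 * T q 0 1 2) = 1 := by
    unfold T
    rw [← map_mul, ← map_mul]
    have : c3 * (c3 * c3) = 1 := by decide
    rw [this, map_one]
  have h4 : ρ (T q 0 1 2) (ρ (T q 0 1 2 * T q 0 1 2) u) = u := by rw [← rho_mul, h1, rho_one]
  have h5 : ρ (T q 0 1 2 * T q 0 1 2) (ρ (T q 0 1 2) u) = u := by rw [← rho_mul, mul_assoc, h1, rho_one]
  rw [map_sub, map_sub, h5, ← rho_mul ρ (T q 0 1 2) (T q 0 1 2) u]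
  abel

theorem tau_mem (q : Fin 8 ↪ α) {f : V} (h2 : f ∈ U ρ (T q 0 1 2)) (h3 : f ∈ U ρ (T q 0 1 3)) :
    ρ (ex q tau) f ∈ U ρ (T q 0 1 2) ∧ ρ (ex q tau) f ∈ U ρ (T q 0 1 3) := by
  have key : ∀ (k : Fin 8) (h : (0 : Fin 8) ≠ 1 ∧ (1 : Fin 8) ≠ k ∧ (0 : Fin 8) ≠ k), k ≠ 5 → k ≠ 6 → 
      f ∈ U ρ (T q 0 1 k h) → ρ (ex q tau) f ∈ U ρ (T q 0 1 k h) := by
    intro k h h5 h6 hf
    have h1 := mem_U_conj ρ (h := ex q tau) hf
    have h4 : ex q tau * T q 0 1 k h * (ex q tau)⁻¹ = (T q 0 1 k h)⁻¹ := by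
      apply Subtype.ext
      rw [Subgroup.coe_mul, Subgroup.coe_mul, InvMemClass.coe_inv, InvMemClass.coe_inv, coe_T, mul_inv_rev, swap_inv,
        swap_inv]
      have hk : ((ex q tau : alternatingGroup α) : Perm α) (q k) = q k := by
        rw [ex_apply]
        show q ((swap 0 1 * swap 5 6 : Perm (Fin 8)) k) = q k
        rw [Perm.mul_apply, swap_apply_of_ne_of_ne h5 h6, swap_apply_of_ne_of_ne h.2.2.symm h.2.1.symm]
      have e1 := Equiv.swap_apply_apply ((ex q tau : alternatingGroup α) : Perm α) (q 0) (q 1)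
      have e2 := Equiv.swap_apply_apply ((ex q tau : alternatingGroup α) : Perm α) (q 1) (q k)
      rw [tau_apply_zero, tau_apply_one] at e1
      rw [tau_apply_one, hk] at e2
      rw [show ((ex q tau : alternatingGroup α) : Perm α) * (swap (q 0) (q 1) * swap (q 1) (q k)) *
          ((ex q tau : alternatingGroup α) : Perm α)⁻¹ =
          (((ex q tau : alternatingGroup α) : Perm α) * swap (q 0) (q 1) * ((ex q tau : alternatingGroup α) : Perm α)⁻¹) *
          (((ex q tau : alternatingGroup α) : Perm α) * swap (q 1) (q k) * ((ex q tau : alternatingGroup α) : Perm α)⁻¹)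
          by group, ← e1, ← e2]
      -- (1 0)(0 k) = (1 k)(0 1)
      have e3 := Equiv.swap_apply_apply (swap (q 0) (q 1)) (q 0) (q k)
      rw [swap_apply_left, swap_apply_of_ne_of_ne (q.injective.ne h.2.2.symm) (q.injective.ne h.2.1.symm), swap_inv]
        at e3
      rw [e3, mul_assoc, mul_assoc, swap_mul_self, mul_one, swap_comm (q 1) (q 0)]
    rw [h4, U_inv] at h1
    exact h1
  exact ⟨key 2 (by decide) (by decide) (by decide) h2, key 3 (by decide) (by decide) (by decide) h3⟩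

/-- **Recognition of the natural module.** -/
theorem natural (hD : Indep ρ) (h8 : 8 ≤ Fintype.card α) (hirr : Irr ρ) {g₀ : alternatingGroup α} {v₀ : V}
    (hne : ρ g₀ v₀ ≠ v₀) :
    ∃ F : α → α → V, (∀ i j, F j i = -F i j) ∧ (∀ i j k, F i j + F j k = F i k) ∧
      (∀ (g : alternatingGroup α) i j, ρ g (F i j) = F ((g : Perm α) i) ((g : Perm α) j)) ∧
      Submodule.span K (Set.range fun p : α × α => F p.1 p.2) = ⊤ ∧ ∃ i j, F i j ≠ 0 := by
  obtain ⟨q⟩ := exists_emb h8
  -- a suitable vector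
  obtain ⟨f, hf0, hf, hft⟩ : ∃ f : V, f ≠ 0 ∧ Good ρ q f ∧ ρ (ex q tau) f = (-1 : K) • f := by
    have h1 := inter_ne_bot hD h8 hirr hne ((⟨![0, 1, 2, 3], by decide⟩ : Fin 4 ↪ Fin 8).trans q)
    obtain ⟨f, hf, hf0⟩ := (Submodule.ne_bot_iff _).mp h1
    have e2 : t012.trans ((⟨![0, 1, 2, 3], by decide⟩ : Fin 4 ↪ Fin 8).trans q) = (f3 0 1 2).trans q := by
      ext s; fin_cases s <;> rfl
    have e3 : t013.trans ((⟨![0, 1, 2, 3], by decide⟩ : Fin 4 ↪ Fin 8).trans q) = (f3 0 1 3).trans q := by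
      ext s; fin_cases s <;> rfl
    rw [e2, e3] at hf
    obtain ⟨f2, f3'⟩ := Submodule.mem_inf.mp hf
    obtain ⟨g2, g3⟩ := tau_mem (ρ := ρ) q f2 f3'
    have htt : ρ (ex q tau) (ρ (ex q tau) f) = f := by
      rw [← rho_mul, ← map_mul]
      have : tau * tau = 1 := by decide
      rw [this, map_one, rho_one]
    by_cases hz : f + ρ (ex q tau) f = 0
    · refine ⟨f, hf0, good_of_inter hD h8 q f2 f3', ?_⟩
      rw [neg_one_smul]
      exact eq_neg_of_add_eq_zero_right hz
    · have hg : Good ρ q (f + ρ (ex q tau) f) :=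
        good_of_inter hD h8 q (Submodule.add_mem _ f2 g2) (Submodule.add_mem _ f3' g3)
      have ht : ρ (ex q tau) (f + ρ (ex q tau) f) = f + ρ (ex q tau) f := by
        rw [map_add, htt, add_comm]
      by_cases h2 : (2 : K) = 0
      · refine ⟨_, hz, hg, ?_⟩
        rw [ht]
        have : (-1 : K) = 1 := by
          have h3 : (1 : K) + 1 = 0 := by rw [one_add_one_eq_two]; exact h2
          exact neg_eq_of_add_eq_zero_left h3
        rw [this, one_smul]
      · exact absurd (eq_zero_of_symm h8 hirr hne h2 hg ht) hz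
  have hsw : ∀ x y, FF ρ q f y x = -FF ρ q f x y := by
    intro x y
    by_cases hxy : x = y
    · rw [hxy, FF_self, neg_zero]
    · rw [FF_swap h8 hf hft hxy, neg_one_smul]
  refine ⟨FF ρ q f, hsw, ?_, FF_smul h8 hf, ?_, ?_⟩
  · intro x y z
    by_cases hxy : x = y
    · rw [hxy, FF_self, zero_add]
    by_cases hyz : y = z
    · rw [hyz, FF_self, add_zero]
    by_cases hxz : x = z
    · rw [hxz, FF_self, hsw z y, add_neg_cancel]
    · have h := FF_tri h8 hf hxy hyz hxz
      rw [hsw x z] at h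
      rwa [add_neg_eq_zero] at h
  · rcases hirr (Submodule.span K (Set.range fun p : α × α => FF ρ q f p.1 p.2)) (by
      intro g w hw
      induction hw using Submodule.span_induction with
      | mem x hx =>
        obtain ⟨p, rfl⟩ := hx
        rw [FF_smul h8 hf]
        exact Submodule.subset_span ⟨((g : Perm α) p.1, (g : Perm α) p.2), rfl⟩
      | zero => rw [map_zero]; exact Submodule.zero_mem _
      | add x y _ _ hx hy => rw [map_add]; exact Submodule.add_mem _ hx hy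
      | smul c x _ hx => rw [map_smul]; exact Submodule.smul_mem _ c hx) with h | h
    · exfalso
      have h1 : FF ρ q f (q 0) (q 1) ∈ Submodule.span K (Set.range fun p : α × α => FF ρ q f p.1 p.2) :=
        Submodule.subset_span ⟨(q 0, q 1), rfl⟩
      rw [h, Submodule.mem_bot, FF_base h8 hf] at h1
      exact hf0 h1
    · exact h
  · exact ⟨q 0, q 1, by rw [FF_base h8 hf]; exact hf0⟩

end

end Cfsg.Agent.H614.AMod
end

-- part: H614/AMod/Odd
section
set_option linter.all false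
open scoped Cfsg.Agent.FastGrp

/-!
# Representations of `Alt α`, `|α| ≥ 8`, of degree at most 12: odd or zero characteristic

`indep_odd` : disjoint 3-cycles act independently.
-/

set_option autoImplicit false
set_option linter.unusedSectionVars false

namespace Cfsg.Agent.H614.AMod

open Equiv Equiv.Perm E8

variable {α : Type*} [Fintype α] [DecidableEq α]
variable {K V : Type*} [Field K] [AddCommGroup V] [Module K V] [FiniteDimensional K V]
  {ρ : Representation K (alternatingGroup α) V}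

/-- the restriction to `Alt (Fin 8)` -/
def res8 (ρ : Representation K (alternatingGroup α) V) (q : Fin 8 ↪ α) : Representation K A8 V := MonoidHom.comp ρ (ex q)

theorem res8_apply (q : Fin 8 ↪ α) (g : A8) (v : V) : res8 ρ q g v = ρ (ex q g) v := rfl

/-- `(4 5 6)` acts trivially on `[V, (0 1)(2 3)]` -/
theorem c'_pst (h2 : (2 : K) ≠ 0) (hle : Module.finrank K V ≤ 12) (q : Fin 8 ↪ α) :
    ex q c' ∈ pst ρ (U ρ (ex q a1)) := by
  intro w hw
  obtain ⟨u, rfl⟩ := (mem_U ρ).mp hw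
  have h3 := c'_fix (ρ := res8 ρ q) h2 hle (v := ρ (ex q a1) u - u) (by
    rw [res8_apply, map_sub, ← rho_mul, ← map_mul, show a1 * a1 = 1 by decide, map_one, rho_one]
    abel)
  exact h3

/-- eight points from six -/
theorem exists_eight (h8 : 8 ≤ Fintype.card α) (e : Fin 6 ↪ α) : ∃ q : Fin 8 ↪ α, ∀ i : Fin 6, q (Fin.castLE (by omega) i) = e i := by
  obtain ⟨x, hx⟩ : ∃ x, x ∉ Finset.univ.map e := by
    by_contra hne
    push Not at hne
    have h1 : (Finset.univ : Finset α) ⊆ Finset.univ.map e := fun x _ => hne x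
    have h2 := Finset.card_le_card h1
    rw [Finset.card_map, Finset.card_univ, Finset.card_univ, Fintype.card_fin] at h2
    omega
  obtain ⟨y, hy⟩ : ∃ y, y ∉ insert x (Finset.univ.map e) := by
    by_contra hne
    push Not at hne
    have h1 : (Finset.univ : Finset α) ⊆ insert x (Finset.univ.map e) := fun x _ => hne x
    have h2 := (Finset.card_le_card h1).trans (Finset.card_insert_le _ _)
    rw [Finset.card_map, Finset.card_univ, Finset.card_univ, Fintype.card_fin] at h2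
    omega
  have hyx : y ≠ x := fun h => hy (h ▸ Finset.mem_insert_self _ _)
  have hy' : ∀ i, e i ≠ y := by
    intro i hi
    exact hy (Finset.mem_insert_of_mem (Finset.mem_map.mpr ⟨i, Finset.mem_univ _, hi⟩))
  have hx' : ∀ i, e i ≠ x := by
    intro i hi
    exact hx (Finset.mem_map.mpr ⟨i, Finset.mem_univ _, hi⟩)
  let f : Fin 8 → α := fun i => if h : (i : ℕ) < 6 then e ⟨i, h⟩ else if (i : ℕ) = 6 then x else y
  have hf : Function.Injective f := by
    intro i j hij
    simp only [f] at hij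
    apply Fin.ext
    by_cases hi : (i : ℕ) < 6
    · by_cases hj : (j : ℕ) < 6
      · rw [dif_pos hi, dif_pos hj] at hij
        have := e.injective hij
        exact Fin.mk.inj_iff.mp this
      · rw [dif_pos hi, dif_neg hj] at hij
        split_ifs at hij with h6
        · exact absurd hij (hx' _)
        · exact absurd hij (hy' _)
    · by_cases hj : (j : ℕ) < 6
      · rw [dif_neg hi, dif_pos hj] at hij
        split_ifs at hij with h6
        · exact absurd hij.symm (hx' _)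
        · exact absurd hij.symm (hy' _)
      · rw [dif_neg hi, dif_neg hj] at hij
        have hi' := i.isLt
        have hj' := j.isLt
        split_ifs at hij with h6 h6' h6'
        · omega
        · exact absurd hij.symm hyx
        · exact absurd hij hyx
        · omega
  refine ⟨⟨f, hf⟩, fun i => ?_⟩
  show f (Fin.castLE (by omega) i) = e i
  simp only [f]
  rw [dif_pos (by exact i.isLt)]
  rfl

/-- rearrangements of eight points -/
def r1 : Fin 8 ↪ Fin 8 := ⟨![0, 1, 6, 7, 3, 4, 5, 2], by decide⟩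
def r2 : Fin 8 ↪ Fin 8 := ⟨![1, 2, 6, 7, 3, 4, 5, 0], by decide⟩

theorem ex_swap2 {k : ℕ} (e : Fin k ↪ α) (i j l m : Fin k) (σ : alternatingGroup (Fin k))
    (hσ : (σ : Perm (Fin k)) = swap i j * swap l m) :
    ((ex e σ : alternatingGroup α) : Perm α) = swap (e i) (e j) * swap (e l) (e m) := by
  have hsw : ∀ (i j : Fin k), exP e (swap i j) = swap (e i) (e j) := by
    intro i j
    apply Equiv.ext
    intro x
    by_cases hx : ∃ a, e a = x
    · obtain ⟨a, rfl⟩ := hx
      rw [exP_apply]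
      by_cases h1 : a = i
      · rw [h1, swap_apply_left, swap_apply_left]
      by_cases h2 : a = j
      · rw [h2, swap_apply_right, swap_apply_right]
      rw [swap_apply_of_ne_of_ne h1 h2, swap_apply_of_ne_of_ne (e.injective.ne h1) (e.injective.ne h2)]
    · rw [not_exists] at hx
      rw [exP_of_notMem e _ hx, swap_apply_of_ne_of_ne (fun h => hx i h.symm) (fun h => hx j h.symm)]
  rw [coe_ex, hσ, map_mul, hsw, hsw]

theorem indep_odd (h8 : 8 ≤ Fintype.card α) (h2 : (2 : K) ≠ 0) (hle : Module.finrank K V ≤ 12) : Indep ρ := by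
  intro e
  obtain ⟨q, hq⟩ := exists_eight h8 e
  have q0 : q 0 = e 0 := hq 0
  have q1 : q 1 = e 1 := hq 1
  have q2 : q 2 = e 2 := hq 2
  have q3 : q 3 = e 3 := hq 3
  have q4 : q 4 = e 4 := hq 4
  have q5 : q 5 = e 5 := hq 5
  -- (0 1 2) = (0 1)(6 7) * (1 2)(6 7)
  have hd1 : ex e d1 = ex (r1.trans q) a1 * ex (r2.trans q) a1 := by
    apply Subtype.ext
    rw [Subgroup.coe_mul, ex_swap2 e 0 1 1 2 d1 rfl, ex_swap2 (r1.trans q) 0 1 2 3 a1 rfl,
      ex_swap2 (r2.trans q) 0 1 2 3 a1 rfl]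
    show swap (e 0) (e 1) * swap (e 1) (e 2) =
      swap (q 0) (q 1) * swap (q 6) (q 7) * (swap (q 1) (q 2) * swap (q 6) (q 7))
    have hc : swap (q 1) (q 2) * swap (q 6) (q 7) = swap (q 6) (q 7) * swap (q 1) (q 2) := by
      apply (Equiv.Perm.Disjoint.commute ?_).eq
      intro x
      have n16 : q 1 ≠ q 6 := q.injective.ne (by decide)
      have n17 : q 1 ≠ q 7 := q.injective.ne (by decide)
      have n26 : q 2 ≠ q 6 := q.injective.ne (by decide)
      have n27 : q 2 ≠ q 7 := q.injective.ne (by decide)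
      by_cases h1 : x = q 1
      · right; rw [h1, swap_apply_of_ne_of_ne n16 n17]
      by_cases h2 : x = q 2
      · right; rw [h2, swap_apply_of_ne_of_ne n26 n27]
      left; rw [swap_apply_of_ne_of_ne h1 h2]
    rw [hc, mul_assoc, ← mul_assoc (swap (q 6) (q 7)) (swap (q 6) (q 7)), swap_mul_self, one_mul, q0, q1, q2]
  have hd2 : ∀ (r : Fin 8 ↪ Fin 8), r 4 = 3 → r 5 = 4 → r 6 = 5 → ex e d2 = ex (r.trans q) c' := by
    intro r h4 h5 h6
    apply Subtype.ext
    rw [ex_swap2 e 3 4 4 5 d2 rfl, ex_swap2 (r.trans q) 4 5 5 6 c' rfl]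
    show swap (e 3) (e 4) * swap (e 4) (e 5) = swap (q (r 4)) (q (r 5)) * swap (q (r 5)) (q (r 6))
    rw [h4, h5, h6, q3, q4, q5]
  have h3 : ex e d2 ∈ pst ρ (U ρ (ex (r1.trans q) a1) ⊔ U ρ (ex (r2.trans q) a1)) := by
    apply mem_pst_sup
    · rw [hd2 r1 rfl rfl rfl]
      exact c'_pst h2 hle _
    · rw [hd2 r2 rfl rfl rfl]
      exact c'_pst h2 hle _
  rw [hd1]
  exact pst_anti ρ (U_mul_le ρ _ _) h3

end Cfsg.Agent.H614.AMod
end

-- part: H614/AMod/Ten
section
prune_inst 0x2020446022000000180090030000200000052200030000402006040a498000200106010a900410009884c160000020001000100200000000008400000000208483520222500804040001000080000000000000000000000000000000000004000000000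
set_option linter.all false
open scoped Cfsg.Agent.FastGrp

-- part: H614/AMod/Bc
section
/-!
# Weights over an algebraically closed field, and base change

* `linInd_of_weights` : vectors of different weights are linearly independent;
* `exists_eig` : an eigenvector in an invariant subspace;
* `bc ρ` : extension of scalars; `indep_of_bc` : `Indep` descends.
-/

set_option autoImplicit false
set_option linter.unusedSectionVars false

namespace Cfsg.Agent.H614.AMod

open Equiv Equiv.Perm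

section weights

variable {K V : Type*} [Field K] [AddCommGroup V] [Module K V]

theorem linInd_of_weights {ι J : Type*} (f : ι → Module.End K V) (hcomm : ∀ i j, Commute (f i) (f j))
    (χ : J → ι → K) (hχ : Function.Injective χ) (v : J → V) (hv : ∀ j, v j ≠ 0) (hw : ∀ j i, f i (v j) = χ j i • v j) :
    LinearIndependent K v := by
  have h := Module.End.independent_iInf_maxGenEigenspace_of_forall_mapsTo f
    (fun i j φ => Module.End.mapsTo_maxGenEigenspace_of_comm (hcomm j i) φ)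
  refine iSupIndep.linearIndependent _ (h.comp hχ) (fun j => ?_) hv
  rw [Function.comp_apply, Submodule.mem_iInf]
  intro i
  rw [Module.End.mem_maxGenEigenspace]
  refine ⟨1, ?_⟩
  rw [pow_one, LinearMap.sub_apply, hw]
  simp only [_root_.LinearMap.smul_apply, _root_.Module.End.one_apply, _root_.sub_self]

theorem card_le_of_weights [FiniteDimensional K V] {ι J : Type*} [Fintype J] (f : ι → Module.End K V)
    (hcomm : ∀ i j, Commute (f i) (f j)) (W : Submodule K V)
    (χ : J → ι → K) (hχ : Function.Injective χ) (v : J → V) (hv : ∀ j, v j ≠ 0) (hvW : ∀ j, v j ∈ W)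
    (hw : ∀ j i, f i (v j) = χ j i • v j) :
    Fintype.card J ≤ Module.finrank K W := by
  have h := linInd_of_weights f hcomm χ hχ v hv hw
  have h' : LinearIndependent K (fun j => (⟨v j, hvW j⟩ : W)) := by
    apply LinearIndependent.of_comp W.subtype
    exact h
  exact h'.fintype_card_le_finrank

variable {G : Type*} [Group G] (ρ : Representation K G V)

theorem exists_eig [FiniteDimensional K V] [IsAlgClosed K] {W : Submodule K V} {g : G} (hW : Inv ρ W g) (h0 : W ≠ ⊥) :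
    ∃ c, W ⊓ eg ρ g c ≠ ⊥ := by
  haveI : Nontrivial W := Submodule.nontrivial_iff_ne_bot.mpr h0
  obtain ⟨c, hc⟩ := Module.End.exists_eigenvalue ((ρ g).restrict hW : Module.End K W)
  obtain ⟨v, hv⟩ := hc.exists_hasEigenvector
  refine ⟨c, ?_⟩
  rw [Submodule.ne_bot_iff]
  refine ⟨v, ⟨v.2, ?_⟩, ?_⟩
  · rw [SetLike.mem_coe, mem_eg]
    have := congrArg Subtype.val hv.apply_eq_smul
    exact this
  · intro h
    exact hv.2 (Subtype.ext h)

theorem pow_eg {g : G} {c : K} {v : V} (hv : v ∈ eg ρ g c) (k : ℕ) : ρ (g ^ k) v = c ^ k • v := by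
  induction k with
  | zero => rw [pow_zero, pow_zero, rho_one, one_smul]
  | succ k ih => rw [pow_succ, rho_mul, hv, map_smul, ih, smul_smul, pow_succ, mul_comm]

theorem eig_pow {g : G} {c : K} {v : V} (hv : v ∈ eg ρ g c) (h0 : v ≠ 0) {r : ℕ} (hr : g ^ r = 1) : c ^ r = 1 := by
  have h1 := pow_eg ρ hv r
  rw [hr, rho_one] at h1
  have h2 : (c ^ r - 1) • v = 0 := by rw [sub_smul, one_smul, ← h1, sub_self]
  rcases smul_eq_zero.mp h2 with h | h
  · exact sub_eq_zero.mp h
  · exact absurd h h0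

theorem U_inf_fix {g : G} {r : ℕ} (hr : g ^ r = 1) (hr0 : (r : K) ≠ 0) : U ρ g ⊓ eg ρ g 1 = ⊥ := by
  rw [eq_bot_iff]
  rintro v ⟨hv, hv'⟩
  rw [SetLike.mem_coe, mem_eg_one] at hv'
  obtain ⟨u, hu⟩ := (mem_U ρ).mp hv
  have h1 : ∀ k : ℕ, ρ (g ^ k) u = u + (k : K) • v := by
    intro k
    induction k with
    | zero => rw [pow_zero, rho_one, Nat.cast_zero, zero_smul, add_zero]
    | succ k ih =>
      rw [pow_succ', rho_mul, ih, map_add, map_smul, hv', Nat.cast_succ, add_smul, one_smul, ← hu]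
      abel
  have h2 := h1 r
  rw [hr, rho_one] at h2
  rw [Submodule.mem_bot]
  have h3 : (r : K) • v = 0 := by
    have := congrArg (fun x => x - u) h2
    simp only [sub_self, add_sub_cancel_left] at this
    exact this.symm
  rcases smul_eq_zero.mp h3 with h | h
  · exact absurd h hr0
  · exact h

theorem inv_U {g h : G} (hc : g * h = h * g) : Inv ρ (U ρ g) h := by
  intro w hw
  have h1 := mem_U_conj ρ (h := h) hw
  rwa [← hc, mul_assoc, mul_inv_cancel, mul_one] at h1

theorem rho_comm {g h : G} (hc : g * h = h * g) : Commute (ρ g) (ρ h) := by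
  show ρ g * ρ h = ρ h * ρ g
  rw [← map_mul, ← map_mul, hc]

end weights

section bc

open TensorProduct

variable {K V G : Type*} [Field K] [AddCommGroup V] [Module K V] [Group G] (ρ : Representation K G V)

/-- extension of scalars to the algebraic closure -/
noncomputable def bc : Representation (AlgebraicClosure K) G (AlgebraicClosure K ⊗[K] V) :=
  ((Module.End.baseChangeHom K (AlgebraicClosure K) V :
    Module.End K V →ₐ[K] Module.End (AlgebraicClosure K) (AlgebraicClosure K ⊗[K] V)) :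
    Module.End K V →* Module.End (AlgebraicClosure K) (AlgebraicClosure K ⊗[K] V)).comp ρ

theorem bc_tmul (g : G) (a : AlgebraicClosure K) (v : V) : bc ρ g (a ⊗ₜ v) = a ⊗ₜ ρ g v := rfl

theorem one_tmul_inj {u v : V} (h : (1 : AlgebraicClosure K) ⊗ₜ[K] u = 1 ⊗ₜ v) : u = v :=
  Module.FaithfullyFlat.tensorProduct_mk_injective (A := K) (B := AlgebraicClosure K) V h

theorem finrank_bc [FiniteDimensional K V] :
    Module.finrank (AlgebraicClosure K) (AlgebraicClosure K ⊗[K] V) = Module.finrank K V :=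
  Module.finrank_baseChange

theorem pst_of_bc {g h : G} (H : h ∈ pst (bc ρ) (U (bc ρ) g)) : h ∈ pst ρ (U ρ g) := by
  intro w hw
  obtain ⟨u, rfl⟩ := (mem_U ρ).mp hw
  have h1 := H _ (sub_mem_U (bc ρ) g (1 ⊗ₜ u))
  rw [bc_tmul, ← TensorProduct.tmul_sub, bc_tmul] at h1
  exact one_tmul_inj h1

end bc

end Cfsg.Agent.H614.AMod
end

-- part: H614/AMod/Ten
section
/-!
# Representations of `Alt α`, `|α| ≥ 10`, of degree at most 15, characteristic not 5

`indep_ten` : disjoint 3-cycles act independently.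
-/

set_option autoImplicit false
set_option linter.unusedSectionVars false

namespace Cfsg.Agent.H614.AMod

open Equiv Equiv.Perm

namespace E10

abbrev A10 := alternatingGroup (Fin 10)

/-- `(0 1 2 3 4)` -/
def y : A10 := ⟨swap (0 : Fin 10) 1 * swap (1 : Fin 10) 2 * swap (2 : Fin 10) 3 * swap (3 : Fin 10) 4, by rw [mem_alternatingGroup]; decide⟩
/-- `(5 6 7 8 9)` -/
def y' : A10 := ⟨swap (5 : Fin 10) 6 * swap (6 : Fin 10) 7 * swap (7 : Fin 10) 8 * swap (8 : Fin 10) 9, by rw [mem_alternatingGroup]; decide⟩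
/-- `(1 4)(2 3)` -/
def s : A10 := ⟨swap (1 : Fin 10) 4 * swap (2 : Fin 10) 3, by rw [mem_alternatingGroup]; decide⟩
/-- `x ↦ x + 5`, `x + 5 ↦ 2x` -/
def t : A10 := ⟨⟨![5, 6, 7, 8, 9, 0, 2, 4, 1, 3], ![5, 8, 6, 9, 7, 0, 1, 2, 3, 4], by decide, by decide⟩, by
  rw [mem_alternatingGroup]; decide⟩

theorem yy' : y * y' = y' * y := by decide +kernel
theorem y5 : y ^ 5 = 1 := by decide +kernel
theorem y'5 : y' ^ 5 = 1 := by decide +kernel
theorem sy : s * y = y⁻¹ * s := by decide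
theorem sy' : s * y' = y' * s := by decide
theorem ty : t * y = y' * t := by decide
theorem ty' : t * y' = y ^ 2 * t := by decide +kernel

variable {K V : Type*} [Field K] [AddCommGroup V] [Module K V] [FiniteDimensional K V] (ρ : Representation K A10 V)

/-- the weight `(i, j)` occurs -/
def N (ζ : K) (i j : ℕ) : Prop := ∃ v : V, v ≠ 0 ∧ v ∈ eg ρ y (ζ ^ i) ∧ v ∈ eg ρ y' (ζ ^ j)

variable {ρ}

theorem rho_ne_zero {G : Type*} [Group G] {ρ : Representation K G V} (g : G) {v : V} (hv : v ≠ 0) : ρ g v ≠ 0 := by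
  intro h
  apply hv
  rw [← rho_inv_self ρ g v, h, map_zero]

theorem zpow_mod {ζ : K} (hζ : ζ ^ 5 = 1) (i : ℕ) : ζ ^ (i % 5) = ζ ^ i := by
  conv_rhs => rw [← Nat.mod_add_div i 5, pow_add, pow_mul, hζ, one_pow, mul_one]

theorem N_mod {ζ : K} (hζ : ζ ^ 5 = 1) {i j : ℕ} : N ρ ζ (i % 5) (j % 5) ↔ N ρ ζ i j := by
  unfold N
  rw [zpow_mod hζ, zpow_mod hζ]

theorem yi4 : y⁻¹ ^ 4 = y := by
  rw [inv_pow, inv_eq_iff_mul_eq_one, ← pow_succ]
  exact y5
theorem y23 : (y ^ 2) ^ 3 = y := by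
  rw [← pow_mul, show 2 * 3 = 5 + 1 from rfl, pow_succ, y5, one_mul]

theorem N_s {ζ : K} {i j : ℕ} (h : N ρ ζ i j) : N ρ ζ (4 * i) j := by
  obtain ⟨v, h0, h1, h2⟩ := h
  have h3 := eg_move ρ sy h1
  refine ⟨ρ s v, rho_ne_zero s h0, ?_, eg_move ρ sy' h2⟩
  have h4 := pow_eg ρ h3 4
  rw [yi4, ← pow_mul, mul_comm i 4] at h4
  exact h4

theorem N_t {ζ : K} {i j : ℕ} (h : N ρ ζ i j) : N ρ ζ (3 * j) i := by
  obtain ⟨v, h0, h1, h2⟩ := h
  have h3 := eg_move ρ ty' h2
  refine ⟨ρ t v, rho_ne_zero t h0, ?_, eg_move ρ ty h1⟩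
  have h4 := pow_eg ρ h3 3
  rw [y23, ← pow_mul, mul_comm j 3] at h4
  exact h4

/-- the group of moves on the weights -/
def mv (a b : ℕ) (p : ℕ × ℕ) : ℕ × ℕ :=
  (fun p : ℕ × ℕ => ((4 * p.1) % 5, p.2 % 5))^[a] ((fun p : ℕ × ℕ => ((3 * p.2) % 5, p.1 % 5))^[b] p)

theorem N_mv {ζ : K} (hζ : ζ ^ 5 = 1) {p : ℕ × ℕ} (h : N ρ ζ p.1 p.2) (a b : ℕ) :
    N ρ ζ (mv a b p).1 (mv a b p).2 := by
  unfold mv
  have hb : ∀ b : ℕ, N ρ ζ ((fun p : ℕ × ℕ => ((3 * p.2) % 5, p.1 % 5))^[b] p).1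
      ((fun p : ℕ × ℕ => ((3 * p.2) % 5, p.1 % 5))^[b] p).2 := by
    intro b
    induction b with
    | zero => exact h
    | succ b ih =>
      rw [Function.iterate_succ_apply']
      exact (N_mod hζ).mpr (N_t ih)
  induction a with
  | zero => exact hb b
  | succ a ih =>
    rw [Function.iterate_succ_apply']
    exact (N_mod hζ).mpr (N_s ih)

theorem reach : ∀ i j i' j' : Fin 4, ∃ a : Fin 2, ∃ b : Fin 8,
    mv a b ((i : ℕ) + 1, (j : ℕ) + 1) = ((i' : ℕ) + 1, (j' : ℕ) + 1) := by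
  decide +kernel

theorem N_all {ζ : K} (hζ : ζ ^ 5 = 1) {i j : Fin 4} (h : N ρ ζ ((i : ℕ) + 1) ((j : ℕ) + 1)) (i' j' : Fin 4) :
    N ρ ζ ((i' : ℕ) + 1) ((j' : ℕ) + 1) := by
  obtain ⟨a, b, hab⟩ := reach i j i' j'
  have h1 := N_mv (p := ((i : ℕ) + 1, (j : ℕ) + 1)) hζ h a b
  rwa [hab] at h1

theorem inf_eq_bot [IsAlgClosed K] (h5 : (5 : K) ≠ 0) (hle : Module.finrank K V ≤ 15) :
    U ρ y ⊓ U ρ y' = ⊥ := by
  by_contra hne
  haveI : NeZero ((5 : ℕ) : K) := ⟨by exact_mod_cast h5⟩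
  obtain ⟨ζ, hζ⟩ := HasEnoughRootsOfUnity.exists_primitiveRoot K 5
  have hζ5 : ζ ^ 5 = 1 := hζ.pow_eq_one
  have h5' : ((5 : ℕ) : K) ≠ 0 := by exact_mod_cast h5
  -- a common eigenvector
  obtain ⟨c, hc⟩ := exists_eig ρ (((inv_U ρ (g := y) (h := y) rfl).inf ρ (inv_U ρ yy'.symm))) hne
  have hin : Inv ρ (U ρ y ⊓ U ρ y' ⊓ eg ρ y c) y' :=
    ((inv_U ρ yy').inf ρ (inv_U ρ (g := y') (h := y') rfl)).inf ρ (inv_eg ρ yy' c)
  obtain ⟨d, hd⟩ := exists_eig ρ hin hc
  obtain ⟨v, hv, hv0⟩ := (Submodule.ne_bot_iff _).mp hd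
  obtain ⟨⟨⟨hvy, hvy'⟩, hvc⟩, hvd⟩ := hv
  have hc5 := eig_pow ρ hvc hv0 y5
  have hd5 := eig_pow ρ hvd hv0 y'5
  obtain ⟨i, hi, hic⟩ := hζ.eq_pow_of_pow_eq_one hc5
  obtain ⟨j, hj, hjd⟩ := hζ.eq_pow_of_pow_eq_one hd5
  have hi0 : i ≠ 0 := by
    rintro rfl
    rw [pow_zero] at hic
    rw [← hic] at hvc
    have h1 : v ∈ U ρ y ⊓ eg ρ y 1 := ⟨hvy, hvc⟩
    rw [U_inf_fix ρ y5 h5'] at h1
    exact hv0 h1
  have hj0 : j ≠ 0 := by
    rintro rfl
    rw [pow_zero] at hjd
    rw [← hjd] at hvd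
    have h1 : v ∈ U ρ y' ⊓ eg ρ y' 1 := ⟨hvy', hvd⟩
    rw [U_inf_fix ρ y'5 h5'] at h1
    exact hv0 h1
  have hN : N ρ ζ (((⟨i - 1, by omega⟩ : Fin 4) : ℕ) + 1) (((⟨j - 1, by omega⟩ : Fin 4) : ℕ) + 1) := by
    refine ⟨v, hv0, ?_, ?_⟩
    · show v ∈ eg ρ y (ζ ^ (i - 1 + 1))
      rw [Nat.sub_add_cancel (by omega), hic]
      exact hvc
    · show v ∈ eg ρ y' (ζ ^ (j - 1 + 1))
      rw [Nat.sub_add_cancel (by omega), hjd]
      exact hvd
  have hall := N_all hζ5 hN
  choose w hw using fun p : Fin 4 × Fin 4 => hall p.1 p.2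
  have hinj : Function.Injective (fun (p : Fin 4 × Fin 4) (b : Bool) =>
      if b then ζ ^ ((p.1 : ℕ) + 1) else ζ ^ ((p.2 : ℕ) + 1)) := by
    intro p q hpq
    have h1 := congrFun hpq true
    have h2 := congrFun hpq false
    simp only [if_true, Bool.false_eq_true, if_false] at h1 h2
    have h3 := hζ.pow_inj (by omega) (by omega) h1
    have h4 := hζ.pow_inj (by omega) (by omega) h2
    exact Prod.ext (Fin.ext (by omega)) (Fin.ext (by omega))
  have hcard := card_le_of_weights (fun b : Bool => if b then ρ y else ρ y') (by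
    intro a b
    have h1 : Commute (ρ y) (ρ y') := rho_comm ρ yy'
    cases a <;> cases b <;> simp [h1, h1.symm]) ⊤ _ hinj w (fun p => (hw p).1) (fun p => Submodule.mem_top) (by
    intro p b
    cases b
    · exact (hw p).2.2
    · exact (hw p).2.1)
  rw [Fintype.card_prod, Fintype.card_fin, finrank_top] at hcard
  omega

theorem y'_pst_closed [IsAlgClosed K] (h5 : (5 : K) ≠ 0) (hle : Module.finrank K V ≤ 15) :
    y' ∈ pst ρ (U ρ y) := by
  intro w hw
  have h1 : ρ y' w - w ∈ U ρ y ⊓ U ρ y' := ⟨Submodule.sub_mem _ (inv_U ρ yy' w hw) hw, sub_mem_U ρ y' w⟩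
  rw [inf_eq_bot h5 hle] at h1
  exact sub_eq_zero.mp h1

theorem y'_pst (h5 : (5 : K) ≠ 0) (hle : Module.finrank K V ≤ 15) :
    y' ∈ pst ρ (U ρ y) := by
  apply pst_of_bc
  apply y'_pst_closed
  · have h1 : algebraMap K (AlgebraicClosure K) 5 = 5 := map_ofNat _ 5
    rw [← h1]
    intro h
    apply h5
    have h2 := (algebraMap K (AlgebraicClosure K)).injective (h.trans (map_zero _).symm)
    exact h2
  · rw [finrank_bc]
    exact hle

/-- conjugating elements -/
def h1 : A10 := ⟨swap (1 : Fin 10) 2 * swap (2 : Fin 10) 3, by rw [mem_alternatingGroup]; decide⟩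
def h2 : A10 := ⟨swap (1 : Fin 10) 3 * swap (3 : Fin 10) 4, by rw [mem_alternatingGroup]; decide⟩
def h1' : A10 := ⟨swap (6 : Fin 10) 7 * swap (7 : Fin 10) 8, by rw [mem_alternatingGroup]; decide⟩
def h2' : A10 := ⟨swap (6 : Fin 10) 8 * swap (8 : Fin 10) 9, by rw [mem_alternatingGroup]; decide⟩
/-- `(0 1 2)` and `(5 6 7)` -/
def g1 : A10 := ⟨swap (0 : Fin 10) 1 * swap (1 : Fin 10) 2, by rw [mem_alternatingGroup]; decide⟩
def g2 : A10 := ⟨swap (5 : Fin 10) 6 * swap (6 : Fin 10) 7, by rw [mem_alternatingGroup]; decide⟩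

theorem g1_eq : g1 = (h1 * y * h1⁻¹) * (h2 * y * h2⁻¹) := by decide +kernel
theorem g2_eq : g2 = (h1' * y' * h1'⁻¹) * (h2' * y' * h2'⁻¹) := by decide +kernel
theorem e11 : (h1 * h1') * y * (h1 * h1')⁻¹ = h1 * y * h1⁻¹ := by decide +kernel
theorem e12 : (h1 * h2') * y * (h1 * h2')⁻¹ = h1 * y * h1⁻¹ := by decide +kernel
theorem e21 : (h2 * h1') * y * (h2 * h1')⁻¹ = h2 * y * h2⁻¹ := by decide +kernel
theorem e22 : (h2 * h2') * y * (h2 * h2')⁻¹ = h2 * y * h2⁻¹ := by decide +kernel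
theorem e11' : (h1 * h1') * y' * (h1 * h1')⁻¹ = h1' * y' * h1'⁻¹ := by decide +kernel
theorem e12' : (h1 * h2') * y' * (h1 * h2')⁻¹ = h2' * y' * h2'⁻¹ := by decide +kernel
theorem e21' : (h2 * h1') * y' * (h2 * h1')⁻¹ = h1' * y' * h1'⁻¹ := by decide +kernel
theorem e22' : (h2 * h2') * y' * (h2 * h2')⁻¹ = h2' * y' * h2'⁻¹ := by decide +kernel

theorem g2_pst (h5 : (5 : K) ≠ 0) (hle : Module.finrank K V ≤ 15) : g2 ∈ pst ρ (U ρ g1) := by
  have key := fun h : A10 => pst_conj ρ (h := h) (y'_pst (ρ := ρ) h5 hle)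
  have k11 := key (h1 * h1')
  have k12 := key (h1 * h2')
  have k21 := key (h2 * h1')
  have k22 := key (h2 * h2')
  rw [e11, e11'] at k11
  rw [e12, e12'] at k12
  rw [e21, e21'] at k21
  rw [e22, e22'] at k22
  have k1 := mem_pst_sup ρ k11 k21
  have k2 := mem_pst_sup ρ k12 k22
  have k3 := Subgroup.mul_mem _ k1 k2
  rw [← g2_eq] at k3
  rw [g1_eq]
  exact pst_anti ρ (U_mul_le ρ _ _) k3

end E10

open E10

variable {α : Type*} [Fintype α] [DecidableEq α]
variable {K V : Type*} [Field K] [AddCommGroup V] [Module K V] [FiniteDimensional K V]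
  {ρ : Representation K (alternatingGroup α) V}

theorem exists_ext {k l : ℕ} (hkl : k ≤ l) (hl : l ≤ Fintype.card α) (e : Fin k ↪ α) :
    ∃ q : Fin l ↪ α, ∀ i : Fin k, q (Fin.castLE hkl i) = e i := by
  induction l, hkl using Nat.le_induction with
  | base => exact ⟨e, fun i => rfl⟩
  | succ l hkl ih =>
    obtain ⟨q, hq⟩ := ih (by omega)
    obtain ⟨x, hx⟩ : ∃ x, x ∉ Finset.univ.map q := by
      by_contra hne
      push Not at hne
      have h1 : (Finset.univ : Finset α) ⊆ Finset.univ.map q := fun x _ => hne x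
      have h2 := Finset.card_le_card h1
      rw [Finset.card_map, Finset.card_univ, Finset.card_univ, Fintype.card_fin] at h2
      omega
    refine ⟨⟨Fin.snoc q x, ?_⟩, fun i => ?_⟩
    · rw [Fin.snoc_injective_iff]
      refine ⟨q.injective, ?_⟩
      rintro ⟨i, hi⟩
      exact hx (Finset.mem_map.mpr ⟨i, Finset.mem_univ _, hi⟩)
    · rw [← hq i]
      exact Fin.snoc_castSucc (α := fun _ => α) x q (Fin.castLE hkl i)

/-- the restriction to `Alt (Fin 10)` -/
def res10 (ρ : Representation K (alternatingGroup α) V) (q : Fin 10 ↪ α) : Representation K A10 V :=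
  MonoidHom.comp ρ (ex q)

theorem g2_pst' (h5 : (5 : K) ≠ 0) (hle : Module.finrank K V ≤ 15) (q : Fin 10 ↪ α) :
    ex q g2 ∈ pst ρ (U ρ (ex q g1)) := by
  intro w hw
  exact g2_pst (ρ := res10 ρ q) h5 hle w hw

/-- rearrangement of ten points -/
def r10 : Fin 10 ↪ Fin 10 := ⟨![0, 1, 2, 6, 7, 3, 4, 5, 8, 9], by decide⟩

/-- **Characteristic not 5, degree at least 10.** -/
theorem indep_ten (h10 : 10 ≤ Fintype.card α) (h5 : (5 : K) ≠ 0) (hle : Module.finrank K V ≤ 15) : Indep ρ := by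
  intro e
  obtain ⟨q, hq⟩ := exists_ext (l := 10) (by omega) h10 e
  have e1 : ex e d1 = ex (r10.trans q) g1 := by
    apply Subtype.ext
    rw [ex_swap2 e 0 1 1 2 d1 rfl, ex_swap2 (r10.trans q) 0 1 1 2 g1 rfl]
    show _ = swap (q 0) (q 1) * swap (q 1) (q 2)
    rw [show q 0 = e 0 from hq 0, show q 1 = e 1 from hq 1, show q 2 = e 2 from hq 2]
  have e2 : ex e d2 = ex (r10.trans q) g2 := by
    apply Subtype.ext
    rw [ex_swap2 e 3 4 4 5 d2 rfl, ex_swap2 (r10.trans q) 5 6 6 7 g2 rfl]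
    show _ = swap (q 3) (q 4) * swap (q 4) (q 5)
    rw [show q 3 = e 3 from hq 3, show q 4 = e 4 from hq 4, show q 5 = e 5 from hq 5]
  rw [e1, e2]
  exact g2_pst' h5 hle _

end Cfsg.Agent.H614.AMod
end
end

-- part: H614/AMod/NineB
section
prune_inst 0x12020446062000000000590030000200000052200000000282006040a490020800000400a9004100288848100000000001000100000000000000000000000000000120210400c00300000000004000000000000000000000000000000000004000000000
set_option linter.all false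
open scoped Cfsg.Agent.FastGrp

-- part: H614/AMod/Nine
section
/-!
# Representations of `Alt (Fin 9)` of degree at most 12, characteristic not 3

`dich` : for disjoint 3-cycles `c`, `c'` : `c'` acts trivially on `[V, c]`, or on `C_V(c)`.
-/

set_option autoImplicit false
set_option linter.unusedSectionVars false

namespace Cfsg.Agent.H614.AMod

open Equiv Equiv.Perm

namespace E9

abbrev A9 := alternatingGroup (Fin 9)

/-- `(0 1 2)`, `(3 4 5)`, `(6 7 8)` -/
def c1 : A9 := ⟨swap (0 : Fin 9) 1 * swap (1 : Fin 9) 2, by rw [mem_alternatingGroup]; decide⟩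
def c2 : A9 := ⟨swap (3 : Fin 9) 4 * swap (4 : Fin 9) 5, by rw [mem_alternatingGroup]; decide⟩
def c3 : A9 := ⟨swap (6 : Fin 9) 7 * swap (7 : Fin 9) 8, by rw [mem_alternatingGroup]; decide⟩
/-- `(0 3 6)(1 4 7)(2 5 8)` -/
def sg : A9 := ⟨⟨![3, 4, 5, 6, 7, 8, 0, 1, 2], ![6, 7, 8, 0, 1, 2, 3, 4, 5], by decide, by decide⟩, by
  rw [mem_alternatingGroup]; decide⟩
/-- `(1 2)(4 5)` -/
def ta : A9 := ⟨swap (1 : Fin 9) 2 * swap (4 : Fin 9) 5, by rw [mem_alternatingGroup]; decide⟩
/-- `(0 3)(1 4)(2 5)(7 8)` -/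
def dd : A9 := ⟨swap (0 : Fin 9) 3 * swap (1 : Fin 9) 4 * swap (2 : Fin 9) 5 * swap (7 : Fin 9) 8, by rw [mem_alternatingGroup]; decide⟩
/-- conjugates `c1 * c2 * c3` to `sg` -/
def hh : A9 := ⟨⟨![1, 4, 7, 0, 3, 6, 2, 5, 8], ![3, 0, 6, 4, 1, 7, 5, 2, 8], by decide, by decide⟩, by
  rw [mem_alternatingGroup]; decide⟩

theorem c12 : c1 * c2 = c2 * c1 := by decide
theorem c13 : c1 * c3 = c3 * c1 := by decide
theorem c23 : c2 * c3 = c3 * c2 := by decide
theorem c1_3 : c1 ^ 3 = 1 := by decide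
theorem c2_3 : c2 ^ 3 = 1 := by decide
theorem c3_3 : c3 ^ 3 = 1 := by decide
theorem sg1 : sg * c1 = c2 * sg := by decide
theorem sg2 : sg * c2 = c3 * sg := by decide
theorem sg3 : sg * c3 = c1 * sg := by decide
theorem ta1 : ta * c1 = c1⁻¹ * ta := by decide
theorem ta2 : ta * c2 = c2⁻¹ * ta := by decide
theorem ta3 : ta * c3 = c3 * ta := by decide
theorem dd1 : dd * c1 = c2 * dd := by decide
theorem dd2 : dd * c2 = c1 * dd := by decide
theorem dd3 : dd * c3 = c3⁻¹ * dd := by decide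
theorem hsg : hh * (c1 * c2 * c3) = sg * hh := by decide

theorem inv_sq {c : A9} (h : c ^ 3 = 1) : c⁻¹ ^ 2 = c := by
  rw [inv_pow, inv_eq_iff_mul_eq_one, ← pow_succ]
  exact h

variable {K V : Type*} [Field K] [AddCommGroup V] [Module K V] [FiniteDimensional K V] (ρ : Representation K A9 V)

abbrev Tr := Fin 3 × Fin 3 × Fin 3

/-- `v` has weight `t` -/
def Wt (ω : K) (t : Tr) (v : V) : Prop :=
  v ∈ eg ρ c1 (ω ^ (t.1 : ℕ)) ∧ v ∈ eg ρ c2 (ω ^ (t.2.1 : ℕ)) ∧ v ∈ eg ρ c3 (ω ^ (t.2.2 : ℕ))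

/-- the weight `t` occurs -/
def N (ω : K) (t : Tr) : Prop := ∃ v : V, v ≠ 0 ∧ Wt ρ ω t v

variable {ρ}

theorem pow_mod {ω : K} (hω : ω ^ 3 = 1) (i : ℕ) : ω ^ (i % 3) = ω ^ i := by
  conv_rhs => rw [← Nat.mod_add_div i 3, pow_add, pow_mul, hω, one_pow, mul_one]

theorem eg_inv {ω : K} (hω : ω ^ 3 = 1) {c : A9} (hc : c ^ 3 = 1) {i : Fin 3} {v : V}
    (h : v ∈ eg ρ c⁻¹ (ω ^ (i : ℕ))) : v ∈ eg ρ c (ω ^ ((2 * i : Fin 3) : ℕ)) := by
  have h4 := pow_eg ρ h 2
  rw [inv_sq hc, ← pow_mul] at h4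
  have h5 : ω ^ ((2 * i : Fin 3) : ℕ) = ω ^ ((i : ℕ) * 2) := by
    rw [← pow_mod hω ((i : ℕ) * 2)]
    congr 1
    rw [Fin.val_mul, mul_comm]
    rfl
  rw [h5]
  exact h4

/-- the moves -/
def ma (t : Tr) : Tr := (t.2.2, t.1, t.2.1)
def mb (t : Tr) : Tr := (2 * t.1, 2 * t.2.1, t.2.2)
def md (t : Tr) : Tr := (t.2.1, t.1, 2 * t.2.2)

theorem N_ma {ω : K} {t : Tr} (h : N ρ ω t) : N ρ ω (ma t) := by
  obtain ⟨v, h0, h1, h2, h3⟩ := h
  exact ⟨ρ sg v, E10.rho_ne_zero sg h0, eg_move ρ sg3 h3, eg_move ρ sg1 h1, eg_move ρ sg2 h2⟩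

theorem N_mb {ω : K} (hω : ω ^ 3 = 1) {t : Tr} (h : N ρ ω t) : N ρ ω (mb t) := by
  obtain ⟨v, h0, h1, h2, h3⟩ := h
  exact ⟨ρ ta v, E10.rho_ne_zero ta h0, eg_inv hω c1_3 (eg_move ρ ta1 h1), eg_inv hω c2_3 (eg_move ρ ta2 h2),
    eg_move ρ ta3 h3⟩

theorem N_md {ω : K} (hω : ω ^ 3 = 1) {t : Tr} (h : N ρ ω t) : N ρ ω (md t) := by
  obtain ⟨v, h0, h1, h2, h3⟩ := h
  exact ⟨ρ dd v, E10.rho_ne_zero dd h0, eg_move ρ dd2 h2, eg_move ρ dd1 h1, eg_inv hω c3_3 (eg_move ρ dd3 h3)⟩

/-- words in the moves -/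
def word (y w u : Fin 2) (z : Fin 3) (t : Tr) : Tr :=
  mb^[y] (ma (mb^[w] (ma (ma (ma^[z] (md^[u] t))))))

/-- the number of non-trivial coordinates -/
def ty (t : Tr) : ℕ := (if t.1 = 0 then 0 else 1) + (if t.2.1 = 0 then 0 else 1) + (if t.2.2 = 0 then 0 else 1)

theorem reach : ∀ t t' : Tr, ty t = ty t' → ∃ y w u : Fin 2, ∃ z : Fin 3, word y w u z t = t' := by
  decide +kernel

theorem iter {ω : K} {f : Tr → Tr} (hf : ∀ t, N ρ ω t → N ρ ω (f t)) (n : ℕ) {t : Tr} (h : N ρ ω t) : N ρ ω (f^[n] t) := by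
  induction n with
  | zero => exact h
  | succ n ih => rw [Function.iterate_succ_apply']; exact hf _ ih

theorem N_all {ω : K} (hω : ω ^ 3 = 1) {t : Tr} (h : N ρ ω t) {t' : Tr} (ht : ty t = ty t') : N ρ ω t' := by
  obtain ⟨y, w, u, z, h1⟩ := reach t t' ht
  rw [← h1]
  have ha : ∀ t, N ρ ω t → N ρ ω (ma t) := fun t h => N_ma h
  have hb : ∀ t, N ρ ω t → N ρ ω (mb t) := fun t h => N_mb hω h
  have hd : ∀ t, N ρ ω t → N ρ ω (md t) := fun t h => N_md hω h
  unfold word
  exact iter hb _ (ha _ (iter hb _ (ha _ (ha _ (iter ha _ (iter hd _ h))))))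

/-- the family of commuting operators -/
def fam (ρ : Representation K A9 V) : Fin 3 → Module.End K V := ![ρ c1, ρ c2, ρ c3]

theorem fam_comm (i j : Fin 3) : Commute (fam ρ i) (fam ρ j) := by
  have h12 : Commute (ρ c1) (ρ c2) := rho_comm ρ c12
  have h13 : Commute (ρ c1) (ρ c3) := rho_comm ρ c13
  have h23 : Commute (ρ c2) (ρ c3) := rho_comm ρ c23
  fin_cases i <;> fin_cases j
  · exact Commute.refl _
  · exact h12
  · exact h13
  · exact h12.symm
  · exact Commute.refl _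
  · exact h23
  · exact h13.symm
  · exact h23.symm
  · exact Commute.refl _

theorem count {ω : K} (hω : IsPrimitiveRoot ω 3) (S : Tr → Prop) [DecidablePred S] (W : Submodule K V)
    (h : ∀ t, S t → ∃ v ∈ W, v ≠ 0 ∧ Wt ρ ω t v) : Fintype.card {t // S t} ≤ Module.finrank K W := by
  choose v hv using fun t : {t // S t} => h t.1 t.2
  refine card_le_of_weights (fam ρ) fam_comm W
    (fun t : {t // S t} => ![ω ^ (t.1.1 : ℕ), ω ^ (t.1.2.1 : ℕ), ω ^ (t.1.2.2 : ℕ)]) ?_ v (fun t => (hv t).2.1)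
    (fun t => (hv t).1) ?_
  · intro p q hpq
    have e1 := congrFun hpq 0
    have e2 := congrFun hpq 1
    have e3 := congrFun hpq 2
    have h3 := hω.pow_inj p.1.1.2 q.1.1.2 e1
    have h4 := hω.pow_inj p.1.2.1.2 q.1.2.1.2 e2
    have h5 := hω.pow_inj p.1.2.2.2 q.1.2.2.2 e3
    exact Subtype.ext (Prod.ext (Fin.ext h3) (Prod.ext (Fin.ext h4) (Fin.ext h5)))
  · intro t i
    obtain ⟨h1, h2, h3⟩ := (hv t).2.2
    fin_cases i
    · exact h1
    · exact h2
    · exact h3

theorem exists_wt [IsAlgClosed K] {ω : K} (hω : IsPrimitiveRoot ω 3) {W : Submodule K V} (hW : W ≠ ⊥)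
    (h1 : Inv ρ W c1) (h2 : Inv ρ W c2) (h3 : Inv ρ W c3) : ∃ t : Tr, ∃ v ∈ W, v ≠ 0 ∧ Wt ρ ω t v := by
  obtain ⟨a, ha⟩ := exists_eig ρ h1 hW
  obtain ⟨b, hb⟩ := exists_eig ρ (h2.inf ρ (inv_eg ρ c12 a)) ha
  obtain ⟨d, hd⟩ := exists_eig ρ ((h3.inf ρ (inv_eg ρ c13 a)).inf ρ (inv_eg ρ c23 b)) hb
  obtain ⟨v, hv, hv0⟩ := (Submodule.ne_bot_iff _).mp hd
  obtain ⟨⟨⟨hvW, hva⟩, hvb⟩, hvd⟩ := hv
  obtain ⟨i, hi, hia⟩ := hω.eq_pow_of_pow_eq_one (eig_pow ρ hva hv0 c1_3)
  obtain ⟨j, hj, hjb⟩ := hω.eq_pow_of_pow_eq_one (eig_pow ρ hvb hv0 c2_3)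
  obtain ⟨k, hk, hkd⟩ := hω.eq_pow_of_pow_eq_one (eig_pow ρ hvd hv0 c3_3)
  refine ⟨(⟨i, hi⟩, ⟨j, hj⟩, ⟨k, hk⟩), v, hvW, hv0, ?_, ?_, ?_⟩
  · show v ∈ eg ρ c1 (ω ^ i)
    rw [hia]; exact hva
  · show v ∈ eg ρ c2 (ω ^ j)
    rw [hjb]; exact hvb
  · show v ∈ eg ρ c3 (ω ^ k)
    rw [hkd]; exact hvd

theorem ne_zero_of_U {g : A9} (hg : g ^ 3 = 1) (h3 : ((3 : ℕ) : K) ≠ 0) {ω : K} {i : Fin 3} {v : V} (hv0 : v ≠ 0)
    (hv : v ∈ U ρ g) (hw : v ∈ eg ρ g (ω ^ (i : ℕ))) : i ≠ 0 := by
  rintro rfl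
  have h1 : v ∈ U ρ g ⊓ eg ρ g 1 := ⟨hv, by simpa using hw⟩
  rw [U_inf_fix ρ hg h3] at h1
  exact hv0 h1

theorem U_of_ne_zero {g : A9} {ω : K} (hω : IsPrimitiveRoot ω 3) {i : Fin 3} (hi : i ≠ 0) {v : V}
    (hw : v ∈ eg ρ g (ω ^ (i : ℕ))) : v ∈ U ρ g := by
  have h1 : ω ^ (i : ℕ) - 1 ≠ 0 := by
    intro h
    have h2 : ω ^ (i : ℕ) = ω ^ 0 := by rw [pow_zero]; exact sub_eq_zero.mp h
    have h3 := hω.pow_inj i.2 (by norm_num) h2
    exact hi (Fin.ext h3)
  refine (mem_U ρ).mpr ⟨(ω ^ (i : ℕ) - 1)⁻¹ • v, ?_⟩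
  rw [map_smul, hw, smul_smul, ← sub_smul, ← mul_sub_one, inv_mul_cancel₀ h1, one_smul]

theorem finrank_eg_conj {G : Type*} [Group G] {ρ : Representation K G V} {g h g' : G} (hg : h * g = g' * h) (c : K) :
    Module.finrank K (eg ρ g c) = Module.finrank K (eg ρ g' c) := by
  apply finrank_eq_of_map ρ h
  · intro w hw
    exact eg_move ρ hg hw
  · intro w hw
    apply eg_move ρ (g := g') _ hw
    rw [eq_mul_inv_iff_mul_eq, mul_assoc, ← hg, inv_mul_cancel_left]

section closed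

variable [IsAlgClosed K]

theorem not_two (h3 : ((3 : ℕ) : K) ≠ 0) (hle : Module.finrank K V ≤ 12) {ω : K} (hω : IsPrimitiveRoot ω 3) {t : Tr}
    (ht : ty t = 2) : ¬ N ρ ω t := by
  intro hN
  have hω3 := hω.pow_eq_one
  have hall : ∀ t' : Tr, ty t' = 2 → N ρ ω t' := fun t' ht' => N_all hω3 hN (ht.trans ht'.symm)
  -- no weight of type 3
  have hno3 : ∀ t' : Tr, ty t' = 3 → ¬ N ρ ω t' := by
    intro t' ht' hN'
    have h1 := count hω (fun t : Tr => ty t = 2 ∨ ty t = 3) (⊤ : Submodule K V) (by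
      rintro t (ht1 | ht1)
      · obtain ⟨v, hv⟩ := hall t ht1
        exact ⟨v, Submodule.mem_top, hv⟩
      · obtain ⟨v, hv⟩ := N_all hω3 hN' (ht'.trans ht1.symm)
        exact ⟨v, Submodule.mem_top, hv⟩)
    rw [finrank_top] at h1
    have h2 : Fintype.card {t : Tr // ty t = 2 ∨ ty t = 3} = 20 := by decide +kernel
    omega
  -- the dimension of [V, c1]
  have hU := count hω (fun t : Tr => ty t = 2 ∧ t.1 ≠ 0) (U ρ c1) (by
    rintro t ⟨ht1, ht2⟩
    obtain ⟨v, hv0, hv⟩ := hall t ht1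
    exact ⟨v, U_of_ne_zero hω ht2 hv.1, hv0, hv⟩)
  have hU8 : Fintype.card {t : Tr // ty t = 2 ∧ t.1 ≠ 0} = 8 := by decide +kernel
  -- the dimension of C_V(κ)
  have hk := count hω (fun t : Tr => ty t = 2 ∧ t.1 + t.2.1 + t.2.2 = 0) (eg ρ (c1 * c2 * c3) 1) (by
    rintro t ⟨ht1, ht2⟩
    obtain ⟨v, hv0, hv⟩ := hall t ht1
    refine ⟨v, ?_, hv0, hv⟩
    have h1 := eg_mul ρ (eg_mul ρ hv.1 hv.2.1) hv.2.2
    rw [← pow_add, ← pow_add, ← pow_mod hω3] at h1
    have h2 : ((t.1 : ℕ) + (t.2.1 : ℕ) + (t.2.2 : ℕ)) % 3 = 0 := by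
      have h3 := congrArg Fin.val ht2
      rw [Fin.val_add, Fin.val_add] at h3
      simpa using h3
    rw [h2, pow_zero] at h1
    exact h1)
  have hk6 : Fintype.card {t : Tr // ty t = 2 ∧ t.1 + t.2.1 + t.2.2 = 0} = 6 := by decide +kernel
  rw [finrank_eg_conj hsg] at hk
  -- C_V(σ) ∩ [V, c1] = 0
  have hinf : eg ρ sg 1 ⊓ U ρ c1 = ⊥ := by
    have hsub : eg ρ sg 1 ⊓ U ρ c1 ≤ U ρ c1 ⊓ U ρ c2 ⊓ U ρ c3 := by
      rintro v ⟨hv1, hv2⟩
      rw [SetLike.mem_coe, mem_eg_one] at hv1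
      have h1 := mem_U_conj ρ (h := sg) hv2
      rw [sg1, mul_inv_cancel_right, hv1] at h1
      have h2 := mem_U_conj ρ (h := sg) h1
      rw [sg2, mul_inv_cancel_right, hv1] at h2
      exact ⟨⟨hv2, h1⟩, h2⟩
    by_contra hne
    have hne' : U ρ c1 ⊓ U ρ c2 ⊓ U ρ c3 ≠ ⊥ := fun h => hne (le_bot_iff.mp (h ▸ hsub))
    obtain ⟨t', v, ⟨⟨hu1, hu2⟩, hu3⟩, hv0, hv⟩ := exists_wt hω hne'
      (((inv_U ρ (g := c1) (h := c1) rfl).inf ρ (inv_U ρ c12.symm)).inf ρ (inv_U ρ c13.symm))
      (((inv_U ρ c12).inf ρ (inv_U ρ (g := c2) (h := c2) rfl)).inf ρ (inv_U ρ c23.symm))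
      (((inv_U ρ c13).inf ρ (inv_U ρ c23)).inf ρ (inv_U ρ (g := c3) (h := c3) rfl))
    refine hno3 t' ?_ ⟨v, hv0, hv⟩
    unfold ty
    rw [if_neg (ne_zero_of_U c1_3 h3 hv0 hu1 hv.1), if_neg (ne_zero_of_U c2_3 h3 hv0 hu2 hv.2.1),
      if_neg (ne_zero_of_U c3_3 h3 hv0 hu3 hv.2.2)]
  have h4 := Submodule.finrank_sup_add_finrank_inf_eq (eg ρ sg 1) (U ρ c1)
  rw [hinf, finrank_bot] at h4
  have h5 := Submodule.finrank_le (eg ρ sg 1 ⊔ U ρ c1)
  omega

theorem dich_closed (h3 : ((3 : ℕ) : K) ≠ 0) (hle : Module.finrank K V ≤ 12) :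
    c2 ∈ pst ρ (U ρ c1) ∨ ∀ v, ρ c1 v = v → ρ c2 v = v := by
  haveI : NeZero ((3 : ℕ) : K) := ⟨h3⟩
  obtain ⟨ω, hω⟩ := HasEnoughRootsOfUnity.exists_primitiveRoot K 3
  have hω3 := hω.pow_eq_one
  by_cases hN : ∃ t : Tr, ty t = 3 ∧ N ρ ω t
  · obtain ⟨t, ht, hN⟩ := hN
    right
    intro v hv
    by_contra hne
    have hne' : U ρ c2 ⊓ eg ρ c1 1 ≠ ⊥ := by
      rw [Submodule.ne_bot_iff]
      refine ⟨ρ c2 v - v, ⟨sub_mem_U ρ c2 v, ?_⟩, sub_ne_zero.mpr hne⟩
      rw [SetLike.mem_coe, mem_eg_one, map_sub, ← rho_mul, c12, rho_mul, hv]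
    obtain ⟨t', w, ⟨hw1, hw2⟩, hw0, hw⟩ := exists_wt hω hne'
      ((inv_U ρ c12.symm).inf ρ (inv_eg ρ (g := c1) (h := c1) rfl 1))
      ((inv_U ρ (g := c2) (h := c2) rfl).inf ρ (inv_eg ρ c12 1))
      ((inv_U ρ c23).inf ρ (inv_eg ρ c13 1))
    have h1 : t'.2.1 ≠ 0 := ne_zero_of_U c2_3 h3 hw0 hw1 hw.2.1
    have h2 : t'.1 = 0 := by
      by_contra h2
      have h3' := U_of_ne_zero hω h2 hw.1
      have h4 : w ∈ U ρ c1 ⊓ eg ρ c1 1 := ⟨h3', hw2⟩
      rw [U_inf_fix ρ c1_3 h3] at h4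
      exact hw0 h4
    have h4 : ty t' = 1 ∨ ty t' = 2 := by
      unfold ty
      rw [if_pos h2, if_neg h1]
      split_ifs <;> simp
    rcases h4 with h4 | h4
    · have h5 := count hω (fun t : Tr => ty t = 1 ∨ ty t = 3) (⊤ : Submodule K V) (by
        rintro t'' (ht1 | ht1)
        · obtain ⟨v, hv⟩ := N_all hω3 ⟨w, hw0, hw⟩ (h4.trans ht1.symm)
          exact ⟨v, Submodule.mem_top, hv⟩
        · obtain ⟨v, hv⟩ := N_all hω3 hN (ht.trans ht1.symm)
          exact ⟨v, Submodule.mem_top, hv⟩)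
      rw [finrank_top] at h5
      have h6 : Fintype.card {t : Tr // ty t = 1 ∨ ty t = 3} = 14 := by decide +kernel
      omega
    · exact not_two h3 hle hω h4 ⟨w, hw0, hw⟩
  · left
    intro w hw
    by_contra hne
    have hne' : U ρ c1 ⊓ U ρ c2 ≠ ⊥ := by
      rw [Submodule.ne_bot_iff]
      exact ⟨ρ c2 w - w, ⟨Submodule.sub_mem _ (inv_U ρ c12 w hw) hw, sub_mem_U ρ c2 w⟩, sub_ne_zero.mpr hne⟩
    obtain ⟨t', v, ⟨hv1, hv2⟩, hv0, hv⟩ := exists_wt hω hne'
      ((inv_U ρ (g := c1) (h := c1) rfl).inf ρ (inv_U ρ c12.symm))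
      ((inv_U ρ c12).inf ρ (inv_U ρ (g := c2) (h := c2) rfl))
      ((inv_U ρ c13).inf ρ (inv_U ρ c23))
    have h1 : t'.1 ≠ 0 := ne_zero_of_U c1_3 h3 hv0 hv1 hv.1
    have h2 : t'.2.1 ≠ 0 := ne_zero_of_U c2_3 h3 hv0 hv2 hv.2.1
    have h4 : ty t' = 2 ∨ ty t' = 3 := by
      unfold ty
      rw [if_neg h1, if_neg h2]
      split_ifs <;> simp
    rcases h4 with h4 | h4
    · exact not_two h3 hle hω h4 ⟨v, hv0, hv⟩
    · exact hN ⟨t', h4, v, hv0, hv⟩

end closed

theorem dich (h3 : ((3 : ℕ) : K) ≠ 0) (hle : Module.finrank K V ≤ 12) :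
    c2 ∈ pst ρ (U ρ c1) ∨ ∀ v, ρ c1 v = v → ρ c2 v = v := by
  have h3' : ((3 : ℕ) : AlgebraicClosure K) ≠ 0 := by
    have h1 : algebraMap K (AlgebraicClosure K) ((3 : ℕ) : K) = ((3 : ℕ) : AlgebraicClosure K) := map_natCast _ 3
    rw [← h1]
    intro h
    exact h3 ((algebraMap K (AlgebraicClosure K)).injective (h.trans (map_zero _).symm))
  rcases dich_closed (ρ := bc ρ) h3' (by rw [finrank_bc]; exact hle) with h | h
  · left
    exact pst_of_bc ρ h
  · right
    intro v hv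
    have h1 := h (1 ⊗ₜ v) (by rw [bc_tmul, hv])
    rw [bc_tmul] at h1
    exact one_tmul_inj h1

end E9

end Cfsg.Agent.H614.AMod
end

-- part: H614/AMod/NineB
section
/-!
# Representations of `Alt α`, `|α| ≥ 9`, of degree at most 12, characteristic not 3

`nine` : irreducible, non-trivial ⟹ `Indep`, or 3-cycles are fixed point free and the degree is 8.
-/

set_option autoImplicit false
set_option linter.unusedSectionVars false

namespace Cfsg.Agent.H614.AMod

open Equiv Equiv.Perm TensorProduct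

section general

variable {K V G : Type*} [Field K] [AddCommGroup V] [Module K V] [Group G] {ρ : Representation K G V}

theorem quad_of_fpf {g : G} (hg : g ^ 3 = 1) (h : ∀ v, ρ g v = v → v = 0) (v : V) : ρ g (ρ g v) + ρ g v + v = 0 := by
  apply h
  rw [map_add, map_add]
  have h1 : ρ g (ρ g (ρ g v)) = v := by
    rw [← rho_mul, ← rho_mul, show g * g * g = g ^ 3 by rw [pow_succ, pow_two], hg, rho_one]
  rw [h1]
  abel

theorem fpf_of_quad (h3 : ((3 : ℕ) : K) ≠ 0) {g : G} (h : ∀ v, ρ g (ρ g v) + ρ g v + v = 0) {v : V} (hv : ρ g v = v) :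
    v = 0 := by
  have h1 := h v
  rw [hv, hv] at h1
  have h2 : ((3 : ℕ) : K) • v = 0 := by
    rw [Nat.cast_smul_eq_nsmul, ← h1]
    abel
  exact (smul_eq_zero.mp h2).resolve_left h3

theorem quad_bc {g : G} (h : ∀ v, ρ g (ρ g v) + ρ g v + v = 0) (v : AlgebraicClosure K ⊗[K] V) :
    bc ρ g (bc ρ g v) + bc ρ g v + v = 0 := by
  induction v with
  | zero => simp
  | add x y hx hy =>
    rw [map_add, map_add]
    have : bc ρ g (bc ρ g x) + bc ρ g (bc ρ g y) + (bc ρ g x + bc ρ g y) + (x + y) =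
      (bc ρ g (bc ρ g x) + bc ρ g x + x) + (bc ρ g (bc ρ g y) + bc ρ g y + y) := by abel
    rw [this, hx, hy, add_zero]
  | tmul a v =>
    rw [bc_tmul, bc_tmul, ← TensorProduct.tmul_add, ← TensorProduct.tmul_add, h, TensorProduct.tmul_zero]

variable [FiniteDimensional K V]

theorem split3 {ω : K} (hω : IsPrimitiveRoot ω 3) {g : G} (h : ∀ v, ρ g (ρ g v) + ρ g v + v = 0)
    {W : Submodule K V} (hW : Inv ρ W g) :
    Module.finrank K W = Module.finrank K (W ⊓ eg ρ g (ω ^ 1) : Submodule K V) +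
      Module.finrank K (W ⊓ eg ρ g (ω ^ 2) : Submodule K V) := by
  have hne : ω ^ 1 - ω ^ 2 ≠ 0 := by
    intro h1
    have h2 := hω.pow_inj (by norm_num) (by norm_num) (sub_eq_zero.mp h1)
    norm_num at h2
  have hω3 := hω.pow_eq_one
  have hsum : ω ^ 2 + ω + 1 = 0 := by
    have h1 : (ω - 1) * (ω ^ 2 + ω + 1) = 0 := by linear_combination hω3
    rcases mul_eq_zero.mp h1 with h2 | h2
    · exact absurd (sub_eq_zero.mp h2) (hω.ne_one (by norm_num))
    · exact h2
  have hdis : (W ⊓ eg ρ g (ω ^ 1)) ⊓ (W ⊓ eg ρ g (ω ^ 2)) = ⊥ := by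
    rw [eq_bot_iff]
    rintro v ⟨⟨-, h3⟩, ⟨-, h4⟩⟩
    rw [SetLike.mem_coe, mem_eg] at h3 h4
    have h5 : (ω ^ 1 - ω ^ 2) • v = 0 := by rw [sub_smul, ← h3, ← h4, sub_self]
    rw [Submodule.mem_bot]
    exact (smul_eq_zero.mp h5).resolve_left hne
  have hsup : (W ⊓ eg ρ g (ω ^ 1)) ⊔ (W ⊓ eg ρ g (ω ^ 2)) = W := by
    apply le_antisymm (sup_le inf_le_left inf_le_left)
    intro v hv
    have hgg : ρ g (ρ g v) = -(ρ g v) - v := by
      have h1 := h v
      rw [add_assoc, add_eq_zero_iff_eq_neg] at h1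
      rw [h1]; abel
    have e1 : v = (ω ^ 1 - ω ^ 2)⁻¹ • (ρ g v - ω ^ 2 • v) + (ω ^ 1 - ω ^ 2)⁻¹ • -(ρ g v - ω ^ 1 • v) := by
      rw [← smul_add]
      have : (ρ g v - ω ^ 2 • v) + -(ρ g v - ω ^ 1 • v) = (ω ^ 1 - ω ^ 2) • v := by rw [sub_smul]; abel
      rw [this, smul_smul, inv_mul_cancel₀ hne, one_smul]
    rw [e1]
    apply Submodule.add_mem_sup
    · refine ⟨W.smul_mem _ (W.sub_mem (hW v hv) (W.smul_mem _ hv)), ?_⟩
      rw [SetLike.mem_coe, mem_eg, map_smul, map_sub, map_smul, hgg, smul_comm]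
      congr 1
      rw [smul_sub, smul_smul, pow_one]
      have e2 : ω * ω ^ 2 = 1 := by rw [← hω3]; ring
      have e3 : ω ^ 2 = -1 - ω := by linear_combination hsum
      rw [e2, one_smul, e3, sub_smul, neg_one_smul]
      abel
    · refine ⟨W.smul_mem _ (W.neg_mem (W.sub_mem (hW v hv) (W.smul_mem _ hv))), ?_⟩
      rw [SetLike.mem_coe, mem_eg, map_smul, map_neg, map_sub, map_smul, hgg, smul_comm (ω ^ 2)]
      congr 1
      have e2 : ω ^ 2 * ω = 1 := by rw [← hω3]; ring
      have e3 : ω ^ 2 = -1 - ω := by linear_combination hsum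
      rw [smul_neg, smul_sub, smul_smul, pow_one, e2, one_smul, e3, sub_smul, neg_one_smul]
      abel
  have h3 := Submodule.finrank_sup_add_finrank_inf_eq (W ⊓ eg ρ g (ω ^ 1)) (W ⊓ eg ρ g (ω ^ 2))
  rw [hdis, hsup, finrank_bot, add_zero] at h3
  exact h3

end general

namespace E9

variable {K V : Type*} [Field K] [AddCommGroup V] [Module K V] [FiniteDimensional K V] {ρ : Representation K A9 V}

/-- the weight space -/
def WS (ρ : Representation K A9 V) (ω : K) (t : Tr) : Submodule K V :=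
  ⊤ ⊓ eg ρ c1 (ω ^ (t.1 : ℕ)) ⊓ eg ρ c2 (ω ^ (t.2.1 : ℕ)) ⊓ eg ρ c3 (ω ^ (t.2.2 : ℕ))

theorem WS_ma {ω : K} (t : Tr) : Module.finrank K (WS ρ ω t) ≤ Module.finrank K (WS ρ ω (ma t)) := by
  apply finrank_le_of_map ρ sg
  rintro v ⟨⟨⟨-, h1⟩, h2⟩, h3⟩
  exact ⟨⟨⟨trivial, eg_move ρ sg3 h3⟩, eg_move ρ sg1 h1⟩, eg_move ρ sg2 h2⟩

theorem WS_mb {ω : K} (hω : ω ^ 3 = 1) (t : Tr) : Module.finrank K (WS ρ ω t) ≤ Module.finrank K (WS ρ ω (mb t)) := by
  apply finrank_le_of_map ρ ta
  rintro v ⟨⟨⟨-, h1⟩, h2⟩, h3⟩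
  exact ⟨⟨⟨trivial, eg_inv hω c1_3 (eg_move ρ ta1 h1)⟩, eg_inv hω c2_3 (eg_move ρ ta2 h2)⟩, eg_move ρ ta3 h3⟩

theorem WS_md {ω : K} (hω : ω ^ 3 = 1) (t : Tr) : Module.finrank K (WS ρ ω t) ≤ Module.finrank K (WS ρ ω (md t)) := by
  apply finrank_le_of_map ρ dd
  rintro v ⟨⟨⟨-, h1⟩, h2⟩, h3⟩
  exact ⟨⟨⟨trivial, eg_move ρ dd2 h2⟩, eg_move ρ dd1 h1⟩, eg_inv hω c3_3 (eg_move ρ dd3 h3)⟩

theorem WS_iter {ω : K} {f : Tr → Tr} (hf : ∀ t, Module.finrank K (WS ρ ω t) ≤ Module.finrank K (WS ρ ω (f t))) (n : ℕ)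
    (t : Tr) : Module.finrank K (WS ρ ω t) ≤ Module.finrank K (WS ρ ω (f^[n] t)) := by
  induction n with
  | zero => exact le_rfl
  | succ n ih => rw [Function.iterate_succ_apply']; exact ih.trans (hf _)

theorem WS_all {ω : K} (hω : ω ^ 3 = 1) {t t' : Tr} (ht : ty t = ty t') :
    Module.finrank K (WS ρ ω t) ≤ Module.finrank K (WS ρ ω t') := by
  obtain ⟨y, w, u, z, h1⟩ := reach t t' ht
  rw [← h1]
  have ha := WS_ma (ρ := ρ) (ω := ω)
  have hb := WS_mb (ρ := ρ) hω
  have hd := WS_md (ρ := ρ) hω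
  unfold word
  refine le_trans ?_ (WS_iter hb _ _)
  refine le_trans ?_ (ha _)
  refine le_trans ?_ (WS_iter hb _ _)
  refine le_trans ?_ (ha _)
  refine le_trans ?_ (ha _)
  refine le_trans ?_ (WS_iter ha _ _)
  exact WS_iter hd _ _

theorem finrank_eight_closed [IsAlgClosed K] (h3 : ((3 : ℕ) : K) ≠ 0) (hle : Module.finrank K V ≤ 12)
    (hpos : 0 < Module.finrank K V) (h : ∀ v, ρ c1 (ρ c1 v) + ρ c1 v + v = 0) : Module.finrank K V = 8 := by
  haveI : NeZero ((3 : ℕ) : K) := ⟨h3⟩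
  obtain ⟨ω, hω⟩ := HasEnoughRootsOfUnity.exists_primitiveRoot K 3
  have hω3 := hω.pow_eq_one
  have key : ∀ {g g' k : A9}, k * g = g' * k → (∀ v, ρ g (ρ g v) + ρ g v + v = 0) →
      ∀ v, ρ g' (ρ g' v) + ρ g' v + v = 0 := by
    intro g g' k hk hg v
    have h1 := congrArg (ρ k) (hg (ρ k⁻¹ v))
    rw [map_add, map_add, map_zero, rho_self_inv] at h1
    have h2 : ∀ u, ρ k (ρ g u) = ρ g' (ρ k u) := fun u => by rw [← rho_mul, hk, rho_mul]
    rwa [h2, h2, rho_self_inv] at h1
  have hc2 := key sg1 h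
  have hc3 := key sg2 hc2
  have s0 := split3 hω h (inv_top ρ c1)
  have s1 := fun c : K => split3 hω hc2 ((inv_top ρ c2).inf ρ (inv_eg ρ c12 c))
  have s2 := fun c d : K => split3 hω hc3 (((inv_top ρ c3).inf ρ (inv_eg ρ c13 c)).inf ρ (inv_eg ρ c23 d))
  have e := fun t : Tr => fun ht : ty t = 3 => WS_all (ρ := ρ) hω3 (show ty t = ty (1, 1, 1) from ht)
  have e' := fun t : Tr => fun ht : ty t = 3 => WS_all (ρ := ρ) hω3 (show ty (1, 1, 1) = ty t from ht.symm)
  have d1 := le_antisymm (e (1, 1, 2) rfl) (e' (1, 1, 2) rfl)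
  have d2 := le_antisymm (e (1, 2, 1) rfl) (e' (1, 2, 1) rfl)
  have d3 := le_antisymm (e (1, 2, 2) rfl) (e' (1, 2, 2) rfl)
  have d4 := le_antisymm (e (2, 1, 1) rfl) (e' (2, 1, 1) rfl)
  have d5 := le_antisymm (e (2, 1, 2) rfl) (e' (2, 1, 2) rfl)
  have d6 := le_antisymm (e (2, 2, 1) rfl) (e' (2, 2, 1) rfl)
  have d7 := le_antisymm (e (2, 2, 2) rfl) (e' (2, 2, 2) rfl)
  have a1 := s1 (ω ^ 1)
  have a2 := s1 (ω ^ 2)
  have b11 := s2 (ω ^ 1) (ω ^ 1)
  have b12 := s2 (ω ^ 1) (ω ^ 2)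
  have b21 := s2 (ω ^ 2) (ω ^ 1)
  have b22 := s2 (ω ^ 2) (ω ^ 2)
  rw [finrank_top] at s0
  unfold WS at d1 d2 d3 d4 d5 d6 d7
  simp only [Fin.val_one, Fin.val_two] at d1 d2 d3 d4 d5 d6 d7
  omega

theorem finrank_eight (h3 : ((3 : ℕ) : K) ≠ 0) (hle : Module.finrank K V ≤ 12)
    (hpos : 0 < Module.finrank K V) (h : ∀ v, ρ c1 v = v → v = 0) : Module.finrank K V = 8 := by
  have h3' : ((3 : ℕ) : AlgebraicClosure K) ≠ 0 := by
    have h1 : algebraMap K (AlgebraicClosure K) ((3 : ℕ) : K) = ((3 : ℕ) : AlgebraicClosure K) := map_natCast _ 3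
    rw [← h1]
    intro h
    exact h3 ((algebraMap K (AlgebraicClosure K)).injective (h.trans (map_zero _).symm))
  have h1 := finrank_eight_closed (ρ := bc ρ) h3' (by rw [finrank_bc]; exact hle) (by rw [finrank_bc]; exact hpos)
    (quad_bc (quad_of_fpf c1_3 h))
  rwa [finrank_bc] at h1

end E9

open E9

variable {α : Type*} [Fintype α] [DecidableEq α]
variable {K V : Type*} [Field K] [AddCommGroup V] [Module K V] [FiniteDimensional K V]
  {ρ : Representation K (alternatingGroup α) V}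

/-- the restriction to `Alt (Fin 9)` -/
def res9 (ρ : Representation K (alternatingGroup α) V) (q : Fin 9 ↪ α) : Representation K A9 V :=
  MonoidHom.comp ρ (ex q)

/-- a 3-cycle disjoint from two given ones -/
theorem exists_disjoint (h9 : 9 ≤ Fintype.card α) (e e' : Fin 3 ↪ α) :
    ∃ f : Fin 3 ↪ α, (∀ i j, e i ≠ f j) ∧ ∀ i j, f i ≠ e' j := by
  let S : Finset α := Finset.univ.map e ∪ Finset.univ.map e'
  have hS : S.card ≤ 6 := by
    refine (Finset.card_union_le _ _).trans ?_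
    rw [Finset.card_map, Finset.card_map, Finset.card_univ, Fintype.card_fin]
  have hc : 3 ≤ Fintype.card {x // x ∉ S} := by
    rw [Fintype.card_subtype_compl, Fintype.card_coe]
    omega
  obtain ⟨f⟩ : Nonempty (Fin 3 ↪ {x // x ∉ S}) := by
    apply Function.Embedding.nonempty_of_card_le
    rw [Fintype.card_fin]
    exact hc
  refine ⟨f.trans (Function.Embedding.subtype _), fun i j h => ?_, fun i j h => ?_⟩
  · exact (f j).2 (Finset.mem_union_left _ (Finset.mem_map.mpr ⟨i, Finset.mem_univ _, h⟩))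
  · exact (f i).2 (Finset.mem_union_right _ (Finset.mem_map.mpr ⟨j, Finset.mem_univ _, h.symm⟩))

/-- **The dichotomy for `|α| ≥ 9`, characteristic not 3, degree at most 12.** -/
theorem nine (h9 : 9 ≤ Fintype.card α) (h3 : ((3 : ℕ) : K) ≠ 0) (hle : Module.finrank K V ≤ 12) (hirr : Irr ρ)
    {g₀ : alternatingGroup α} {v₀ : V} (hne : ρ g₀ v₀ ≠ v₀) :
    Indep ρ ∨ (Module.finrank K V = 8 ∧ ∀ (e : Fin 3 ↪ α) (v : V), ρ (ex e c3) v = v → v = 0) := by
  classical
  -- nine points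
  obtain ⟨q⟩ : Nonempty (Fin 9 ↪ α) :=
    Function.Embedding.nonempty_of_card_le (by rw [Fintype.card_fin]; exact h9)
  let e₀ : Fin 6 ↪ α := (Fin.castLEEmb (by norm_num : 6 ≤ 9)).trans q
  have hd1 : ex q c1 = ex e₀ d1 := by
    apply Subtype.ext
    rw [ex_swap2 q 0 1 1 2 c1 rfl, ex_swap2 e₀ 0 1 1 2 d1 rfl]
    rfl
  have hd2 : ex q c2 = ex e₀ d2 := by
    apply Subtype.ext
    rw [ex_swap2 q 3 4 4 5 c2 rfl, ex_swap2 e₀ 3 4 4 5 d2 rfl]
    rfl
  rcases dich (ρ := res9 ρ q) h3 hle with h | h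
  · left
    intro e
    obtain ⟨g, hg⟩ := exists_move (by omega) e₀ e
    have h1 : ex q c2 ∈ pst ρ (U ρ (ex q c1)) := fun w hw => h w hw
    have h2 := pst_conj ρ (h := g) h1
    rwa [hd1, hd2, ex_conj e₀ e d1 g hg, ex_conj e₀ e d2 g hg] at h2
  · right
    -- fixed points of disjoint 3-cycles
    have h1 : ∀ (f f' : Fin 3 ↪ α), (∀ i j, f i ≠ f' j) → ∀ v, ρ (ex f c3) v = v → ρ (ex f' c3) v = v := by
      intro f f' hff v hv
      have h2 : ex (emb6 f f' hff) d1 = ex f c3 :=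
        ex_eq_of_coe (emb6 f f' hff) f 0 1 2 d1 rfl (by decide) (by decide) (by decide) rfl rfl rfl
      have h3 : ex (emb6 f f' hff) d2 = ex f' c3 :=
        ex_eq_of_coe (emb6 f f' hff) f' 3 4 5 d2 rfl (by decide) (by decide) (by decide) rfl rfl rfl
      obtain ⟨g, hg⟩ := exists_move (by omega) e₀ (emb6 f f' hff)
      rw [← h2, ← ex_conj e₀ _ d1 g hg, rho_mul, rho_mul] at hv
      have h4 : ρ (ex e₀ d1) (ρ g⁻¹ v) = ρ g⁻¹ v := by
        have h5 := congrArg (ρ g⁻¹) hv
        rwa [rho_inv_self] at h5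
      rw [← hd1] at h4
      have h5 : ρ (ex q c2) (ρ g⁻¹ v) = ρ g⁻¹ v := h _ h4
      rw [hd2] at h5
      rw [← h3, ← ex_conj e₀ _ d2 g hg, rho_mul, rho_mul, h5, rho_self_inv]
    have h2 : ∀ (f : Fin 3 ↪ α) (v : V), ρ (ex f c3) v = v → v = 0 := by
      intro f v hv
      have h4 : ∀ f' : Fin 3 ↪ α, ρ (ex f' c3) v = v := by
        intro f'
        obtain ⟨k, hk1, hk2⟩ := exists_disjoint h9 f f'
        exact h1 k f' hk2 v (h1 f k hk1 v hv)
      have h5 : v ∈ fixV ρ := by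
        intro g
        let H : Subgroup (alternatingGroup α) := pst ρ (Submodule.span K {v})
        have hH : ∀ k : alternatingGroup α, k ∈ H ↔ ρ k v = v := by
          intro k
          constructor
          · intro hk
            exact hk v (Submodule.mem_span_singleton_self v)
          · intro hk w hw
            obtain ⟨c, rfl⟩ := Submodule.mem_span_singleton.mp hw
            rw [map_smul, hk]
        rw [← hH]
        refine mem_of_cyc H Set.univ (Set.mem_univ (q 0)) (Set.mem_univ (q 1)) (q.injective.ne (by decide)) ?_ g ?_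
        · intro e' _ _ _
          rw [hH]
          exact h4 e'
        · intro z hz
          exact absurd (Set.mem_univ z) hz
      rw [fixV_eq_bot ρ hirr hne] at h5
      exact h5
    refine ⟨?_, h2⟩
    apply finrank_eight (ρ := res9 ρ q) h3 hle
    · haveI : Nontrivial V := ⟨⟨ρ g₀ v₀, v₀, hne⟩⟩
      exact Module.finrank_pos
    · intro v hv
      let f : Fin 3 ↪ α := (Fin.castLEEmb (by norm_num : 3 ≤ 9)).trans q
      have h4 : ex q c1 = ex f c3 :=
        ex_eq_of_coe q f 0 1 2 c1 rfl (by decide) (by decide) (by decide) rfl rfl rfl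
      apply h2 f v
      rw [← h4]
      exact hv

end Cfsg.Agent.H614.AMod
end
end

-- part: H964/AltMod/Dim
section
prune_inst 0x120240470600000001800920300002400000422004000002820040008494260a040204102c00410029890414001002000100000422000000a0004000002000000801200a1480000000086000804000000000000000000000000000000000004000000000
set_option linter.all false
open scoped Cfsg.Agent.FastGrp

/-!
# The natural module of the alternating group: dimension and generators (helper964)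

`NatM ρ F` : `V` is spanned by the vectors `F i j` (`= e_i - e_j`);
* `NatM.sys_of_ne` : `m ≠ 0` in `K` : `v i = ∑ j, F i j` : `dim V = m - 1`;
* `NatM.sys_of_eq` : `m = 0` in `K` : `v i = F i o`, `i ≠ o` : `dim V = m - 2`.
-/

set_option autoImplicit false
set_option linter.unusedSectionVars false

namespace Cfsg.Agent.H964.AltMod

open Equiv Equiv.Perm Cfsg.Agent.H614.AMod Cfsg.Agent.H882.Del

section sys

variable {K V : Type*} [Field K] [AddCommGroup V] [Module K V] [FiniteDimensional K V] [Nontrivial V]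
variable {ι : Type*} [Fintype ι] [DecidableEq ι] {v : ι → V}

/-- spanning vectors with sum zero and no other relation form a `Sys` -/
theorem sys_of_rel (hs : Submodule.span K (Set.range v) = ⊤) (h0 : ∑ i, v i = 0)
    (hr : ∀ c : ι → K, ∑ i, c i • v i = 0 → ∀ i j, c i = c j) : Sys K v := by
  have hne : Nonempty ι := by
    by_contra h
    rw [not_nonempty_iff] at h
    rw [Set.range_eq_empty, Submodule.span_empty] at hs
    exact bot_ne_top hs
  obtain ⟨i0⟩ := hne
  let Φ : (ι → K) →ₗ[K] V := Fintype.linearCombination K v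
  have hΦ : ∀ c, Φ c = ∑ i, c i • v i := fun c => rfl
  have hsurj : LinearMap.range Φ = ⊤ := by
    rw [← hs]
    exact Fintype.range_linearCombination K v
  have h1 := LinearMap.finrank_range_add_finrank_ker Φ
  rw [hsurj, finrank_top, Module.finrank_fintype_fun_eq_card] at h1
  have h2 : Module.finrank K (LinearMap.ker Φ) = 1 := by
    have hmem : (fun _ : ι => (1 : K)) ∈ LinearMap.ker Φ := by
      rw [LinearMap.mem_ker, hΦ]
      simp only [one_smul]
      exact h0
    refine (finrank_eq_one_iff_of_nonzero' (⟨_, hmem⟩ : LinearMap.ker Φ) ?_).2 ?_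
    · intro h
      exact one_ne_zero (congrFun (congrArg Subtype.val h) i0)
    · rintro ⟨c, hc⟩
      rw [LinearMap.mem_ker, hΦ] at hc
      refine ⟨c i0, ?_⟩
      ext i
      have := hr c hc i i0
      simp [this]
  exact ⟨hs, by omega, Module.finrank_pos, h0⟩

end sys

variable {α : Type*} [Fintype α] [DecidableEq α]
variable {K V : Type*} [Field K] [AddCommGroup V] [Module K V] [FiniteDimensional K V]

/-- the vectors `F i j` of the natural module -/
structure NatM (ρ : Representation K (alternatingGroup α) V) (F : α → α → V) : Prop where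
  anti : ∀ i j, F j i = -F i j
  tri : ∀ i j k, F i j + F j k = F i k
  act : ∀ (g : alternatingGroup α) i j, ρ g (F i j) = F ((g : Perm α) i) ((g : Perm α) j)
  span : Submodule.span K (Set.range fun p : α × α => F p.1 p.2) = ⊤
  ne : ∃ i j, F i j ≠ 0

/-- `x → y → z → x` -/
def cyc (x y z : α) (h1 : x ≠ y) (h2 : y ≠ z) : alternatingGroup α := ⟨swap x y * swap y z, by
  rw [mem_alternatingGroup, Perm.sign_mul, sign_swap h1, sign_swap h2]; decide⟩

theorem cyc_fst {x y z : α} (h1 : x ≠ y) (h2 : y ≠ z) (h3 : x ≠ z) : ((cyc x y z h1 h2 : alternatingGroup α) : Perm α) x = y := by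
  change swap x y (swap y z x) = y
  rw [swap_apply_of_ne_of_ne h1 h3, swap_apply_left]

theorem cyc_snd {x y z : α} (h1 : x ≠ y) (h2 : y ≠ z) (h3 : x ≠ z) : ((cyc x y z h1 h2 : alternatingGroup α) : Perm α) y = z := by
  change swap x y (swap y z y) = z
  rw [swap_apply_left, swap_apply_of_ne_of_ne h3.symm h2.symm]

theorem cyc_thd {x y z : α} (h1 : x ≠ y) (h2 : y ≠ z) : ((cyc x y z h1 h2 : alternatingGroup α) : Perm α) z = x := by
  change swap x y (swap y z z) = x
  rw [swap_apply_right, swap_apply_right]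

theorem cyc_of_ne {x y z w : α} (h1 : x ≠ y) (h2 : y ≠ z) (hx : w ≠ x) (hy : w ≠ y) (hz : w ≠ z) :
    ((cyc x y z h1 h2 : alternatingGroup α) : Perm α) w = w := by
  change swap x y (swap y z w) = w
  rw [swap_apply_of_ne_of_ne hy hz, swap_apply_of_ne_of_ne hx hy]

/-- a point outside a small list -/
theorem exists_notMem {l : List α} (h : l.length < Fintype.card α) : ∃ w, w ∉ l := by
  by_contra hc
  push Not at hc
  have h1 : (Finset.univ : Finset α) ⊆ l.toFinset := fun x _ => List.mem_toFinset.2 (hc x)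
  have h2 := Finset.card_le_card h1
  rw [Finset.card_univ] at h2
  exact absurd (h2.trans (List.toFinset_card_le l)) (by omega)

/-- two-transitivity -/
theorem exists_g (h8 : 8 ≤ Fintype.card α) {x y x' y' : α} (h : x ≠ y) (h' : x' ≠ y') :
    ∃ g : alternatingGroup α, (g : Perm α) x = x' ∧ (g : Perm α) y = y' := by
  obtain ⟨g, hg⟩ := exists_move (k := 2) (by omega) (emb2 x y h) (emb2 x' y' h')
  have h0 := hg 0
  have h1 := hg 1
  exact ⟨g, h0, h1⟩

namespace NatM

variable {ρ : Representation K (alternatingGroup α) V} {F : α → α → V}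

theorem self (N : NatM ρ F) (i : α) : F i i = 0 := by
  have h := N.tri i i i
  exact add_eq_right.1 h

theorem ne_zero (N : NatM ρ F) (h8 : 8 ≤ Fintype.card α) {x y : α} (h : x ≠ y) : F x y ≠ 0 := by
  obtain ⟨i, j, hij⟩ := N.ne
  have hij' : i ≠ j := by
    rintro rfl
    exact hij (N.self i)
  obtain ⟨g, h1, h2⟩ := exists_g h8 h hij'
  intro h0
  have h3 := N.act g x y
  rw [h0, map_zero, h1, h2] at h3
  exact hij h3.symm

/-- the only relation between the `F i o` with coefficient sum zero is the constant one -/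
theorem rel (N : NatM ρ F) (h8 : 8 ≤ Fintype.card α) {c : α → K} (hc : ∑ i, c i = 0) {o : α}
    (h : ∑ i, c i • F i o = 0) (y z : α) : c y = c z := by
  -- independence of the base point
  have hbase : ∀ o', ∑ i, c i • F i o' = 0 := by
    intro o'
    have h1 : ∀ i, c i • F i o' = c i • F i o + c i • F o o' := fun i => by rw [← smul_add, N.tri]
    rw [Finset.sum_congr rfl fun i _ => h1 i, Finset.sum_add_distrib, h, ← Finset.sum_smul, hc, zero_smul, add_zero]
  -- the relation for a group element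
  have hrel : ∀ t : alternatingGroup α, ∑ i, c i • F ((t : Perm α) i) i = 0 := by
    intro t
    have h1 : ∑ i, c i • F ((t : Perm α) i) ((t : Perm α) o) = 0 := by
      have h2 := congrArg (ρ t) (hbase o)
      rw [map_zero, map_sum] at h2
      rw [← h2]
      exact Finset.sum_congr rfl fun i _ => by rw [map_smul, N.act]
    have h2 : ∀ i, c i • F ((t : Perm α) i) i = c i • F ((t : Perm α) i) ((t : Perm α) o) - c i • F i ((t : Perm α) o) := by
      intro i
      rw [← smul_sub]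
      congr 1
      rw [← N.tri ((t : Perm α) i) ((t : Perm α) o) i, N.anti i ((t : Perm α) o), sub_eq_add_neg]
    rw [Finset.sum_congr rfl fun i _ => h2 i, Finset.sum_sub_distrib, h1, hbase, sub_zero]
  -- three points
  have hthree : ∀ x y z : α, x ≠ y → y ≠ z → x ≠ z → (c x - c z) • F y x + (c y - c z) • F z y = 0 := by
    intro x y z h1 h2 h3
    have h4 := hrel (cyc x y z h1 h2)
    have h5 : ∑ i, c i • F (((cyc x y z h1 h2 : alternatingGroup α) : Perm α) i) i =
        ∑ i ∈ {x, y, z}, c i • F (((cyc x y z h1 h2 : alternatingGroup α) : Perm α) i) i := by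
      symm
      apply Finset.sum_subset (Finset.subset_univ _)
      intro w _ hw
      simp only [Finset.mem_insert, Finset.mem_singleton, not_or] at hw
      rw [cyc_of_ne h1 h2 hw.1 hw.2.1 hw.2.2, N.self, smul_zero]
    rw [h5, Finset.sum_insert (by simp [h1, h3]), Finset.sum_insert (by simp [h2]), Finset.sum_singleton,
      cyc_fst h1 h2 h3, cyc_snd h1 h2 h3, cyc_thd h1 h2, N.anti z x, ← N.tri z y x] at h4
    rw [← h4, sub_smul, sub_smul, smul_neg, smul_add]
    abel
  by_cases hyz : y = z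
  · rw [hyz]
  obtain ⟨x, hx⟩ := exists_notMem (l := [y, z]) (by simp only [List.length_cons, List.length_nil]; omega)
  simp only [List.mem_cons, List.not_mem_nil, or_false, not_or] at hx
  obtain ⟨w, hw⟩ := exists_notMem (l := [x, y, z]) (by simp only [List.length_cons, List.length_nil]; omega)
  simp only [List.mem_cons, List.not_mem_nil, or_false, not_or] at hw
  obtain ⟨u, hu⟩ := exists_notMem (l := [x, y, z, w]) (by simp only [List.length_cons, List.length_nil]; omega)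
  simp only [List.mem_cons, List.not_mem_nil, or_false, not_or] at hu
  have h1 := hthree x y z hx.1 hyz hx.2
  -- `z → w → u → z` fixes `x` and `y`
  have h2 := congrArg (ρ (cyc z w u (Ne.symm hw.2.2) (Ne.symm hu.2.2.2))) h1
  rw [map_zero, map_add, map_smul, map_smul, N.act, N.act, cyc_fst (Ne.symm hw.2.2) (Ne.symm hu.2.2.2)
    (Ne.symm hu.2.2.1), cyc_of_ne (Ne.symm hw.2.2) (Ne.symm hu.2.2.2) hyz (Ne.symm hw.2.1) (Ne.symm hu.2.1),
    cyc_of_ne (Ne.symm hw.2.2) (Ne.symm hu.2.2.2) hx.2 (Ne.symm hw.1) (Ne.symm hu.1)] at h2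
  have h3 : (c y - c z) • F z w = 0 := by
    have h4 : F z w = F z y - F w y := by rw [← N.tri z y w, N.anti w y, sub_eq_add_neg]
    rw [h4, smul_sub]
    have h5 := h1
    rw [← h2] at h5
    exact sub_eq_zero.2 (add_left_cancel h5)
  rcases smul_eq_zero.1 h3 with h4 | h4
  · exact sub_eq_zero.1 h4
  · exact absurd h4 (N.ne_zero h8 (Ne.symm hw.2.2))

theorem nontrivial (N : NatM ρ F) : Nontrivial V := by
  obtain ⟨i, j, h⟩ := N.ne
  exact ⟨⟨_, _, h⟩⟩

/-- `v i = ∑ j, F i j` -/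
def vec (F : α → α → V) (i : α) : V := ∑ j, F i j

theorem vec_sub (N : NatM ρ F) (i k : α) : vec F i - vec F k = (Fintype.card α : K) • F i k := by
  unfold vec
  rw [← Finset.sum_sub_distrib]
  have h1 : ∀ j, F i j - F k j = F i k := fun j => by
    rw [← N.tri i j k, N.anti k j, sub_eq_add_neg]
  rw [Finset.sum_congr rfl fun j _ => h1 j, Finset.sum_const, Finset.card_univ, Nat.cast_smul_eq_nsmul]

theorem sum_vec (N : NatM ρ F) : ∑ i, vec F i = 0 := by
  unfold vec
  -- `F i j = F i o - F j o`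
  rcases isEmpty_or_nonempty α with h | ⟨⟨o⟩⟩
  · simp
  · have h1 : ∀ i j, F i j = F i o - F j o := fun i j => by rw [← N.tri i j o]; abel
    have h2 : ∀ i, ∑ j, F i j = (Fintype.card α) • F i o - ∑ j, F j o := fun i => by
      rw [Finset.sum_congr rfl fun j _ => h1 i j, Finset.sum_sub_distrib, Finset.sum_const, Finset.card_univ]
    rw [Finset.sum_congr rfl fun i _ => h2 i, Finset.sum_sub_distrib, Finset.sum_const, Finset.card_univ,
      ← Finset.smul_sum, sub_self]

theorem act_vec (N : NatM ρ F) (g : alternatingGroup α) (i : α) : ρ g (vec F i) = vec F ((g : Perm α) i) := by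
  unfold vec
  rw [map_sum, Finset.sum_congr rfl fun j _ => N.act g i j]
  exact Equiv.sum_comp (g : Perm α) fun j => F ((g : Perm α) i) j

/-- **The natural module, `m ≠ 0` in `K`.** -/
theorem sys_of_ne (N : NatM ρ F) (h8 : 8 ≤ Fintype.card α) (hm : (Fintype.card α : K) ≠ 0) : Sys K (vec F) := by
  have := N.nontrivial
  refine sys_of_rel ?_ N.sum_vec ?_
  · rw [eq_top_iff, ← N.span, Submodule.span_le]
    rintro _ ⟨⟨i, j⟩, rfl⟩
    have h1 : F i j = (Fintype.card α : K)⁻¹ • (vec F i - vec F j) := by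
      rw [N.vec_sub, smul_smul, inv_mul_cancel₀ hm, one_smul]
    change F i j ∈ _
    rw [h1]
    exact Submodule.smul_mem _ _ (Submodule.sub_mem _ (Submodule.subset_span ⟨i, rfl⟩) (Submodule.subset_span ⟨j, rfl⟩))
  · intro c hc i j
    have h1 : ∑ k, ((Fintype.card α : K) * c k - ∑ l, c l) • F k i = 0 := by
      have h2 : ∀ k, vec F k = (Fintype.card α : K) • F k i - ∑ l, F l i := by
        intro k
        unfold vec
        have h3 : ∀ l, F k l = F k i - F l i := fun l => by rw [← N.tri k l i]; abel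
        rw [Finset.sum_congr rfl fun l _ => h3 l, Finset.sum_sub_distrib, Finset.sum_const, Finset.card_univ,
          Nat.cast_smul_eq_nsmul]
      rw [Finset.sum_congr rfl fun k _ => by rw [h2 k]] at hc
      simp only [smul_sub, smul_smul, Finset.sum_sub_distrib] at hc
      simp only [sub_smul, Finset.sum_sub_distrib]
      rw [← hc]
      congr 1
      · exact Finset.sum_congr rfl fun k _ => by rw [mul_comm]
      · rw [← Finset.sum_smul, Finset.smul_sum]
    have h2 := N.rel h8 (c := fun k => (Fintype.card α : K) * c k - ∑ l, c l) (by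
      rw [Finset.sum_sub_distrib, ← Finset.mul_sum, Finset.sum_const, Finset.card_univ, nsmul_eq_mul, sub_self]) h1 i j
    exact mul_left_cancel₀ hm (sub_left_injective h2)

theorem vec_eq_zero (N : NatM ρ F) (h8 : 8 ≤ Fintype.card α) (hm : (Fintype.card α : K) = 0) (hirr : Irr ρ) (i : α) :
    vec F i = 0 := by
  have h1 : ∀ j, vec F j = vec F i := fun j => by
    have := N.vec_sub j i
    rw [hm, zero_smul] at this
    exact sub_eq_zero.1 this
  have h2 : vec F i ∈ fixV ρ := fun g => by rw [N.act_vec, h1]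
  obtain ⟨x, hx⟩ := exists_notMem (l := [i]) (by simp only [List.length_cons, List.length_nil]; omega)
  simp only [List.mem_cons, List.not_mem_nil, or_false] at hx
  obtain ⟨y, hy⟩ := exists_notMem (l := [i, x]) (by simp only [List.length_cons, List.length_nil]; omega)
  simp only [List.mem_cons, List.not_mem_nil, or_false, not_or] at hy
  obtain ⟨g, hg1, hg2⟩ := exists_g h8 (x := i) (y := x) (x' := i) (y' := y) (Ne.symm hx) (Ne.symm hy.1)
  have h3 : ρ g (F i x) ≠ F i x := by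
    rw [N.act, hg1, hg2]
    intro h
    have h4 := N.tri i x y
    rw [h, add_eq_left] at h4
    exact N.ne_zero h8 (Ne.symm hy.2) h4
  rw [fixV_eq_bot ρ hirr h3, Submodule.mem_bot] at h2
  exact h2

/-- **The natural module, `m = 0` in `K`.** -/
theorem sys_of_eq (N : NatM ρ F) (h8 : 8 ≤ Fintype.card α) (hm : (Fintype.card α : K) = 0) (hirr : Irr ρ) (o : α) :
    Sys K (fun i : {i : α // i ≠ o} => F i o) := by
  have := N.nontrivial
  have hsum : ∀ f : α → V, f o = 0 → ∑ i : {i : α // i ≠ o}, f i = ∑ i, f i := by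
    intro f hf
    rw [← Finset.sum_subtype (Finset.univ.erase o) (fun x => by simp) f]
    exact Finset.sum_erase _ hf
  refine sys_of_rel ?_ ?_ ?_
  · rw [eq_top_iff, ← N.span, Submodule.span_le]
    have hmem : ∀ i, F i o ∈ Submodule.span K (Set.range fun i : {i : α // i ≠ o} => F i o) := by
      intro i
      by_cases h : i = o
      · rw [h, N.self]; exact Submodule.zero_mem _
      · exact Submodule.subset_span ⟨⟨i, h⟩, rfl⟩
    rintro _ ⟨⟨i, j⟩, rfl⟩
    change F i j ∈ _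
    have h1 : F i j = F i o - F j o := by rw [← N.tri i j o]; abel
    rw [h1]
    exact Submodule.sub_mem _ (hmem i) (hmem j)
  · rw [hsum (fun i => F i o) (N.self o)]
    have h1 := N.vec_eq_zero h8 hm hirr o
    unfold vec at h1
    have h2 : ∑ i, F i o = -∑ j, F o j := by
      rw [← Finset.sum_neg_distrib]
      exact Finset.sum_congr rfl fun j _ => N.anti o j
    rw [h2, h1, neg_zero]
  · intro c hc i j
    let c' : α → K := fun x => if h : x ≠ o then c ⟨x, h⟩ else -∑ k, c k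
    have hc' : ∀ x : {i : α // i ≠ o}, c' x = c x := fun x => dif_pos x.2
    have hco : c' o = -∑ k, c k := dif_neg (by simp)
    have h1 : ∑ x, c' x = 0 := by
      rw [← Finset.add_sum_erase _ _ (Finset.mem_univ o), hco,
        Finset.sum_subtype (Finset.univ.erase o) (p := fun x => x ≠ o) (fun x => by simp) c',
        Finset.sum_congr rfl fun x _ => hc' x, neg_add_cancel]
    have h2 : ∑ x, c' x • F x o = 0 := by
      rw [← hsum (fun x => c' x • F x o) (by rw [N.self, smul_zero]), ← hc]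
      exact Finset.sum_congr rfl fun x _ => by rw [hc']
    have h3 := N.rel h8 h1 h2 (i : α) (j : α)
    rwa [hc', hc'] at h3

theorem finrank_of_ne (N : NatM ρ F) (h8 : 8 ≤ Fintype.card α) (hm : (Fintype.card α : K) ≠ 0) :
    Module.finrank K V + 1 = Fintype.card α := (N.sys_of_ne h8 hm).card.symm

theorem finrank_of_eq (N : NatM ρ F) (h8 : 8 ≤ Fintype.card α) (hm : (Fintype.card α : K) = 0) (hirr : Irr ρ) :
    Module.finrank K V + 2 = Fintype.card α := by
  obtain ⟨o⟩ : Nonempty α := Fintype.card_pos_iff.1 (by omega)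
  have h := (N.sys_of_eq h8 hm hirr o).card
  rw [Fintype.card_subtype_compl, Fintype.card_subtype_eq] at h
  omega

end NatM

end Cfsg.Agent.H964.AltMod
end

-- part: H964/AltMod/Mat
section
prune_inst 0x10024042022000000180010120000200400042200430000294002420a414060200526410290001002908cc16001002000000010422000000a000c000000002080805200b3480004040087800080000000000000000000000000000000000000000000000
set_option linter.all false
open scoped Cfsg.Agent.FastGrp

-- part: H964/AltMod/Tr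
section
/-!
# The natural module of the alternating group: traces (helper964)

* `sys_trace` : `f (v i) = v (σ i)` : the trace of `f` is `#fix σ - 1`;
* `NatM.trace_of_ne`, `NatM.trace_of_eq` : the trace of `ρ g` is `#fix g - 1` resp. `#fix g - 2`.
-/

set_option autoImplicit false
set_option linter.unusedSectionVars false

namespace Cfsg.Agent.H964.AltMod

open Equiv Equiv.Perm Cfsg.Agent.H614.AMod Cfsg.Agent.H882.Del

section

variable {K V : Type*} [Field K] [AddCommGroup V] [Module K V] [FiniteDimensional K V]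
variable {ι : Type*} [Fintype ι] [DecidableEq ι] {v : ι → V}

/-- the number of fixed points -/
def fix (σ : Perm ι) : ℕ := (Finset.univ.filter fun i => σ i = i).card

theorem fix_inv (σ : Perm ι) : fix σ⁻¹ = fix σ := by
  unfold fix
  congr 1
  ext i
  simp only [Finset.mem_filter, Finset.mem_univ, true_and]
  rw [Perm.inv_eq_iff_eq]
  exact eq_comm

/-- linear independence of all but one of the vectors of a `Sys` -/
theorem sys_li (S : Sys K v) (o : ι) : LinearIndependent K (fun i : {i : ι // i ≠ o} => v i) := by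
  rw [Fintype.linearIndependent_iff]
  intro c hc i
  let c' : ι → K := fun x => if h : x ≠ o then c ⟨x, h⟩ else 0
  have hc' : ∀ x : {i : ι // i ≠ o}, c' x = c x := fun x => dif_pos x.2
  have hco : c' o = 0 := dif_neg (by simp)
  have h1 : ∑ x, c' x • v x = 0 := by
    rw [← Finset.add_sum_erase _ _ (Finset.mem_univ o), hco, zero_smul, zero_add,
      Finset.sum_subtype (Finset.univ.erase o) (p := fun x => x ≠ o) (fun x => by simp) (fun x => c' x • v x), ← hc]
    exact Finset.sum_congr rfl fun x _ => by rw [hc']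
  have h2 := S.rel h1 (i : ι) o
  rw [hc', hco] at h2
  exact h2

theorem sys_eq_neg (S : Sys K v) (o : ι) : v o = -∑ i : {i : ι // i ≠ o}, v i := by
  have h := S.sum
  rw [← Finset.add_sum_erase _ _ (Finset.mem_univ o),
    Finset.sum_subtype (Finset.univ.erase o) (p := fun x => x ≠ o) (fun x => by simp) v] at h
  exact eq_neg_of_add_eq_zero_left h

/-- the basis `v i`, `i ≠ o` -/
noncomputable def sysBasis (S : Sys K v) (o : ι) : Module.Basis {i : ι // i ≠ o} K V :=
  Module.Basis.mk (sys_li S o) (by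
    rw [← S.span, Submodule.span_le]
    rintro _ ⟨i, rfl⟩
    by_cases h : i = o
    · rw [h, sys_eq_neg S o]
      exact Submodule.neg_mem _ (Submodule.sum_mem _ fun j _ => Submodule.subset_span ⟨j, rfl⟩)
    · exact Submodule.subset_span ⟨⟨i, h⟩, rfl⟩)

theorem sysBasis_apply (S : Sys K v) (o : ι) (i : {i : ι // i ≠ o}) : sysBasis S o i = v i := by
  unfold sysBasis
  rw [Module.Basis.mk_apply]

theorem sysBasis_repr (S : Sys K v) (o : ι) (j : ι) (i : {i : ι // i ≠ o}) :
    (sysBasis S o).repr (v j) i = (if j = i then 1 else 0) - (if j = o then 1 else 0) := by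
  by_cases h : j = o
  · subst h
    have h1 : v j = -∑ i : {i : ι // i ≠ j}, sysBasis S j i := by
      rw [sys_eq_neg S j]
      exact congrArg _ (Finset.sum_congr rfl fun i _ => by rw [sysBasis_apply])
    rw [h1, map_neg, map_sum, Finsupp.neg_apply, Finsupp.finsetSum_apply, if_neg (fun h => i.2 h.symm), if_pos rfl,
      zero_sub, Finset.sum_eq_single i]
    · rw [Module.Basis.repr_self, Finsupp.single_eq_same]
    · intro k _ hk
      rw [Module.Basis.repr_self, Finsupp.single_eq_of_ne (by first | exact hk | exact hk.symm)]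
    · exact fun h => absurd (Finset.mem_univ _) h
  · rw [if_neg h, sub_zero, show v j = sysBasis S o ⟨j, h⟩ from (sysBasis_apply S o ⟨j, h⟩).symm,
      Module.Basis.repr_self]
    by_cases hji : j = i
    · rw [if_pos hji]
      have : (⟨j, h⟩ : {i : ι // i ≠ o}) = i := Subtype.ext hji
      rw [this, Finsupp.single_eq_same]
    · rw [if_neg hji]
      have : (⟨j, h⟩ : {i : ι // i ≠ o}) ≠ i := fun e => hji (congrArg Subtype.val e)
      rw [Finsupp.single_eq_of_ne (by first | exact this | exact this.symm)]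

theorem sum_ite_perm (σ : Perm ι) (o : ι) : ∑ i, (if σ i = o then (1 : K) else 0) = 1 := by
  rw [Finset.sum_eq_single (σ.symm o)]
  · rw [if_pos (σ.apply_symm_apply o)]
  · intro i _ hi
    rw [if_neg]
    rintro rfl
    exact hi (σ.symm_apply_apply i).symm
  · exact fun h => absurd (Finset.mem_univ _) h

theorem sum_ite_fix (σ : Perm ι) : ∑ i, (if σ i = i then (1 : K) else 0) = (fix σ : K) := by
  rw [Finset.sum_ite, Finset.sum_const_zero, add_zero, Finset.sum_const, nsmul_eq_mul, mul_one]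
  rfl

/-- **The trace in a `Sys`.** -/
theorem sys_trace (S : Sys K v) {f : V →ₗ[K] V} {σ : Perm ι} (h : ∀ i, f (v i) = v (σ i)) :
    LinearMap.trace K V f = (fix σ : K) - 1 := by
  classical
  obtain ⟨o, -, -⟩ := S.exists_two
  rw [LinearMap.trace_eq_matrix_trace K (sysBasis S o) f, Matrix.trace]
  have h1 : ∀ i : {i : ι // i ≠ o}, Matrix.diag (LinearMap.toMatrix (sysBasis S o) (sysBasis S o) f) i =
      (fun i : ι => (if σ i = i then (1 : K) else 0) - (if σ i = o then 1 else 0)) i := by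
    intro i
    rw [Matrix.diag_apply, LinearMap.toMatrix_apply, sysBasis_apply, h, sysBasis_repr]
  rw [Finset.sum_congr rfl fun i _ => h1 i,
    ← Finset.sum_subtype (Finset.univ.erase o) (fun x => by simp)
      (fun i : ι => (if σ i = i then (1 : K) else 0) - (if σ i = o then 1 else 0)),
    Finset.sum_erase _ (by simp), Finset.sum_sub_distrib, sum_ite_fix, sum_ite_perm]

end

variable {α : Type*} [Fintype α] [DecidableEq α]
variable {K V : Type*} [Field K] [AddCommGroup V] [Module K V] [FiniteDimensional K V]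

namespace NatM

variable {ρ : Representation K (alternatingGroup α) V} {F : α → α → V}

theorem trace_of_ne (N : NatM ρ F) (h8 : 8 ≤ Fintype.card α) (hm : (Fintype.card α : K) ≠ 0) (g : alternatingGroup α) :
    LinearMap.trace K V (ρ g) = (fix (g : Perm α) : K) - 1 :=
  sys_trace (N.sys_of_ne h8 hm) fun i => N.act_vec g i

theorem trace_of_eq (N : NatM ρ F) (h8 : 8 ≤ Fintype.card α) (hm : (Fintype.card α : K) = 0) (hirr : Irr ρ)
    (g : alternatingGroup α) : LinearMap.trace K V (ρ g) = (fix (g : Perm α) : K) - 2 := by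
  classical
  obtain ⟨o, o', hoo⟩ : ∃ o o' : α, o' ≠ o := by
    obtain ⟨i, j, h⟩ := N.ne
    refine ⟨i, j, ?_⟩
    rintro rfl
    exact h (N.self _)
  let S := N.sys_of_eq h8 hm hirr o
  let p : {i : α // i ≠ o} := ⟨o', hoo⟩
  -- the coordinates of `F j o`
  have hc : ∀ (j : α) (i : {i : {i : α // i ≠ o} // i ≠ p}), (sysBasis S p).repr (F j o) i =
      (if j = (i : {i : α // i ≠ o}) then 1 else 0) - (if j = o' then 1 else 0) := by
    intro j i
    by_cases h : j = o
    · have hi : o ≠ ((i : {i : α // i ≠ o}) : α) := fun e => i.1.2 e.symm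
      rw [h, N.self, map_zero, Finsupp.zero_apply, if_neg hi, if_neg (Ne.symm hoo), sub_zero]
    · have h1 := sysBasis_repr S p ⟨j, h⟩ i
      change (sysBasis S p).repr (F j o) i = _ at h1
      rw [h1]
      congr 1
      · by_cases e : j = ((i : {i : α // i ≠ o}) : α)
        · rw [if_pos e, if_pos (Subtype.ext e)]
        · rw [if_neg e, if_neg (fun e' => e (congrArg Subtype.val e'))]
      · by_cases e : j = o'
        · rw [if_pos e, if_pos (Subtype.ext e)]
        · rw [if_neg e, if_neg (fun e' => e (congrArg Subtype.val e'))]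
  rw [LinearMap.trace_eq_matrix_trace K (sysBasis S p) (ρ g), Matrix.trace]
  let t : α → K := fun i => (if (g : Perm α) i = i then (1 : K) else 0) - (if (g : Perm α) i = o' then 1 else 0) -
    ((if (g : Perm α) o = i then (1 : K) else 0) - (if (g : Perm α) o = o' then 1 else 0))
  have h1 : ∀ i : {i : {i : α // i ≠ o} // i ≠ p}, Matrix.diag (LinearMap.toMatrix (sysBasis S p) (sysBasis S p) (ρ g)) i =
      t i := by
    intro i
    rw [Matrix.diag_apply, LinearMap.toMatrix_apply, sysBasis_apply, N.act]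
    have h2 : F ((g : Perm α) ((i : {i : α // i ≠ o}) : α)) ((g : Perm α) o) =
        F ((g : Perm α) ((i : {i : α // i ≠ o}) : α)) o - F ((g : Perm α) o) o := by
      rw [← N.tri _ ((g : Perm α) o) o]; abel
    rw [h2, map_sub, Finsupp.sub_apply, hc, hc]
  rw [Finset.sum_congr rfl fun i _ => h1 i]
  have h3 : ∑ i : {i : {i : α // i ≠ o} // i ≠ p}, t i = ∑ i, t i := by
    rw [← Finset.sum_subtype (Finset.univ.erase p) (fun x => by simp) (fun i : {i : α // i ≠ o} => t i),
      Finset.sum_erase _ (by simp [t, p]), ← Finset.sum_subtype (Finset.univ.erase o) (fun x => by simp) t,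
      Finset.sum_erase _ (by simp [t])]
  rw [h3]
  simp only [t]
  rw [Finset.sum_sub_distrib, Finset.sum_sub_distrib, Finset.sum_sub_distrib, sum_ite_fix, sum_ite_perm, Finset.sum_const,
    Finset.card_univ, Finset.sum_ite_eq, if_pos (Finset.mem_univ _), nsmul_eq_mul, hm, zero_mul]
  ring

end NatM

end Cfsg.Agent.H964.AltMod
end

-- part: H964/AltMod/Mat
section
/-!
# Matrix groups isomorphic to alternating groups (helper964)

`P ≤ GL(ι, F)` a `Core`, `φ : P ≃* Alt α`, `|α| ≥ 8`.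

* `equivOfSoc` : `P ∩ scalars = 1` : `P ≃* Soc P`;
* `rep φ` : the representation; `irr_rep`, `exists_move_rep`, `trace_rep`;
* `exists_natM` : `Indep (rep φ)` : the vectors `F i j`; `exists_natM_odd` : for `p` odd, `n ≤ 12`;
* `dim_cases` : `n = m - 1`, `m ≠ 0` in `F`, or `n = m - 2`, `m = 0` in `F`;
* `sd`, `fr`, `card_eq` : `SD P`, `Fr P p`, `|F| = p`.
-/

set_option autoImplicit false
set_option linter.unusedSectionVars false

namespace Cfsg.Agent.H964.AltMod

open Equiv Equiv.Perm Cfsg Cfsg.Geo Matrix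
open Cfsg.Agent.H614.AMod Cfsg.Agent.H882.Del Cfsg.Agent.H915.LD

universe u

variable {ι : Type} [Fintype ι] [DecidableEq ι] {F : Type u} [Field F] {P : Subgroup (GL ι F)}

/-- `P ∩ scalars = 1` -/
theorem equivOfSoc (hZ : (scalars ι F).subgroupOf P = ⊥) {T : Type*} [Group T] (e : Soc P ≃* T) :
    Nonempty (P ≃* T) :=
  ⟨((QuotientGroup.quotientBot (G := P)).symm.trans (QuotientGroup.quotientMulEquivOfEq hZ.symm)).trans e⟩

section rep

variable {A : Type*} [Group A] (φ : P ≃* A)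

/-- the representation of an isomorphic group -/
noncomputable def rep : Representation F A (ι → F) where
  toFun a := Matrix.toLin' ((φ.symm a : GL ι F) : Matrix ι ι F)
  map_one' := by
    rw [map_one, Subgroup.coe_one, Units.val_one, Matrix.toLin'_one]
    rfl
  map_mul' a b := by
    rw [map_mul, Subgroup.coe_mul, Units.val_mul, Matrix.toLin'_mul]
    rfl

theorem rep_apply (a : A) (v : ι → F) : rep φ a v = ((φ.symm a : GL ι F) : Matrix ι ι F) *ᵥ v :=
  Matrix.toLin'_apply _ _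

theorem rep_apply' (g : P) (v : ι → F) : rep φ (φ g) v = ((g : GL ι F) : Matrix ι ι F) *ᵥ v := by
  rw [rep_apply, MulEquiv.symm_apply_apply]

theorem trace_rep (g : P) : LinearMap.trace F (ι → F) (rep φ (φ g)) = tr (g : GL ι F) := by
  have h : rep φ (φ g) = Matrix.toLin' ((g : GL ι F) : Matrix ι ι F) :=
    LinearMap.ext fun v => by rw [rep_apply', Matrix.toLin'_apply]
  rw [h]
  unfold tr
  rw [LinearMap.trace_eq_matrix_trace F (Pi.basisFun F ι), LinearMap.toMatrix_eq_toMatrix', LinearMap.toMatrix'_toLin']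

theorem irr_rep (hC : Core P) : Irr (rep φ) := by
  intro W hW
  refine hC.absIrred.1 W fun s hs => ?_
  obtain ⟨g, hg, rfl⟩ := hs
  rintro _ ⟨w, hw, rfl⟩
  have h1 := hW (φ ⟨g, hg⟩) w hw
  rw [rep_apply'] at h1
  rwa [Matrix.toLin'_apply]

theorem exists_move_rep (hC : Core P) : ∃ (a : A) (v : ι → F), rep φ a v ≠ v := by
  by_contra h
  push Not at h
  apply hC.nonabelian
  have h1 : ∀ g : P, g = 1 := by
    intro g
    apply Subtype.ext
    apply Units.ext
    apply Matrix.toLin'.injective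
    refine LinearMap.ext fun v => ?_
    have h2 := h (φ g) v
    rw [rep_apply'] at h2
    rw [Matrix.toLin'_apply, h2, Subgroup.coe_one, Units.val_one, Matrix.toLin'_one, LinearMap.id_apply]
  refine ⟨⟨fun a b => ?_⟩⟩
  induction a using QuotientGroup.induction_on with
  | H a =>
    induction b using QuotientGroup.induction_on with
    | H b => rw [h1 a, h1 b]

end rep

variable {α : Type*} [Fintype α] [DecidableEq α] (φ : P ≃* alternatingGroup α)

theorem exists_natM (hC : Core P) (h8 : 8 ≤ Fintype.card α) (hD : Indep (rep φ)) :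
    ∃ w : α → α → (ι → F), NatM (rep φ) w := by
  obtain ⟨a, v, hv⟩ := exists_move_rep φ hC
  obtain ⟨w, h1, h2, h3, h4, h5⟩ := natural hD h8 (irr_rep φ hC) hv
  exact ⟨w, h1, h2, h3, h4, h5⟩

theorem exists_natM_odd (hC : Core P) (h8 : 8 ≤ Fintype.card α) (h2 : (2 : F) ≠ 0) (hn : Fintype.card ι ≤ 12) :
    ∃ w : α → α → (ι → F), NatM (rep φ) w :=
  exists_natM φ hC h8 (indep_odd h8 h2 (by rwa [Module.finrank_fintype_fun_eq_card]))

variable {φ} {w : α → α → (ι → F)}

theorem dim_cases (hC : Core P) (h8 : 8 ≤ Fintype.card α) (N : NatM (rep φ) w) :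
    ((Fintype.card α : F) ≠ 0 ∧ Fintype.card ι + 1 = Fintype.card α) ∨
      ((Fintype.card α : F) = 0 ∧ Fintype.card ι + 2 = Fintype.card α) := by
  by_cases h : (Fintype.card α : F) = 0
  · have h1 := N.finrank_of_eq h8 h (irr_rep φ hC)
    rw [Module.finrank_fintype_fun_eq_card] at h1
    exact Or.inr ⟨h, h1⟩
  · have h1 := N.finrank_of_ne h8 h
    rw [Module.finrank_fintype_fun_eq_card] at h1
    exact Or.inl ⟨h, h1⟩

theorem tr_of_ne (h8 : 8 ≤ Fintype.card α) (N : NatM (rep φ) w) (hm : (Fintype.card α : F) ≠ 0) (g : P) :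
    tr (g : GL ι F) = (fix ((φ g : alternatingGroup α) : Perm α) : F) - 1 := by
  rw [← trace_rep φ g, N.trace_of_ne h8 hm]

theorem tr_of_eq (hC : Core P) (h8 : 8 ≤ Fintype.card α) (N : NatM (rep φ) w) (hm : (Fintype.card α : F) = 0) (g : P) :
    tr (g : GL ι F) = (fix ((φ g : alternatingGroup α) : Perm α) : F) - 2 := by
  rw [← trace_rep φ g, N.trace_of_eq h8 hm (irr_rep φ hC)]

theorem sd (hC : Core P) (h8 : 8 ≤ Fintype.card α) (N : NatM (rep φ) w) : SD P := by
  intro g hg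
  have h1 : fix ((φ (⟨g, hg⟩⁻¹ : P) : alternatingGroup α) : Perm α) = fix ((φ ⟨g, hg⟩ : alternatingGroup α) : Perm α) := by
    rw [map_inv, Subgroup.coe_inv, fix_inv]
  by_cases h : (Fintype.card α : F) = 0
  · have h2 := tr_of_eq hC h8 N h (⟨g, hg⟩⁻¹ : P)
    have h3 := tr_of_eq hC h8 N h ⟨g, hg⟩
    rw [h1, ← h3] at h2
    exact h2
  · have h2 := tr_of_ne h8 N h (⟨g, hg⟩⁻¹ : P)
    have h3 := tr_of_ne h8 N h ⟨g, hg⟩
    rw [h1, ← h3] at h2
    exact h2

theorem fr (hC : Core P) (h8 : 8 ≤ Fintype.card α) (N : NatM (rep φ) w) (p : ℕ) [hp : Fact p.Prime] [CharP F p] :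
    Fr P p := by
  intro g hg
  have key : ∀ k c : ℕ, ((k : F) - (c : F)) ^ p = (k : F) - (c : F) := by
    intro k c
    have h1 := map_sub (frobenius F p) (k : F) (c : F)
    rw [map_natCast, map_natCast, frobenius_def] at h1
    exact h1
  by_cases h : (Fintype.card α : F) = 0
  · have h3 := tr_of_eq hC h8 N h ⟨g, hg⟩
    have h4 := key (fix ((φ ⟨g, hg⟩ : alternatingGroup α) : Perm α)) 2
    rw [Nat.cast_ofNat, ← h3] at h4
    exact h4
  · have h3 := tr_of_ne h8 N h ⟨g, hg⟩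
    have h4 := key (fix ((φ ⟨g, hg⟩ : alternatingGroup α) : Perm α)) 1
    rw [Nat.cast_one, ← h3] at h4
    exact h4

theorem card_eq [Fintype F] (hC : Core P) (h8 : 8 ≤ Fintype.card α) (N : NatM (rep φ) w) (p : ℕ) [hp : Fact p.Prime]
    [CharP F p] : Fintype.card F = p := hC.card_eq p (fr hC h8 N p)

end Cfsg.Agent.H964.AltMod
end

private theorem dce_789386082b96 : _root_.True := by
  try have : _root_.True := by simp only [_root_.Cfsg.Agent.H964.AltMod.fix.congr_simp]
  exact _root_.True.intro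
end

-- part: H614/AMod/NineC
section
prune_inst 0x20044040220000000000901300002004000100000000008820060402080000000000400080040000088c000008002000100100420000000a000400000000208080520032400004040001800080000000000000000000000000000000000004000000000
set_option linter.all false
open scoped Cfsg.Agent.FastGrp

/-!
# `Alt (Fin 9)`, characteristic 2, degree 8, 3-cycles fixed point free

* `types` : the cycle types of elements of odd order; `sq_conj` : `g ^ 2 ~ g`; `inv_conj` : `g⁻¹ ~ g`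
  unless the cycle type is `{5, 3}`;
* `y5_fpf` : the 5-cycles are fixed point free; `trace_y` : their trace is `0`;
* `trace_inv`, `trace_sq` : the traces of elements of odd order.
-/

set_option autoImplicit false
set_option linter.unusedSectionVars false

namespace Cfsg.Agent.H614.AMod.E9

open Equiv Equiv.Perm

/-! ### elements of odd order -/

theorem types_aux (s : Multiset ℕ) (h1 : ∀ n ∈ s, 3 ≤ n ∧ Odd n) (h2 : s.sum ≤ 9) :
    s = 0 ∨ s = {3} ∨ s = {5} ∨ s = {7} ∨ s = {9} ∨ s = {3, 3} ∨ s = {5, 3} ∨ s = {3, 3, 3} := by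
  have hcard : s.card * 3 ≤ s.sum := by
    have := Multiset.card_nsmul_le_sum (s := s) (a := 3) (fun x hx => (h1 x hx).1)
    simpa using this
  have hc : s.card ≤ 3 := by omega
  interval_cases h : s.card
  · left; exact Multiset.card_eq_zero.mp h
  · obtain ⟨a, rfl⟩ := Multiset.card_eq_one.mp h
    obtain ⟨ha, ha'⟩ := h1 a (by simp)
    rw [Multiset.sum_singleton] at h2
    rw [Nat.odd_iff] at ha'
    have : a = 3 ∨ a = 5 ∨ a = 7 ∨ a = 9 := by omega
    rcases this with rfl | rfl | rfl | rfl <;> simp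
  · obtain ⟨a, b, rfl⟩ := Multiset.card_eq_two.mp h
    obtain ⟨ha, ha'⟩ := h1 a (by simp)
    obtain ⟨hb, hb'⟩ := h1 b (by simp)
    rw [Multiset.insert_eq_cons, Multiset.sum_cons, Multiset.sum_singleton] at h2
    rw [Nat.odd_iff] at ha' hb'
    have : (a = 3 ∧ b = 3) ∨ (a = 5 ∧ b = 3) ∨ (a = 3 ∧ b = 5) := by omega
    rcases this with ⟨rfl, rfl⟩ | ⟨rfl, rfl⟩ | ⟨rfl, rfl⟩
    · simp
    · simp
    · right; right; right; right; right; right; left
      exact Multiset.pair_comm 3 5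
  · obtain ⟨a, b, c, rfl⟩ := Multiset.card_eq_three.mp h
    obtain ⟨ha, ha'⟩ := h1 a (by simp)
    obtain ⟨hb, hb'⟩ := h1 b (by simp)
    obtain ⟨hc, hc'⟩ := h1 c (by simp)
    rw [Multiset.insert_eq_cons, Multiset.insert_eq_cons, Multiset.sum_cons, Multiset.sum_cons,
      Multiset.sum_singleton] at h2
    have : a = 3 ∧ b = 3 ∧ c = 3 := by omega
    obtain ⟨rfl, rfl, rfl⟩ := this
    simp

theorem types (σ : Perm (Fin 9)) (h : Odd (orderOf σ)) :
    σ.cycleType = 0 ∨ σ.cycleType = {3} ∨ σ.cycleType = {5} ∨ σ.cycleType = {7} ∨ σ.cycleType = {9} ∨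
      σ.cycleType = {3, 3} ∨ σ.cycleType = {5, 3} ∨ σ.cycleType = {3, 3, 3} := by
  apply types_aux
  · intro n hn
    have h1 := Equiv.Perm.dvd_of_mem_cycleType hn
    have h2 := Equiv.Perm.two_le_of_mem_cycleType hn
    have h3 : Odd n := Odd.of_dvd_nat h h1
    refine ⟨?_, h3⟩
    rw [Nat.odd_iff] at h3
    omega
  · rw [Equiv.Perm.sum_cycleType]
    have := Finset.card_le_univ σ.support
    simpa using this

/-- conjugation by an even permutation -/
theorem ec_of {σ r h : Perm (Fin 9)} (hc : σ.cycleType = r.cycleType) (hs : sign h = 1) {k : ℤ}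
    (e : h * r * h⁻¹ = r ^ k) : ∃ τ : Perm (Fin 9), sign τ = 1 ∧ τ * σ * τ⁻¹ = σ ^ k := by
  obtain ⟨g, hg⟩ := isConj_iff.1 (isConj_iff_cycleType_eq.2 hc.symm)
  refine ⟨g * h * g⁻¹, ?_, ?_⟩
  · rw [Perm.sign_mul, Perm.sign_mul, hs, mul_one, ← Perm.sign_mul, mul_inv_cancel, Perm.sign_one]
  · rw [← hg, conj_zpow, ← e]
    group

/-- representatives -/
def r3 : Perm (Fin 9) := swap (0 : Fin 9) 1 * swap (1 : Fin 9) 2
def r33 : Perm (Fin 9) := swap (0 : Fin 9) 1 * swap (1 : Fin 9) 2 * (swap (3 : Fin 9) 4 * swap (4 : Fin 9) 5)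
def r333 : Perm (Fin 9) := swap (0 : Fin 9) 1 * swap (1 : Fin 9) 2 * (swap (3 : Fin 9) 4 * swap (4 : Fin 9) 5) * (swap (6 : Fin 9) 7 * swap (7 : Fin 9) 8)
def r5 : Perm (Fin 9) := swap (0 : Fin 9) 1 * swap (1 : Fin 9) 2 * swap (2 : Fin 9) 3 * swap (3 : Fin 9) 4
def r53 : Perm (Fin 9) := swap (0 : Fin 9) 1 * swap (1 : Fin 9) 2 * swap (2 : Fin 9) 3 * swap (3 : Fin 9) 4 * (swap (5 : Fin 9) 6 * swap (6 : Fin 9) 7)
def r7 : Perm (Fin 9) := swap (0 : Fin 9) 1 * swap (1 : Fin 9) 2 * swap (2 : Fin 9) 3 * swap (3 : Fin 9) 4 * swap (4 : Fin 9) 5 * swap (5 : Fin 9) 6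
def r9 : Perm (Fin 9) := swap (0 : Fin 9) 1 * swap (1 : Fin 9) 2 * swap (2 : Fin 9) 3 * swap (3 : Fin 9) 4 * swap (4 : Fin 9) 5 * swap (5 : Fin 9) 6 * swap (6 : Fin 9) 7 * swap (7 : Fin 9) 8

theorem ct3 : r3.cycleType = {3} := by decide +kernel
theorem ct33 : r33.cycleType = {3, 3} := by decide +kernel
theorem ct333 : r333.cycleType = {3, 3, 3} := by decide +kernel
theorem ct5 : r5.cycleType = {5} := by decide +kernel
theorem ct53 : r53.cycleType = {5, 3} := by decide +kernel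
theorem ct7 : r7.cycleType = {7} := by decide +kernel
theorem ct9 : r9.cycleType = {9} := by decide +kernel

def k3 : Perm (Fin 9) := ⟨![0, 2, 1, 3, 4, 5, 6, 8, 7], ![0, 2, 1, 3, 4, 5, 6, 8, 7], by decide, by decide⟩
def k33 : Perm (Fin 9) := ⟨![0, 2, 1, 3, 5, 4, 6, 7, 8], ![0, 2, 1, 3, 5, 4, 6, 7, 8], by decide, by decide⟩
def k333 : Perm (Fin 9) := ⟨![0, 2, 1, 6, 8, 7, 3, 5, 4], ![0, 2, 1, 6, 8, 7, 3, 5, 4], by decide, by decide⟩
def k5 : Perm (Fin 9) := ⟨![0, 2, 4, 1, 3, 5, 6, 8, 7], ![0, 3, 1, 4, 2, 5, 6, 8, 7], by decide, by decide⟩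
def l5 : Perm (Fin 9) := ⟨![0, 4, 3, 2, 1, 5, 6, 7, 8], ![0, 4, 3, 2, 1, 5, 6, 7, 8], by decide, by decide⟩
def k53 : Perm (Fin 9) := ⟨![0, 2, 4, 1, 3, 5, 7, 6, 8], ![0, 3, 1, 4, 2, 5, 7, 6, 8], by decide, by decide⟩
def k7 : Perm (Fin 9) := ⟨![0, 2, 4, 6, 1, 3, 5, 7, 8], ![0, 4, 1, 5, 2, 6, 3, 7, 8], by decide, by decide⟩
def l7 : Perm (Fin 9) := ⟨![0, 6, 5, 4, 3, 2, 1, 8, 7], ![0, 6, 5, 4, 3, 2, 1, 8, 7], by decide, by decide⟩
def k9 : Perm (Fin 9) := ⟨![0, 2, 4, 6, 8, 1, 3, 5, 7], ![0, 5, 1, 6, 2, 7, 3, 8, 4], by decide, by decide⟩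
def l9 : Perm (Fin 9) := ⟨![0, 8, 7, 6, 5, 4, 3, 2, 1], ![0, 8, 7, 6, 5, 4, 3, 2, 1], by decide, by decide⟩

theorem sq_conj (σ : Perm (Fin 9)) (h : Odd (orderOf σ)) :
    ∃ τ : Perm (Fin 9), sign τ = 1 ∧ τ * σ * τ⁻¹ = σ ^ (2 : ℤ) := by
  rcases types σ h with h | h | h | h | h | h | h | h
  · rw [cycleType_eq_zero] at h
    exact ⟨1, Perm.sign_one, by rw [h]; simp⟩
  · exact ec_of (h := k3) (h.trans ct3.symm) (by decide) (by decide)
  · exact ec_of (h := k5) (h.trans ct5.symm) (by decide) (by decide)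
  · exact ec_of (h := k7) (h.trans ct7.symm) (by decide) (by decide +kernel)
  · exact ec_of (h := k9) (h.trans ct9.symm) (by decide) (by decide +kernel)
  · exact ec_of (h := k33) (h.trans ct33.symm) (by decide) (by decide)
  · exact ec_of (h := k53) (h.trans ct53.symm) (by decide) (by decide +kernel)
  · exact ec_of (h := k333) (h.trans ct333.symm) (by decide) (by decide +kernel)

theorem inv_conj (σ : Perm (Fin 9)) (h : Odd (orderOf σ)) (h53 : σ.cycleType ≠ {5, 3}) :
    ∃ τ : Perm (Fin 9), sign τ = 1 ∧ τ * σ * τ⁻¹ = σ ^ (-1 : ℤ) := by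
  rcases types σ h with h | h | h | h | h | h | h | h
  · rw [cycleType_eq_zero] at h
    exact ⟨1, Perm.sign_one, by rw [h]; simp⟩
  · exact ec_of (h := k3) (h.trans ct3.symm) (by decide) (by decide)
  · exact ec_of (h := l5) (h.trans ct5.symm) (by decide) (by decide)
  · exact ec_of (h := l7) (h.trans ct7.symm) (by decide) (by decide)
  · exact ec_of (h := l9) (h.trans ct9.symm) (by decide) (by decide +kernel)
  · exact ec_of (h := k33) (h.trans ct33.symm) (by decide) (by decide)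
  · exact absurd h h53
  · exact ec_of (h := k333) (h.trans ct333.symm) (by decide) (by decide)


/-! ### 5-cycles -/

variable {K V : Type*} [Field K] [AddCommGroup V] [Module K V] [FiniteDimensional K V] {ρ : Representation K A9 V}

/-- `(0 1 2 3 4)` -/
def y5 : A9 := ⟨swap (0 : Fin 9) 1 * swap (1 : Fin 9) 2 * swap (2 : Fin 9) 3 * swap (3 : Fin 9) 4, by rw [mem_alternatingGroup]; decide⟩
/-- `(1 4)(2 3)` -/
def t5 : A9 := ⟨swap (1 : Fin 9) 4 * swap (2 : Fin 9) 3, by rw [mem_alternatingGroup]; decide⟩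
/-- `(0 2 4 1 3)`-type conjugator: `y ↦ y ^ 2` -/
def k5A : A9 := ⟨k5, by rw [mem_alternatingGroup]; decide⟩

theorem y5_5 : y5 ^ 5 = 1 := by decide +kernel
theorem k5_y5 : k5A * y5 = y5 ^ 2 * k5A := by decide

/-- the 3-cycles `(2 3 4)`, `(1 2 4)`, `(0 1 3)` -/
def ca : A9 := ⟨swap (2 : Fin 9) 3 * swap (3 : Fin 9) 4, by rw [mem_alternatingGroup]; decide⟩
def cb : A9 := ⟨swap (1 : Fin 9) 2 * swap (2 : Fin 9) 4, by rw [mem_alternatingGroup]; decide⟩
def cd : A9 := ⟨swap (0 : Fin 9) 1 * swap (1 : Fin 9) 3, by rw [mem_alternatingGroup]; decide⟩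

theorem cb_eq : cb = ca * t5 := by decide
theorem cd_eq : cd = y5 * (ca * cb⁻¹) := by decide
theorem ca_3 : ca ^ 3 = 1 := by decide
theorem cb_3 : cb ^ 3 = 1 := by decide

theorem ca_c3 : ca = ex (emb3 2 3 4 (by decide) (by decide) (by decide)) AMod.c3 := by
  apply Subtype.ext
  rw [coe_c3]
  rfl

theorem cb_c3 : cb = ex (emb3 1 2 4 (by decide) (by decide) (by decide)) AMod.c3 := by
  apply Subtype.ext
  rw [coe_c3]
  rfl

theorem cd_c3 : cd = ex (emb3 0 1 3 (by decide) (by decide) (by decide)) AMod.c3 := by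
  apply Subtype.ext
  rw [coe_c3]
  rfl

/-- 3-cycles are fixed point free -/
def Fpf (ρ : Representation K A9 V) : Prop := ∀ (e : Fin 3 ↪ Fin 9) (v : V), ρ (ex e AMod.c3) v = v → v = 0

theorem fixed_eq_zero (h : Fpf ρ) {u : V} (hy : ρ y5 u = u) (ht : ρ t5 u = u) : u = 0 := by
  have ha : ∀ v, ρ ca v = v → v = 0 := by rw [ca_c3]; exact h _
  have hb : ∀ v, ρ cb v = v → v = 0 := by rw [cb_c3]; exact h _
  have hd : ∀ v, ρ cd v = v → v = 0 := by rw [cd_c3]; exact h _
  have e1 : ρ cb u = ρ ca u := by rw [cb_eq, rho_mul, ht]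
  have q1 := quad_of_fpf ca_3 ha u
  have q2 := quad_of_fpf cb_3 hb u
  have e2 : ρ ca (ρ ca u) = ρ cb (ρ cb u) := by
    have a1 : ρ ca (ρ ca u) = -(ρ ca u + u) := eq_neg_of_add_eq_zero_left (by rw [← add_assoc]; exact q1)
    have a2 : ρ cb (ρ cb u) = -(ρ cb u + u) := eq_neg_of_add_eq_zero_left (by rw [← add_assoc]; exact q2)
    rw [a1, a2, e1]
  have e3 : ρ ca⁻¹ u = ρ cb⁻¹ u := by
    have i1 : ρ ca⁻¹ u = ρ ca (ρ ca u) := by
      rw [← rho_mul, show ca * ca = ca⁻¹ by decide]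
    have i2 : ρ cb⁻¹ u = ρ cb (ρ cb u) := by
      rw [← rho_mul, show cb * cb = cb⁻¹ by decide]
    rw [i1, i2, e2]
  have e4 : ρ (ca * cb⁻¹) u = u := by rw [rho_mul, ← e3, rho_self_inv]
  apply hd
  rw [cd_eq, rho_mul, e4, hy]

theorem y5_fpf (h2 : (2 : K) = 0) (h : Fpf ρ) {v : V} (hv : ρ y5 v = v) : v = 0 := by
  have hneg : ∀ w : V, -w = w := by
    intro w
    have : w + w = 0 := by rw [← two_smul K w, h2, zero_smul]
    exact neg_eq_of_add_eq_zero_left this
  have h1 : ρ y5 (ρ t5 v) = ρ t5 v := by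
    have h3 : ρ y5⁻¹ v = v := by
      conv_lhs => rw [← hv]
      exact rho_inv_self ρ y5 v
    have h4 : y5 * t5 = t5 * y5⁻¹ := by decide
    rw [← rho_mul, h4, rho_mul, h3]
  have h3 : v + ρ t5 v = 0 := by
    apply fixed_eq_zero h
    · rw [map_add, hv, h1]
    · have h4 : ρ t5 (ρ t5 v) = v := by
        rw [← rho_mul, show t5 * t5 = 1 by decide, rho_one]
      rw [map_add, h4, add_comm]
  have h4 : ρ t5 v = v := by
    have := eq_neg_of_add_eq_zero_right h3
    rw [this, hneg]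
  exact fixed_eq_zero h hv h4

open Polynomial in
/-- the trace of a 5-cycle -/
theorem trace_y_closed [IsAlgClosed K] (h2 : (2 : K) = 0) (h : Fpf ρ) (h8 : Module.finrank K V = 8) :
    LinearMap.trace K V (ρ y5) = 0 := by
  classical
  have h5 : ((5 : ℕ) : K) ≠ 0 := by
    intro h5
    have h6 : ((5 : ℕ) : K) = 1 := by
      push_cast
      linear_combination 2 * h2
    rw [h6] at h5
    exact one_ne_zero h5
  haveI : NeZero ((5 : ℕ) : K) := ⟨h5⟩
  obtain ⟨ζ, hζ⟩ := HasEnoughRootsOfUnity.exists_primitiveRoot K 5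
  have hζ5 := hζ.pow_eq_one
  set f : Module.End K V := ρ y5 with hf
  have hf5 : f ^ 5 = 1 := by rw [hf, ← map_pow, y5_5, map_one]
  have hss : f.IsSemisimple := by
    refine Module.End.isSemisimple_of_squarefree_aeval_eq_zero (p := X ^ 5 - C 1) ?_ ?_
    · exact (separable_X_pow_sub_C (1 : K) h5 one_ne_zero).squarefree
    · rw [map_sub, map_pow, aeval_X, hf5, aeval_C, map_one, sub_self]
  have hgen : ∀ μ : K, Module.finrank K (f.maxGenEigenspace μ) = Module.finrank K (eg ρ y5 μ) := by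
    intro μ
    rw [hss.isFinitelySemisimple.maxGenEigenspace_eq_eigenspace]
    have : f.eigenspace μ = eg ρ y5 μ := by
      ext v
      rw [Module.End.mem_eigenspace_iff, mem_eg]
    rw [this]
  have hcount : ∀ μ : K, f.charpoly.roots.count μ = Module.finrank K (eg ρ y5 μ) := by
    intro μ
    rw [count_roots, ← LinearMap.finrank_maxGenEigenspace_eq, hgen]
  -- conjugacy with the square
  have hstep : ∀ i : ℕ, Module.finrank K (eg ρ y5 (ζ ^ i)) ≤ Module.finrank K (eg ρ y5 (ζ ^ (3 * i))) := by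
    intro i
    apply finrank_le_of_map ρ k5A
    intro w hw
    have h3 := eg_move ρ k5_y5 hw
    have h4 := pow_eg ρ h3 3
    rw [← pow_mul, show 2 * 3 = 5 + 1 from rfl, pow_succ, y5_5, one_mul, ← pow_mul, mul_comm i 3] at h4
    exact h4
  have hmod : ∀ i : ℕ, ζ ^ (i % 5) = ζ ^ i := by
    intro i
    conv_rhs => rw [← Nat.mod_add_div i 5, pow_add, pow_mul, hζ5, one_pow, mul_one]
  have z9 : ζ ^ (3 * 3) = ζ ^ 4 := by rw [← hmod (3 * 3)]
  have z12 : ζ ^ (3 * 4) = ζ ^ 2 := by rw [← hmod (3 * 4)]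
  have z6 : ζ ^ (3 * 2) = ζ := by
    rw [← hmod (3 * 2)]
    exact pow_one ζ
  have s1 := hstep 1
  have s3 := hstep 3
  have s4 := hstep 4
  have s2 := hstep 2
  rw [show 3 * 1 = 3 from rfl, pow_one] at s1
  rw [z9] at s3
  rw [z12] at s4
  rw [z6] at s2
  have hroot : ∀ μ ∈ f.charpoly.roots, μ ∈ ({ζ ^ 1, ζ ^ 2, ζ ^ 3, ζ ^ 4} : Finset K) := by
    intro μ hμ
    have h6 : f.charpoly.roots.count μ ≠ 0 := Multiset.count_ne_zero.mpr hμ
    rw [hcount] at h6
    have h7 : eg ρ y5 μ ≠ ⊥ := by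
      intro h7
      rw [h7, finrank_bot] at h6
      exact h6 rfl
    obtain ⟨v, hv, hv0⟩ := (Submodule.ne_bot_iff _).mp h7
    obtain ⟨i, hi, hiμ⟩ := hζ.eq_pow_of_pow_eq_one (eig_pow ρ hv hv0 y5_5)
    rw [← hiμ]
    have hi0 : i ≠ 0 := by
      rintro rfl
      rw [pow_zero] at hiμ
      rw [← hiμ, mem_eg_one] at hv
      exact hv0 (y5_fpf h2 h hv)
    have : i = 1 ∨ i = 2 ∨ i = 3 ∨ i = 4 := by omega
    rcases this with rfl | rfl | rfl | rfl <;> simp only [_root_.pow_one, _root_.Finset.mem_insert, _root_.Finset.mem_singleton, _root_.true_or, _root_.or_true]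
  have hinj : ∀ i j : ℕ, i < 5 → j < 5 → i ≠ j → ζ ^ i ≠ ζ ^ j := fun i j hi hj hij h =>
    hij (hζ.pow_inj hi hj h)
  have hcard := Multiset.sum_count_eq_card hroot
  have hsum := Finset.sum_multiset_count_of_subset f.charpoly.roots ({ζ ^ 1, ζ ^ 2, ζ ^ 3, ζ ^ 4} : Finset K) (by
    intro μ hμ
    exact hroot μ (Multiset.mem_toFinset.mp hμ))
  have n1 : ζ ^ 1 ∉ ({ζ ^ 2, ζ ^ 3, ζ ^ 4} : Finset K) := by
    rw [Finset.mem_insert, Finset.mem_insert, Finset.mem_singleton]
    rintro (h | h | h)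
    · exact hinj 1 2 (by norm_num) (by norm_num) (by norm_num) h
    · exact hinj 1 3 (by norm_num) (by norm_num) (by norm_num) h
    · exact hinj 1 4 (by norm_num) (by norm_num) (by norm_num) h
  have n2 : ζ ^ 2 ∉ ({ζ ^ 3, ζ ^ 4} : Finset K) := by
    rw [Finset.mem_insert, Finset.mem_singleton]
    rintro (h | h)
    · exact hinj 2 3 (by norm_num) (by norm_num) (by norm_num) h
    · exact hinj 2 4 (by norm_num) (by norm_num) (by norm_num) h
  have n3 : ζ ^ 3 ∉ ({ζ ^ 4} : Finset K) := by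
    rw [Finset.mem_singleton]
    exact hinj 3 4 (by norm_num) (by norm_num) (by norm_num)
  rw [Finset.sum_insert n1, Finset.sum_insert n2, Finset.sum_insert n3, Finset.sum_singleton] at hcard hsum
  rw [hcount, hcount, hcount, hcount] at hcard hsum
  have hdeg : f.charpoly.roots.card = 8 := by
    rw [← h8, ← LinearMap.charpoly_natDegree f]
    exact (splits_iff_card_roots.mp (IsAlgClosed.splits _))
  rw [hdeg] at hcard
  rw [pow_one] at hcard hsum
  have e1 : Module.finrank K (eg ρ y5 ζ) = 2 := by omega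
  have e2 : Module.finrank K (eg ρ y5 (ζ ^ 2)) = 2 := by omega
  have e3 : Module.finrank K (eg ρ y5 (ζ ^ 3)) = 2 := by omega
  have e4 : Module.finrank K (eg ρ y5 (ζ ^ 4)) = 2 := by omega
  have htr := H943.TracePow.trace_pow f 1
  rw [pow_one] at htr
  simp only [pow_one, Multiset.map_id'] at htr
  rw [htr, hsum, e1, e2, e3, e4]
  have h20 : ∀ x : K, (2 : ℕ) • x = 0 := by
    intro x
    rw [two_nsmul, ← two_mul, h2, zero_mul]
  rw [h20, h20, h20, h20]
  simp

/-- `Fpf` is preserved by extension of scalars -/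
theorem Fpf.bc (h3 : ((3 : ℕ) : K) ≠ 0) (h : Fpf ρ) : Fpf (AMod.bc ρ) := by
  intro e v hv
  have h3' : ((3 : ℕ) : AlgebraicClosure K) ≠ 0 := by
    have h1 : algebraMap K (AlgebraicClosure K) ((3 : ℕ) : K) = ((3 : ℕ) : AlgebraicClosure K) := map_natCast _ 3
    rw [← h1]
    intro h
    exact h3 ((algebraMap K (AlgebraicClosure K)).injective (h.trans (map_zero _).symm))
  have hc : (ex e AMod.c3) ^ 3 = 1 := by
    rw [← map_pow, show AMod.c3 ^ 3 = 1 by decide, map_one]
  exact fpf_of_quad h3' ((quad_bc (quad_of_fpf hc (h e)) :)) hv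

theorem trace_y (h2 : (2 : K) = 0) (h : Fpf ρ) (h8 : Module.finrank K V = 8) :
    LinearMap.trace K V (ρ y5) = 0 := by
  have h3 : ((3 : ℕ) : K) ≠ 0 := by
    intro h3
    have h6 : ((3 : ℕ) : K) = 1 := by
      push_cast
      linear_combination h2
    rw [h6] at h3
    exact one_ne_zero h3
  have h2' : (2 : AlgebraicClosure K) = 0 := by
    have h1 : algebraMap K (AlgebraicClosure K) 2 = 2 := map_ofNat _ 2
    rw [← h1, h2, map_zero]
  have h4 := trace_y_closed (ρ := AMod.bc ρ) h2' (h.bc h3) (by rw [finrank_bc]; exact h8)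
  have h5 : AMod.bc ρ y5 = (ρ y5).baseChange (AlgebraicClosure K) := rfl
  rw [h5, LinearMap.trace_baseChange] at h4
  exact (algebraMap K (AlgebraicClosure K)).injective (h4.trans (map_zero _).symm)

theorem trace_conj {G : Type*} [Group G] (ρ : Representation K G V) (g h : G) :
    LinearMap.trace K V (ρ (h * g * h⁻¹)) = LinearMap.trace K V (ρ g) := by
  have h1 : ρ (h * g * h⁻¹) = ρ (h * g) * ρ h⁻¹ := map_mul ρ _ _
  rw [h1, LinearMap.trace_mul_comm, ← map_mul ρ, ← mul_assoc, inv_mul_cancel, one_mul]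

/-- `(5 6 7)` and the product with the 5-cycle -/
def c57 : A9 := ⟨swap (5 : Fin 9) 6 * swap (6 : Fin 9) 7, by rw [mem_alternatingGroup]; decide⟩
def l5A : A9 := ⟨l5, by rw [mem_alternatingGroup]; decide⟩
/-- odd, inverts `r53` -/
def m53 : Perm (Fin 9) := l5 * swap (5 : Fin 9) 6

theorem c57_c3 : c57 = ex (emb3 5 6 7 (by decide) (by decide) (by decide)) AMod.c3 := by
  apply Subtype.ext
  rw [coe_c3]
  rfl

theorem trace_r53 (h2 : (2 : K) = 0) (h : Fpf ρ) (h8 : Module.finrank K V = 8) :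
    LinearMap.trace K V (ρ (y5 * c57)⁻¹) = LinearMap.trace K V (ρ (y5 * c57)) := by
  have hc : ∀ v, ρ c57 v = v → v = 0 := by rw [c57_c3]; exact h _
  have q := quad_of_fpf (show c57 ^ 3 = 1 by decide) hc
  have e1 : ρ (y5 * c57 ^ 2) + ρ (y5 * c57) + ρ y5 = 0 := by
    ext v
    have h1 := congrArg (ρ y5) (q v)
    rw [map_add, map_add, map_zero] at h1
    rw [LinearMap.add_apply, LinearMap.add_apply, LinearMap.zero_apply, rho_mul, rho_mul, pow_two, rho_mul]
    exact h1
  have e2 := congrArg (LinearMap.trace K V) e1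
  rw [map_add, map_add, map_zero, trace_y h2 h h8, add_zero] at e2
  have e3 : (y5 * c57)⁻¹ = l5A * (y5 * c57 ^ 2) * l5A⁻¹ := by decide +kernel
  rw [e3, trace_conj]
  have e4 := eq_neg_of_add_eq_zero_left e2
  rw [e4]
  have : ∀ x : K, -x = x := fun x => by linear_combination (-x) * h2
  exact this _

theorem exists_even {σ r m : Perm (Fin 9)} (hc : σ.cycleType = r.cycleType) (hm : sign m = -1) (e : m * r * m⁻¹ = r⁻¹) :
    ∃ τ : Perm (Fin 9), sign τ = 1 ∧ (τ * r * τ⁻¹ = σ ∨ τ * r⁻¹ * τ⁻¹ = σ) := by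
  obtain ⟨g, hg⟩ := isConj_iff.1 (isConj_iff_cycleType_eq.2 hc.symm)
  rcases Int.units_eq_one_or (sign g) with h | h
  · exact ⟨g, h, Or.inl hg⟩
  · refine ⟨g * m⁻¹, ?_, Or.inr ?_⟩
    · rw [Perm.sign_mul, Perm.sign_inv, h, hm]; decide
    · rw [← hg, ← e]
      group

/-- **Traces are real.** -/
theorem trace_inv (h2 : (2 : K) = 0) (h : Fpf ρ) (h8 : Module.finrank K V = 8) (a : A9) (ha : Odd (orderOf a)) :
    LinearMap.trace K V (ρ a⁻¹) = LinearMap.trace K V (ρ a) := by
  have ha' : Odd (orderOf (a : Perm (Fin 9))) := by rwa [Subgroup.orderOf_coe]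
  by_cases h53 : (a : Perm (Fin 9)).cycleType = {5, 3}
  · obtain ⟨τ, hτ, hτa⟩ := exists_even (r := r53) (m := m53) (h53.trans ct53.symm) (by decide) (by decide +kernel)
    let t : A9 := ⟨τ, mem_alternatingGroup.mpr hτ⟩
    have h53' : ((y5 * c57 : A9) : Perm (Fin 9)) = r53 := by decide
    rcases hτa with h1 | h1
    · have e1 : a = t * (y5 * c57) * t⁻¹ := by
        apply Subtype.ext
        rw [← h1, Subgroup.coe_mul, Subgroup.coe_mul, h53']
        rfl
      have e2 : a⁻¹ = t * (y5 * c57)⁻¹ * t⁻¹ := by rw [e1]; group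
      rw [e2, e1, trace_conj, trace_conj, trace_r53 h2 h h8]
    · have e1 : a = t * (y5 * c57)⁻¹ * t⁻¹ := by
        apply Subtype.ext
        rw [← h1, Subgroup.coe_mul, Subgroup.coe_mul, Subgroup.coe_inv, h53']
        rfl
      have e2 : a⁻¹ = t * (y5 * c57) * t⁻¹ := by rw [e1]; group
      rw [e2, e1, trace_conj, trace_conj, trace_r53 h2 h h8]
  · obtain ⟨τ, hτ, hτa⟩ := inv_conj (a : Perm (Fin 9)) ha' h53
    let t : A9 := ⟨τ, mem_alternatingGroup.mpr hτ⟩
    have e1 : a⁻¹ = t * a * t⁻¹ := by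
      apply Subtype.ext
      rw [zpow_neg_one] at hτa
      rw [Subgroup.coe_inv, ← hτa]
      rfl
    rw [e1, trace_conj]

/-- **Traces are rational over the prime field.** -/
theorem trace_sq (a : A9) (ha : Odd (orderOf a)) :
    LinearMap.trace K V (ρ (a ^ 2)) = LinearMap.trace K V (ρ a) := by
  have ha' : Odd (orderOf (a : Perm (Fin 9))) := by rwa [Subgroup.orderOf_coe]
  obtain ⟨τ, hτ, hτa⟩ := sq_conj (a : Perm (Fin 9)) ha'
  let t : A9 := ⟨τ, mem_alternatingGroup.mpr hτ⟩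
  have e1 : a ^ 2 = t * a * t⁻¹ := by
    apply Subtype.ext
    rw [zpow_ofNat] at hτa
    rw [Subgroup.coe_pow, ← hτa]
    rfl
  rw [e1, trace_conj]

end Cfsg.Agent.H614.AMod.E9
end

-- part: H614/AMod/Main
section
set_option linter.all false
open scoped Cfsg.Agent.FastGrp

/-!
# Cores with simple quotient `A_m`, `m ≥ 8`, in dimension at most 12

* `alt_cases` : `P` is the natural module of `A_m` (`NatM`, see H964/AltMod), or `n = 8`, `m = 9`, `p = 2` with fixed
  point free 3-cycles, or `n = 8` and `P = 2.A_m`, `m = 8, 9`, or `m = 10`, `p = 5`;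
* `alt_sd_fr` : in all cases `SD P` and `Fr P p`;
* `alt_dim` : the dimensions.
-/

set_option autoImplicit false
set_option linter.unusedSectionVars false

namespace Cfsg.Agent.H614.AMod.Main

open Equiv Equiv.Perm Cfsg Cfsg.Geo Matrix
open Cfsg.Agent.H614.AMod Cfsg.Agent.H882.Del Cfsg.Agent.H915.LD Cfsg.Agent.H964.AltMod

universe u

variable {ι : Type} [Fintype ι] [DecidableEq ι] {F : Type u} [Field F] [Finite F] {P : Subgroup (GL ι F)} {m : ℕ}

/-- the natural case -/
structure Nat' (P : Subgroup (GL ι F)) (m : ℕ) (e : Soc P ≃* alternatingGroup (Fin m)) : Prop where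
  nat : ∃ φ : P ≃* alternatingGroup (Fin m), (∀ x, φ x = e (toSoc P x)) ∧ ∃ w : Fin m → Fin m → (ι → F), NatM (rep φ) w

/-- the spin module of `A_9` in characteristic 2 -/
structure Nine (P : Subgroup (GL ι F)) (m : ℕ) (e : Soc P ≃* alternatingGroup (Fin m)) : Prop where
  m9 : m = 9
  n8 : Fintype.card ι = 8
  two : (2 : F) = 0
  fpf : ∃ φ : P ≃* alternatingGroup (Fin m), (∀ x, φ x = e (toSoc P x)) ∧
    ∀ (f : Fin 3 ↪ Fin m) (v : ι → F), rep φ (ex f c3) v = v → v = 0

theorem char_cases (p : ℕ) [hp : Fact p.Prime] [CharP F p] : ((2 : F) = 0 ↔ p = 2) := by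
  constructor
  · intro h
    have h1 : ((2 : ℕ) : F) = 0 := by exact_mod_cast h
    have h2 := (CharP.cast_eq_zero_iff F p 2).mp h1
    exact (Nat.prime_dvd_prime_iff_eq hp.out Nat.prime_two).mp h2
  · rintro rfl
    exact CharTwo.two_eq_zero

/-- **Cores with simple quotient `A_m`, `m ≥ 8`.** -/
theorem alt_cases (hC : Core P) (p : ℕ) [hp : Fact p.Prime] [CharP F p]
    (e : Soc P ≃* alternatingGroup (Fin m)) (hm : 8 ≤ m) (hn : Fintype.card ι ≤ 12) (h82 : ¬ (m = 8 ∧ p = 2)) :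
    Nat' P m e ∨ Nine P m e ∨
      (Fintype.card ι = 8 ∧ (m = 8 ∨ m = 9 ∨ (m = 10 ∧ p = 5)) ∧ p ≠ 2 ∧ SD P ∧ Fr P p ∧ FixQ P ∧ ¬ FixA P) := by
  rcases H825.Spin.alt_red hC p e hm hn with ⟨φ, hφ⟩ | h
  · have hfr : Module.finrank F (ι → F) ≤ 12 := by rwa [Module.finrank_fintype_fun_eq_card]
    have h8 : 8 ≤ Fintype.card (Fin m) := by rwa [Fintype.card_fin]
    by_cases h2 : (2 : F) = 0
    · have hp2 : p = 2 := (char_cases p).mp h2
      have hm9 : m ≠ 8 := fun h => h82 ⟨h, hp2⟩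
      by_cases hm10 : 10 ≤ m
      · left
        have h5 : (5 : F) ≠ 0 := by
          intro h5
          have h6 : (5 : F) = 1 := by linear_combination 2 * h2
          rw [h6] at h5
          exact one_ne_zero h5
        obtain ⟨w, hw⟩ := exists_natM φ hC h8 (indep_ten (by rwa [Fintype.card_fin]) h5 (by omega))
        exact ⟨φ, hφ, w, hw⟩
      · have h9 : m = 9 := by omega
        have h3 : ((3 : ℕ) : F) ≠ 0 := by
          intro h3
          have h6 : ((3 : ℕ) : F) = 1 := by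
            push_cast
            linear_combination h2
          rw [h6] at h3
          exact one_ne_zero h3
        obtain ⟨a, v, hv⟩ := exists_move_rep φ hC
        rcases nine (ρ := rep φ) (by rw [Fintype.card_fin]; omega) h3 hfr (irr_rep φ hC) hv with h4 | ⟨h4, h5⟩
        · left
          obtain ⟨w, hw⟩ := exists_natM φ hC h8 h4
          exact ⟨φ, hφ, w, hw⟩
        · right; left
          rw [Module.finrank_fintype_fun_eq_card] at h4
          exact ⟨h9, h4, h2, φ, hφ, h5⟩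
    · left
      obtain ⟨w, hw⟩ := exists_natM_odd φ hC h8 h2 hn
      exact ⟨φ, hφ, w, hw⟩
  · exact Or.inr (Or.inr h)

theorem Nat'.sd {e : Soc P ≃* alternatingGroup (Fin m)} (hC : Core P) (hm : 8 ≤ m) (h : Nat' P m e) : SD P := by
  obtain ⟨φ, -, w, hw⟩ := h
  exact H964.AltMod.sd hC (by rwa [Fintype.card_fin]) hw

theorem Nat'.fr {e : Soc P ≃* alternatingGroup (Fin m)} (hC : Core P) (hm : 8 ≤ m) (h : Nat' P m e) (p : ℕ)
    [hp : Fact p.Prime] [CharP F p] : Fr P p := by
  obtain ⟨φ, -, w, hw⟩ := h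
  exact H964.AltMod.fr hC (by rwa [Fintype.card_fin]) hw p

theorem Nine.sd_fr {e : Soc P ≃* alternatingGroup (Fin m)} (h : Nine P m e) (p : ℕ)
    [hp : Fact p.Prime] [CharP F p] : SD P ∧ Fr P p := by
  obtain ⟨rfl, h8, h2, φ, -, hf⟩ := h
  have hp2 : p = 2 := (char_cases p).mp h2
  subst hp2
  have h8' : Module.finrank F (ι → F) = 8 := by rwa [Module.finrank_fintype_fun_eq_card]
  have hodd : ∀ g (hg : g ∈ P), ¬ 2 ∣ orderOf g → Odd (orderOf (φ ⟨g, hg⟩)) := by
    intro g hg h3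
    rw [MulEquiv.orderOf_eq, Subgroup.orderOf_mk]
    rwa [← Nat.not_even_iff_odd, even_iff_two_dvd]
  constructor
  · apply SD.of_reg 2
    intro g hg h3
    have h4 := E9.trace_inv (ρ := rep φ) h2 hf h8' _ (hodd g hg h3)
    rw [← map_inv, trace_rep, trace_rep] at h4
    exact h4
  · apply Fr.of_reg' 2
    intro g hg h3
    have h4 := E9.trace_sq (ρ := rep φ) _ (hodd g hg h3)
    rw [← map_pow, trace_rep, trace_rep] at h4
    have h5 := tr_pow_char 2 g 1
    rw [pow_one] at h5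
    rw [← h5]
    exact h4

/-- **`SD P` and `Fr P p`** for all cores with simple quotient `A_m`, `m ≥ 8`, `n ≤ 12`, `(m, p) ≠ (8, 2)`. -/
theorem alt_sd_fr (hC : Core P) (p : ℕ) [hp : Fact p.Prime] [CharP F p]
    (e : Soc P ≃* alternatingGroup (Fin m)) (hm : 8 ≤ m) (hn : Fintype.card ι ≤ 12) (h82 : ¬ (m = 8 ∧ p = 2)) :
    SD P ∧ Fr P p := by
  rcases alt_cases hC p e hm hn h82 with h | h | h
  · exact ⟨h.sd hC hm, h.fr hC hm p⟩
  · exact h.sd_fr p
  · exact ⟨h.2.2.2.1, h.2.2.2.2.1⟩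

/-- the dimensions in the natural case -/
theorem Nat'.dim {e : Soc P ≃* alternatingGroup (Fin m)} (hC : Core P) (hm : 8 ≤ m) (h : Nat' P m e) (p : ℕ)
    [hp : Fact p.Prime] [CharP F p] : (¬ p ∣ m ∧ Fintype.card ι + 1 = m) ∨ (p ∣ m ∧ Fintype.card ι + 2 = m) := by
  obtain ⟨φ, -, w, hw⟩ := h
  have h1 := H964.AltMod.dim_cases hC (by rwa [Fintype.card_fin]) hw
  rw [Fintype.card_fin, ne_eq, CharP.cast_eq_zero_iff F p m] at h1
  exact h1

end Cfsg.Agent.H614.AMod.Main
end
end
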